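import Mathlib

/-!
# Class number of a semidirect product with a coprime linear group

For a linear group `G` of order prime to `p` on the `ZMod p`-module `V`, the commuting pairs of
`V ⋊ G` are counted by `|V| * ∑ v, k(G_v) |G_v|`; for `G` transitive on `V ∖ {0}` this is
`|V| |G| (k(G) + k(G_v))`.
-/

set_option autoImplicit false
set_option linter.unusedSectionVars false
set_option linter.style.haveILetI false

namespace Cfsg.Agent.Lib.KGV46

variable {p : ℕ} [Fact p.Prime]
variable {V : Type*} [AddCommGroup V] [Module (ZMod p) V]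
variable {G : Type*} [Group G] (ρ : G →* (V ≃ₗ[ZMod p] V))

theorem rho_mul_apply (g h : G) (v : V) : ρ (g * h) v = ρ g (ρ h v) := by
  rw [map_mul]; rfl

theorem rho_one_apply (v : V) : ρ 1 v = v := by rw [map_one]; rfl

theorem rho_inv_apply_apply (g : G) (v : V) : ρ g⁻¹ (ρ g v) = v := by
  rw [← rho_mul_apply, inv_mul_cancel, rho_one_apply]

theorem rho_apply_inv_apply (g : G) (v : V) : ρ g (ρ g⁻¹ v) = v := by
  rw [← rho_mul_apply, mul_inv_cancel, rho_one_apply]

/-- The stabiliser of a vector. -/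
def stab (v : V) : Subgroup G where
  carrier := {g | ρ g v = v}
  one_mem' := rho_one_apply ρ v
  mul_mem' := fun {a b} ha hb => by
    show ρ (a * b) v = v
    rw [rho_mul_apply, hb, ha]
  inv_mem' := fun {a} ha => by
    show ρ a⁻¹ v = v
    conv_lhs => rw [show v = ρ a v from ha.symm]
    exact rho_inv_apply_apply ρ a v

theorem mem_stab {v : V} {g : G} : g ∈ stab ρ v ↔ ρ g v = v := Iff.rfl

/-- Commuting pairs of `V ⋊ G`, in coordinates. -/
abbrev SPairs : Type _ :=
  {x : (V × G) × (V × G) // Commute x.1.2 x.2.2 ∧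
    x.1.1 + ρ x.1.2 x.2.1 = x.2.1 + ρ x.2.2 x.1.1}

/-- The vectors fixed by two elements. -/
def fixPair (g h : G) : Set V := {v | ρ g v = v ∧ ρ h v = v}

variable [Finite V] [Finite G]

/-- The solutions of the cocycle condition for `(g, h)` number `|V| |C_V(g, h)|`. -/
theorem card_solutions (hG : ¬ p ∣ Nat.card G) (g h : G) :
    Nat.card {x : V × V // x.1 + ρ g x.2 = x.2 + ρ h x.1} =
      Nat.card V * Nat.card (fixPair ρ g h) := by
  classical
  haveI := Fintype.ofFinite G
  let φ : V × V →+ V :=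
    AddMonoidHom.mk' (fun x => (ρ g x.2 - x.2) - (ρ h x.1 - x.1)) fun a b => by
      simp only [Prod.fst_add, Prod.snd_add, map_add]; abel
  have hker : ∀ x : V × V, x ∈ φ.ker ↔ x.1 + ρ g x.2 = x.2 + ρ h x.1 := by
    intro x
    rw [AddMonoidHom.mem_ker, ← sub_eq_zero (a := x.1 + ρ g x.2)]
    show (ρ g x.2 - x.2) - (ρ h x.1 - x.1) = 0 ↔ _
    rw [show (ρ g x.2 - x.2) - (ρ h x.1 - x.1) = x.1 + ρ g x.2 - (x.2 + ρ h x.1) by abel]
  have h1 : Nat.card φ.ker * Nat.card φ.range = Nat.card V * Nat.card V := by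
    have h := AddSubgroup.card_mul_index φ.ker
    rw [AddSubgroup.index_ker, Nat.card_prod] at h
    exact h
  let K : Subgroup G := Subgroup.closure ({g, h} : Set G)
  have hgK : g ∈ K := Subgroup.subset_closure (by simp)
  have hhK : h ∈ K := Subgroup.subset_closure (by simp)
  have hk : ¬ p ∣ Nat.card K := fun hd => hG (hd.trans K.card_subgroup_dvd_card)
  have hk0 : (Nat.card K : ZMod p) ≠ 0 := by
    rwa [ne_eq, ZMod.natCast_eq_zero_iff]
  let P : V → V := fun v => (Nat.card K : ZMod p)⁻¹ • ∑ a : K, ρ (a : G) v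
  have hPsub : ∀ a b : V, P (a - b) = P a - P b := fun a b => by
    simp only [P, map_sub, Finset.sum_sub_distrib, smul_sub]
  have hPright : ∀ a : K, ∀ v, P (ρ (a : G) v) = P v := by
    intro a v
    simp only [P]
    refine congrArg _ (Fintype.sum_equiv (Equiv.mulRight a) _ _ fun b => ?_)
    simp only [Equiv.coe_mulRight, Subgroup.coe_mul, rho_mul_apply]
  have hPleft : ∀ a : K, ∀ v, ρ (a : G) (P v) = P v := by
    intro a v
    simp only [P, map_smul, map_sum]
    refine congrArg _ (Fintype.sum_equiv (Equiv.mulLeft a) _ _ fun b => ?_)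
    simp only [Equiv.coe_mulLeft, Subgroup.coe_mul, rho_mul_apply]
  have hPfix : ∀ v ∈ fixPair ρ g h, P v = v := by
    intro v hv
    have hall : K ≤ stab ρ v := by
      rw [Subgroup.closure_le]
      intro a ha
      rcases ha with rfl | rfl
      · exact hv.1
      · exact hv.2
    simp only [P]
    rw [Finset.sum_congr rfl (fun (a : K) _ => (show ρ (a : G) v = v from hall a.2)),
      Finset.sum_const, Finset.card_univ, ← Nat.card_eq_fintype_card,
      ← Nat.cast_smul_eq_nsmul (ZMod p), smul_smul, inv_mul_cancel₀ hk0, one_smul]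
  have hIP : ∀ v, v - P v ∈ φ.range := by
    intro v
    have hall : ∀ a ∈ K, ∀ w, ρ a w - w ∈ φ.range := by
      intro a ha
      induction ha using Subgroup.closure_induction with
      | mem a ha =>
        intro w
        rcases ha with rfl | rfl
        · refine ⟨(0, w), ?_⟩
          show (ρ _ w - w) - (ρ h 0 - 0) = _
          simp
        · refine ⟨(-w, 0), ?_⟩
          show (ρ g 0 - 0) - (ρ _ (-w) - -w) = _
          rw [map_zero, map_neg]; abel
      | one => intro w; rw [rho_one_apply, sub_self]; exact zero_mem _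
      | mul a b _ _ ha hb =>
        intro w
        rw [show ρ (a * b) w - w = (ρ a (ρ b w) - ρ b w) + (ρ b w - w) by rw [rho_mul_apply]; abel]
        exact add_mem (ha _) (hb _)
      | inv a _ ha =>
        intro w
        have h' := ha (ρ a⁻¹ w)
        rw [rho_apply_inv_apply] at h'
        rw [← neg_sub]
        exact neg_mem h'
    have hs : (Nat.card K : ZMod p)⁻¹ • ∑ a : K, (ρ (a : G) v - v) = P v - v := by
      rw [Finset.sum_sub_distrib, smul_sub, Finset.sum_const, Finset.card_univ,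
        ← Nat.card_eq_fintype_card, ← Nat.cast_smul_eq_nsmul (ZMod p), smul_smul,
        inv_mul_cancel₀ hk0, one_smul]
    have hm : ∑ a : K, (ρ (a : G) v - v) ∈ φ.range := sum_mem fun a _ => hall a a.2 v
    rw [← neg_sub, ← hs]
    refine neg_mem ?_
    obtain ⟨c, hc⟩ := ZMod.natCast_zmod_surjective ((Nat.card K : ZMod p)⁻¹)
    rw [← hc, Nat.cast_smul_eq_nsmul]
    exact AddSubgroup.nsmul_mem _ hm c
  have hPI : ∀ v ∈ φ.range, P v = 0 := by
    rintro v ⟨⟨u, w⟩, rfl⟩
    show P ((ρ g w - w) - (ρ h u - u)) = 0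
    rw [hPsub, hPsub, hPsub, hPright ⟨g, hgK⟩, hPright ⟨h, hhK⟩, sub_self, sub_self, sub_self]
  have hadd : ∀ c ∈ fixPair ρ g h, ∀ i ∈ φ.range, P (c + i) = c := by
    intro c hc i hi
    have := hPsub (c + i) i
    rw [add_sub_cancel_right, hPI i hi, sub_zero, hPfix c hc] at this
    exact this.symm
  let e : (fixPair ρ g h) × φ.range ≃ V :=
    { toFun := fun x => (x.1 : V) + x.2
      invFun := fun v => (⟨P v, hPleft ⟨g, hgK⟩ v, hPleft ⟨h, hhK⟩ v⟩, ⟨v - P v, hIP v⟩)
      left_inv := fun x => by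
        have := hadd x.1 x.1.2 x.2 x.2.2
        ext
        · exact this
        · show (x.1 : V) + x.2 - P ((x.1 : V) + x.2) = x.2
          rw [this, add_sub_cancel_left]
      right_inv := fun v => by simp }
  have h2 : Nat.card (fixPair ρ g h) * Nat.card φ.range = Nat.card V := by
    rw [← Nat.card_prod, Nat.card_congr e]
  have h3 : Nat.card φ.ker = Nat.card V * Nat.card (fixPair ρ g h) := by
    refine Nat.eq_of_mul_eq_mul_right (show 0 < Nat.card φ.range from Nat.card_pos) ?_
    rw [h1, mul_assoc, h2]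
  rw [← h3]
  exact Nat.card_congr (Equiv.subtypeEquivRight fun x => (hker x).symm)

/-- The commuting pairs of `V ⋊ G`. -/
theorem card_spairs (hG : ¬ p ∣ Nat.card G) [Fintype V] :
    Nat.card (SPairs ρ) =
      Nat.card V * ∑ v : V, Nat.card {x : stab ρ v × stab ρ v // Commute x.1 x.2} := by
  classical
  haveI := Fintype.ofFinite G
  let e : SPairs ρ ≃ Σ c : {x : G × G // Commute x.1 x.2},
      {x : V × V // x.1 + ρ c.1.1 x.2 = x.2 + ρ c.1.2 x.1} :=
    { toFun := fun x => ⟨⟨(x.1.1.2, x.1.2.2), x.2.1⟩, ⟨(x.1.1.1, x.1.2.1), x.2.2⟩⟩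
      invFun := fun y => ⟨((y.2.1.1, y.1.1.1), (y.2.1.2, y.1.1.2)), y.1.2, y.2.2⟩
      left_inv := fun _ => rfl
      right_inv := fun _ => rfl }
  let e' : (Σ c : {x : G × G // Commute x.1 x.2}, fixPair ρ c.1.1 c.1.2) ≃
      Σ v : V, {x : stab ρ v × stab ρ v // Commute x.1 x.2} :=
    { toFun := fun y => ⟨y.2.1, ⟨(⟨y.1.1.1, y.2.2.1⟩, ⟨y.1.1.2, y.2.2.2⟩), Subtype.ext y.1.2⟩⟩
      invFun := fun y => ⟨⟨((y.2.1.1 : G), (y.2.1.2 : G)), congrArg Subtype.val y.2.2⟩,
        ⟨y.1, y.2.1.1.2, y.2.1.2.2⟩⟩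
      left_inv := fun _ => rfl
      right_inv := fun _ => rfl }
  rw [Nat.card_congr e, Nat.card_sigma]
  simp only [card_solutions ρ hG]
  rw [← Finset.mul_sum, ← Nat.card_sigma, Nat.card_congr e', Nat.card_sigma]

/-- Conjugate stabilisers. -/
noncomputable def stabConj (g : G) (v : V) : stab ρ v ≃* stab ρ (ρ g v) where
  toFun a := ⟨g * a * g⁻¹, by
    rw [mem_stab, rho_mul_apply, rho_mul_apply, rho_inv_apply_apply, (mem_stab ρ).1 a.2]⟩
  invFun a := ⟨g⁻¹ * a * g, by
    rw [mem_stab, rho_mul_apply, rho_mul_apply, (mem_stab ρ).1 a.2, rho_inv_apply_apply]⟩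
  left_inv a := Subtype.ext (by simp [mul_assoc])
  right_inv a := Subtype.ext (by simp [mul_assoc])
  map_mul' a b := Subtype.ext (by simp [mul_assoc])

variable (htrans : ∀ v w : V, v ≠ 0 → w ≠ 0 → ∃ g : G, ρ g v = w)

include htrans in
theorem card_stab_mul {v : V} (hv : v ≠ 0) :
    Nat.card G = (Nat.card V - 1) * Nat.card (stab ρ v) := by
  classical
  haveI := Fintype.ofFinite V
  let f : G ⧸ stab ρ v → {w : V // w ≠ 0} :=
    Quotient.lift (fun g => ⟨ρ g v, fun h => hv ((ρ g).map_eq_zero_iff.1 h)⟩) fun a b hab => by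
      replace hab := QuotientGroup.leftRel_apply.1 hab
      rw [mem_stab, rho_mul_apply] at hab
      apply Subtype.ext
      show ρ a v = ρ b v
      conv_lhs => rw [← hab]
      rw [rho_apply_inv_apply]
  have hf : Function.Bijective f := by
    refine ⟨fun a b => ?_, fun w => ?_⟩
    · induction a using QuotientGroup.induction_on with
      | _ a =>
        induction b using QuotientGroup.induction_on with
        | _ b =>
          intro h
          have h' : ρ a v = ρ b v := congrArg Subtype.val h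
          rw [QuotientGroup.eq, mem_stab, rho_mul_apply, ← h', rho_inv_apply_apply]
    · obtain ⟨g, hg⟩ := htrans v w.1 hv w.2
      exact ⟨(g : G ⧸ stab ρ v), Subtype.ext hg⟩
  rw [Subgroup.card_eq_card_quotient_mul_card_subgroup (stab ρ v),
    Nat.card_congr (Equiv.ofBijective f hf), Nat.card_eq_fintype_card (α := {w : V // w ≠ 0}),
    Fintype.card_subtype_compl, Fintype.card_subtype_eq, ← Nat.card_eq_fintype_card]

include htrans in
/-- For a transitive group the commuting pairs number `|V| |G| (k(G) + k(G_v))`. -/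
theorem card_spairs_transitive (hG : ¬ p ∣ Nat.card G) {v : V} (hv : v ≠ 0) :
    Nat.card (SPairs ρ) = Nat.card V * (Nat.card G *
      (Nat.card (ConjClasses G) + Nat.card (ConjClasses (stab ρ v)))) := by
  classical
  haveI := Fintype.ofFinite V
  haveI := Fintype.ofFinite G
  rw [card_spairs ρ hG, ← Finset.add_sum_erase _ _ (Finset.mem_univ (0 : V))]
  congr 1
  have h0 : Nat.card {x : stab ρ (0 : V) × stab ρ (0 : V) // Commute x.1 x.2} =
      Nat.card {x : G × G // Commute x.1 x.2} := by
    have htop : ∀ a : G, a ∈ stab ρ (0 : V) := fun a => map_zero (ρ a)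
    exact Nat.card_congr
      { toFun := fun x => ⟨((x.1.1 : G), (x.1.2 : G)), congrArg Subtype.val x.2⟩
        invFun := fun x => ⟨(⟨x.1.1, htop _⟩, ⟨x.1.2, htop _⟩), Subtype.ext x.2⟩
        left_inv := fun _ => rfl
        right_inv := fun _ => rfl }
  have hsum : ∀ w ∈ (Finset.univ : Finset V).erase 0,
      Nat.card {x : stab ρ w × stab ρ w // Commute x.1 x.2} =
        Nat.card (ConjClasses (stab ρ v)) * Nat.card (stab ρ v) := by
    intro w hw
    obtain ⟨g, rfl⟩ := htrans v w hv (Finset.ne_of_mem_erase hw)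
    rw [← card_comm_eq_card_conjClasses_mul_card]
    exact (Nat.card_congr (Equiv.subtypeEquiv
      ((stabConj ρ g v).toEquiv.prodCongr (stabConj ρ g v).toEquiv) fun x =>
      ⟨fun h => h.map (stabConj ρ g v).toMonoidHom, fun h => by
        simpa using h.map (stabConj ρ g v).symm.toMonoidHom⟩)).symm
  rw [h0, card_comm_eq_card_conjClasses_mul_card, Finset.sum_congr rfl hsum, Finset.sum_const,
    Finset.card_erase_of_mem (Finset.mem_univ _), Finset.card_univ, smul_eq_mul,
    ← Nat.card_eq_fintype_card, card_stab_mul ρ htrans hv]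
  ring

/-- A group identified with `V ⋊ G` has `k(G) + k(G_v)` classes when `G` is transitive. -/
theorem card_conjClasses_of_equiv {X : Type*} [Group X] [Finite X] (e : V × G ≃ X)
    (he : ∀ a b : V × G, Commute (e a) (e b) ↔
      Commute a.2 b.2 ∧ a.1 + ρ a.2 b.1 = b.1 + ρ b.2 a.1)
    (htrans : ∀ v w : V, v ≠ 0 → w ≠ 0 → ∃ g : G, ρ g v = w) (hG : ¬ p ∣ Nat.card G) {v : V}
    (hv : v ≠ 0) :
    Nat.card (ConjClasses X) = Nat.card (ConjClasses G) + Nat.card (ConjClasses (stab ρ v)) := by
  have h1 : Nat.card (SPairs ρ) = Nat.card {x : X × X // Commute x.1 x.2} :=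
    Nat.card_congr (Equiv.subtypeEquiv (e.prodCongr e) fun x => (he x.1 x.2).symm)
  rw [card_spairs_transitive ρ htrans hG hv, card_comm_eq_card_conjClasses_mul_card,
    ← Nat.card_congr e, Nat.card_prod] at h1
  have hpos : 0 < Nat.card V * Nat.card G := Nat.mul_pos Nat.card_pos Nat.card_pos
  nlinarith [h1, hpos]

end Cfsg.Agent.Lib.KGV46
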