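import Cfsg.Agent.Lib.Spectrum.HuppertStructure
import Cfsg.Agent.Lib.KGV46.Count

/-!
# The class number bound for transitive semilinear groups of dimension at least three
-/

set_option autoImplicit false
set_option linter.unusedSectionVars false
set_option linter.style.haveILetI false

namespace Cfsg.Agent.Lib.KGV46

open Cfsg.Agent.Lib.Spectrum.Huppert

theorem succ_lt_two_pow {k : ℕ} (hk : 3 ≤ k) : 3 * k + 2 < 2 * 2 ^ k := by
  induction k, hk using Nat.le_induction with
  | base => norm_num
  | succ k hk ih =>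
    have : 8 ≤ 2 ^ k := le_trans (by norm_num) (Nat.pow_le_pow_right two_pos hk)
    rw [pow_succ]
    omega

theorem two_mul_add_lt_three_pow {k : ℕ} (hk : 2 ≤ k) : 2 * k + 1 < 3 ^ k := by
  induction k, hk using Nat.le_induction with
  | base => norm_num
  | succ k hk ih => rw [pow_succ]; omega

/-- The arithmetic of the semilinear bound: `(s+1) M ≤ p ^ n`, with equality only for `p ^ n = 8`. -/
theorem semilinear_arith {p n s e : ℕ} (hp : p.Prime) (hn : 3 ≤ n) (hs : s ≤ n)
    (he : if p = 2 then 3 * e ≤ n else 2 * e ≤ n) :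
    (s + 1) * p ^ e ≤ p ^ n ∧ ((s + 1) * p ^ e = p ^ n → p = 2 ∧ n = 3) := by
  obtain ⟨k, rfl⟩ : ∃ k, n = k + e := ⟨n - e, by split_ifs at he <;> omega⟩
  rw [pow_add]
  have hpe : 0 < p ^ e := pow_pos hp.pos e
  by_cases h2 : p = 2
  · subst h2
    rw [if_pos rfl] at he
    rcases Nat.lt_or_ge k 3 with hk | hk
    · obtain rfl : k = 2 := by omega
      obtain rfl : e = 1 := by omega
      refine ⟨?_, fun _ => ⟨rfl, rfl⟩⟩
      norm_num
      omega
    · have h := succ_lt_two_pow hk
      have hlt : s + 1 < 2 ^ k := by omega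
      exact ⟨Nat.mul_le_mul_right _ hlt.le,
        fun h => absurd h (Nat.ne_of_lt (Nat.mul_lt_mul_of_pos_right hlt hpe))⟩
  · rw [if_neg h2] at he
    have hp3 : 3 ≤ p := by have := hp.two_le; omega
    have h := two_mul_add_lt_three_pow (show 2 ≤ k by omega)
    have hlt : s + 1 < p ^ k := lt_of_lt_of_le (by omega) (Nat.pow_le_pow_left hp3 k)
    exact ⟨Nat.mul_le_mul_right _ hlt.le,
      fun h => absurd h (Nat.ne_of_lt (Nat.mul_lt_mul_of_pos_right hlt hpe))⟩

theorem card_le_of_injective_hom {A B : Type*} [Group A] [Group B] [Finite B] (f : A →* B)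
    (hf : Function.Injective f) : Nat.card A ∣ Nat.card B :=
  (dvd_of_eq (Nat.card_congr (MonoidHom.ofInjective hf).toEquiv)).trans
    f.range.card_subgroup_dvd_card

/-- A subgroup whose part in the kernel is `K` has order at most `|range| |K|`. -/
theorem card_le_range_mul {A B : Type*} [Group A] [Finite A] [Group B] (f : A →* B) (U K : Subgroup A)
    (hK : ∀ u ∈ U, f u = 1 → u ∈ K) :
    Nat.card U ≤ Nat.card f.range * Nat.card K := by
  have h1 := Subgroup.card_mul_index (f.domRestrict U).ker
  rw [Subgroup.index_ker] at h1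
  rw [← h1, mul_comm]
  refine Nat.mul_le_mul ?_ ?_
  · exact Nat.card_mono (Set.finite_range f) fun y ⟨u, hu⟩ => ⟨(u : A), hu⟩
  · exact Nat.card_le_card_of_injective
      (fun u : (f.domRestrict U).ker => (⟨((u : U) : A), hK _ (u : U).2 u.2⟩ : K))
      fun a b h => Subtype.ext (Subtype.ext (congrArg (fun k : K => (k : A)) h))

variable {p : ℕ} [Fact p.Prime]
variable {V : Type*} [AddCommGroup V] [Module (ZMod p) V] [Finite V] [Nontrivial V]
variable {G : Type*} [Group G] [Finite G] (ρ : G →* (V ≃ₗ[ZMod p] V))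

/-- The bound for semilinear groups. -/
theorem semilinear_bound (hρ : Function.Injective ρ)
    (htrans : ∀ v w : V, v ≠ 0 → w ≠ 0 → ∃ g : G, ρ g v = w) (hG : ¬ p ∣ Nat.card G) {n : ℕ}
    (hn : Nat.card V = p ^ n) (hn3 : 3 ≤ n) (hnc : ¬ ∀ a b : G, a * b = b * a)
    (hsl : IsSemilinear ρ) {v : V} (hv : v ≠ 0) :
    Nat.card (ConjClasses G) + Nat.card (ConjClasses (stab ρ v)) ≤ p ^ n ∧
      (Nat.card (ConjClasses G) + Nat.card (ConjClasses (stab ρ v)) = p ^ n →
        p = 2 ∧ n = 3 ∧ Nat.card G = 21) := by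
  classical
  have hp : p.Prime := Fact.out
  obtain ⟨F, _, _, e, he⟩ := hsl
  choose a σ key using he
  haveI : CharP F p := by
    refine (CharP.charP_iff_prime_eq_zero hp).2 ?_
    have h1 := congrArg e (show p • (e.symm (1 : F)) = 0 by
      rw [← Nat.cast_smul_eq_nsmul (ZMod p), ZMod.natCast_self, zero_smul])
    rwa [map_nsmul, map_zero, AddEquiv.apply_symm_apply, nsmul_one] at h1
  letI : Algebra (ZMod p) F := ZMod.algebra F p
  have hcardF : Nat.card F = p ^ n := by rw [← Nat.card_congr e.toEquiv, hn]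
  have hfr : Module.finrank (ZMod p) F = n := by
    have h := Module.natCard_eq_pow_finrank (K := ZMod p) (V := F)
    rw [hcardF, Nat.card_zmod] at h
    exact (Nat.pow_right_injective hp.two_le h).symm
  have ha0 : ∀ g, a g ≠ 0 := fun g h0 => by
    have h := key g (e.symm 1)
    rw [h0, zero_mul] at h
    exact absurd ((ρ g).map_eq_zero_iff.1 (e.map_eq_zero_iff.1 h)) (by simp)
  have hmula : ∀ g h, a (g * h) = a g * σ g (a h) := by
    intro g h
    have h1 := key (g * h) (e.symm 1)
    rw [rho_mul_apply, key g, key h, AddEquiv.apply_symm_apply, map_one, map_one, mul_one,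
      mul_one] at h1
    exact h1.symm
  have hmulσ : ∀ g h y, σ (g * h) y = σ g (σ h y) := by
    intro g h y
    have h1 := key (g * h) (e.symm y)
    rw [rho_mul_apply, key g, key h, AddEquiv.apply_symm_apply, map_mul, hmula g h] at h1
    refine mul_left_cancel₀ (mul_ne_zero (ha0 g) ((map_ne_zero_iff _ (σ g).injective).2 (ha0 h))) ?_
    rw [← h1, mul_assoc]
  let τ : G → (F ≃ₐ[ZMod p] F) := fun g => AlgEquiv.ofRingEquiv (f := σ g) fun x => by
    have h := RingHom.ext_zmod ((σ g).toRingHom.comp (algebraMap (ZMod p) F))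
      (algebraMap (ZMod p) F)
    exact congrFun (congrArg DFunLike.coe h) x
  let θ : G →* (F ≃ₐ[ZMod p] F) := MonoidHom.mk' τ fun g h => AlgEquiv.ext fun y => hmulσ g h y
  have hθσ : ∀ g y, θ g y = σ g y := fun g y => rfl
  set A := θ.ker with hA
  haveI : Finite (F ≃ₐ[ZMod p] F) :=
    Finite.of_injective (fun f => (f : F → F)) DFunLike.coe_injective
  have hAσ : ∀ g ∈ A, ∀ y, σ g y = y := fun g hg y => by
    rw [← hθσ, MonoidHom.mem_ker.1 hg]; rfl
  have hAinj : ∀ g ∈ A, ∀ h ∈ A, a g = a h → g = h := by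
    intro g hg h hh hgh
    refine hρ (LinearEquiv.ext fun w => e.injective ?_)
    rw [key g, key h, hAσ g hg, hAσ h hh, hgh]
  have hAcomm : ∀ g ∈ A, ∀ h ∈ A, g * h = h * g := fun g hg h hh =>
    hAinj _ (A.mul_mem hg hh) _ (A.mul_mem hh hg)
      (by rw [hmula, hmula, hAσ g hg, hAσ h hh, mul_comm])
  have hθo : ∀ g, ¬ p ∣ orderOf (θ g) := fun g h =>
    hG ((h.trans (orderOf_map_dvd θ g)).trans (orderOf_dvd_natCard g))
  obtain ⟨E, hE⟩ : ∃ E, E = if p = 2 then n / 3 else n / 2 := ⟨_, rfl⟩
  have hEle : if p = 2 then 3 * E ≤ n else 2 * E ≤ n := by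
    rw [hE]; split_ifs <;> omega
  -- the centraliser in `A` of an element outside `A` lies in a proper subfield
  have hcentA : ∀ g ∉ A, Nat.card ↥(Subgroup.centralizer ({g} : Set G) ⊓ A) + 1 ≤ p ^ E := by
    intro g hg
    let H := Subgroup.zpowers (θ g)
    let K := IntermediateField.fixedField H
    haveI : Finite K := Subtype.finite
    have hH2 : 2 ≤ Nat.card H := by
      rw [Nat.card_zpowers]
      have h0 := orderOf_pos (θ g)
      have h1 : orderOf (θ g) ≠ 1 := fun h =>
        hg (MonoidHom.mem_ker.2 (orderOf_eq_one_iff.1 h))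
      omega
    have hH3 : p = 2 → 3 ≤ Nat.card H := by
      intro h2
      have : Nat.card H ≠ 2 := fun h => hθo g (by
        rw [Nat.card_zpowers] at h
        rw [h]
        exact dvd_of_eq h2)
      omega
    have hKn : Module.finrank (ZMod p) K * Nat.card H = n := by
      rw [← IntermediateField.finrank_fixedField_eq_card H, Module.finrank_mul_finrank, hfr]
    have hKE : Module.finrank (ZMod p) K ≤ E := by
      rw [hE]
      split_ifs with h2
      · rw [Nat.le_div_iff_mul_le (by norm_num)]
        exact (Nat.mul_le_mul_left _ (hH3 h2)).trans hKn.le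
      · rw [Nat.le_div_iff_mul_le (by norm_num)]
        exact (Nat.mul_le_mul_left _ hH2).trans hKn.le
    have hcK : Nat.card K ≤ p ^ E := by
      rw [Module.natCard_eq_pow_finrank (K := ZMod p), Nat.card_zmod]
      exact Nat.pow_le_pow_right hp.pos hKE
    refine le_trans ?_ hcK
    have hfix : ∀ x : ↥(Subgroup.centralizer ({g} : Set G) ⊓ A), σ g (a x) = a x := by
      rintro ⟨x, hxc, hxA⟩
      have h := congrArg a (Subgroup.mem_centralizer_singleton_iff.1 hxc)
      rw [hmula, hmula, hAσ x hxA, mul_comm] at h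
      exact (mul_left_cancel₀ (ha0 g) (by rw [← h]; try rfl)).symm
    let f : Option ↥(Subgroup.centralizer ({g} : Set G) ⊓ A) → K := fun o =>
      o.elim 0 fun x => ⟨a x, by
        refine (IntermediateField.mem_fixedField_iff _ _).2 fun t ht => ?_
        have hle : H ≤ MulAction.stabilizer (F ≃ₐ[ZMod p] F) (a (x : G)) := by
          rw [Subgroup.zpowers_le, MulAction.mem_stabilizer_iff]
          exact hfix x
        exact hle ht⟩
    have hf : Function.Injective f := by
      rintro (_ | x) (_ | y) h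
      · rfl
      · exact absurd (congrArg (fun k : K => (k : F)) h).symm (ha0 _)
      · exact absurd (congrArg (fun k : K => (k : F)) h) (ha0 _)
      · exact congrArg some (Subtype.ext (hAinj _ x.2.2 _ y.2.2
          (congrArg (fun k : K => (k : F)) h)))
    have := Nat.card_le_card_of_injective f hf
    rwa [Finite.card_option] at this
  set s := Nat.card θ.range with hs
  have hsn : s ≤ n := by
    have h := θ.range.card_subgroup_dvd_card
    rw [IsGalois.card_aut_eq_finrank, hfr] at h
    exact Nat.le_of_dvd (by omega) h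
  have hGs : Nat.card G = Nat.card A * s := by
    rw [hs, ← Subgroup.index_ker, Subgroup.card_mul_index]
  obtain ⟨q, hq⟩ : ∃ q, q = p ^ n := ⟨_, rfl⟩
  have hAq : Nat.card A ∣ q - 1 := by
    let ψ₀ : A →* F :=
      { toFun := fun x => a (x : G)
        map_one' := by
          have h := hmula 1 1
          rw [mul_one, hAσ 1 A.one_mem] at h
          show a 1 = 1
          exact mul_left_cancel₀ (ha0 1) (by rw [← h, mul_one])
        map_mul' := fun x y => by
          rw [Subgroup.coe_mul, hmula, hAσ x x.2] }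
    have h := card_le_of_injective_hom ψ₀.toHomUnits fun x y h =>
      Subtype.ext (hAinj _ x.2 _ y.2 (congrArg Units.val h))
    rwa [Nat.card_units, hcardF, ← hq] at h
  have hs2 : 2 ≤ s := by
    by_contra hlt
    refine hnc fun x y => hAcomm x ?_ y ?_ <;>
    · rw [hA]
      have hbot : θ.range = ⊥ := θ.range.card_le_one_iff_eq_bot.1 (by omega)
      exact MonoidHom.range_eq_bot_iff.1 hbot ▸ by simp
  have hstab : Nat.card (stab ρ v) ≤ s := by
    refine le_of_le_of_eq (card_le_range_mul θ (stab ρ v) ⊥ fun g hg h1 => ?_)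
      (by rw [Subgroup.card_bot, mul_one])
    rw [Subgroup.mem_bot]
    have hgA : g ∈ A := MonoidHom.mem_ker.2 h1
    have hev : e v ≠ 0 := fun h => hv (e.map_eq_zero_iff.1 h)
    have h := key g v
    rw [(mem_stab ρ).1 hg, hAσ g hgA] at h
    have hag : a g = 1 := mul_right_cancel₀ hev (by rw [one_mul, ← h])
    refine hρ (LinearEquiv.ext fun w => e.injective ?_)
    rw [key g, hag, one_mul, hAσ g hgA, rho_one_apply]
  -- counting commuting pairs
  haveI := Fintype.ofFinite G
  let c : G → ℕ := fun g => Nat.card (Subgroup.centralizer ({g} : Set G))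
  let cA : G → ℕ := fun g => Nat.card ↥(Subgroup.centralizer ({g} : Set G) ⊓ A)
  have hcount : Nat.card (ConjClasses G) * Nat.card G = ∑ g : G, c g := by
    rw [← card_comm_eq_card_conjClasses_mul_card, ← Nat.card_sigma]
    exact Nat.card_congr
      { toFun := fun x => ⟨x.1.1, x.1.2, Subgroup.mem_centralizer_singleton_iff.2 x.2.symm⟩
        invFun := fun y => ⟨(y.1, y.2.1), (Subgroup.mem_centralizer_singleton_iff.1 y.2.2).symm⟩
        left_inv := fun _ => rfl
        right_inv := fun _ => rfl }
  have hswap : ∑ g ∈ Finset.univ.filter (· ∈ A), c g = ∑ g : G, cA g := by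
    rw [← Finset.sum_subtype_eq_sum_filter]
    simp only [Finset.subtype_univ, c, cA, ← Nat.card_sigma]
    exact Nat.card_congr
      { toFun := fun x => ⟨x.2.1, x.1.1, Subgroup.mem_centralizer_singleton_iff.2
          (Subgroup.mem_centralizer_singleton_iff.1 x.2.2).symm, x.1.2⟩
        invFun := fun y => ⟨⟨y.2.1, y.2.2.2⟩, y.1, Subgroup.mem_centralizer_singleton_iff.2
          (Subgroup.mem_centralizer_singleton_iff.1 y.2.2.1).symm⟩
        left_inv := fun _ => rfl
        right_inv := fun _ => rfl }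
  have hcA : ∀ g, c g ≤ s * cA g := fun g => card_le_range_mul θ _ _ fun u hu h1 =>
    ⟨hu, MonoidHom.mem_ker.2 h1⟩
  obtain ⟨m, hm⟩ : ∃ m, p ^ E = m + 1 := ⟨p ^ E - 1, by have := pow_pos hp.pos E; omega⟩
  have hout : ∀ g ∈ Finset.univ.filter (fun g => g ∉ A), cA g ≤ m := fun g hg => by
    have := hcentA g (Finset.mem_filter.1 hg).2
    rw [hm] at this
    exact Nat.le_of_succ_le_succ this
  have hcardin : (Finset.univ.filter (fun g : G => g ∈ A)).card = Nat.card A :=
    (Nat.subtype_card _ (by simp)).symm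
  have hcardout : (Finset.univ.filter (fun g : G => g ∉ A)).card = Nat.card A * (s - 1) := by
    have := Finset.card_filter_add_card_filter_not (s := (Finset.univ : Finset G)) (· ∈ A)
    rw [hcardin, Finset.card_univ, ← Nat.card_eq_fintype_card, hGs] at this
    rw [Nat.mul_sub_one]
    omega
  have hin : ∑ g ∈ Finset.univ.filter (· ∈ A), c g ≤
      Nat.card A * Nat.card A + Nat.card A * (s - 1) * m := by
    rw [hswap, ← Finset.sum_filter_add_sum_filter_not Finset.univ (· ∈ A)]
    refine add_le_add ?_ ?_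
    · refine (Finset.sum_le_card_nsmul _ _ (Nat.card A) fun g _ => ?_).trans ?_
      · exact Nat.card_mono (Set.toFinite _) inf_le_right
      · rw [hcardin, smul_eq_mul]
    · refine (Finset.sum_le_card_nsmul _ _ m hout).trans ?_
      rw [hcardout, smul_eq_mul]
  have hout2 : ∑ g ∈ Finset.univ.filter (· ∉ A), c g ≤ Nat.card A * (s - 1) * (s * m) := by
    refine (Finset.sum_le_card_nsmul _ _ (s * m) fun g hg => ?_).trans ?_
    · exact (hcA g).trans (Nat.mul_le_mul_left _ (hout g hg))
    · rw [hcardout, smul_eq_mul]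
  have hk : Nat.card (ConjClasses G) * s ≤ Nat.card A + (s - 1) * (s + 1) * m := by
    refine Nat.le_of_mul_le_mul_left ?_ (Nat.card_pos (α := A))
    calc Nat.card A * (Nat.card (ConjClasses G) * s) = ∑ g : G, c g := by
          rw [← hcount, hGs]; ring
      _ = _ := (Finset.sum_filter_add_sum_filter_not Finset.univ (· ∈ A) c).symm
      _ ≤ Nat.card A * Nat.card A + Nat.card A * (s - 1) * m +
          Nat.card A * (s - 1) * (s * m) := add_le_add hin hout2
      _ = _ := by ring
  have hkH : Nat.card (ConjClasses (stab ρ v)) ≤ Nat.card (stab ρ v) := by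
    refine Nat.card_le_card_of_surjective ConjClasses.mk fun x => ?_
    exact Quotient.exists_rep x
  obtain ⟨har, harEq⟩ := semilinear_arith hp hn3 hsn hEle
  rw [hm, ← hq] at har harEq
  rw [← hq]
  obtain ⟨t, ht⟩ : ∃ t, s = t + 1 := ⟨s - 1, by omega⟩
  have hq1 : 2 ≤ q := hq ▸ le_trans hp.two_le (Nat.le_self_pow (by omega) p)
  have hAle : Nat.card A + 1 ≤ q := by
    have := Nat.le_of_dvd (by omega) hAq
    omega
  rw [ht, Nat.add_sub_cancel] at hk
  have hH : Nat.card (ConjClasses (stab ρ v)) * (t + 1) ≤ (t + 1) * (t + 1) :=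
    Nat.mul_le_mul_right _ (hkH.trans (hstab.trans ht.le))
  rw [ht] at har harEq
  have hmain : (Nat.card (ConjClasses G) + Nat.card (ConjClasses (stab ρ v))) * (t + 1) ≤
      q + t * ((t + 1 + 1) * (m + 1)) := by
    have e1 : Nat.card A + t * (t + 1 + 1) * m + (t + 1) * (t + 1) =
        Nat.card A + 1 + t * ((t + 1 + 1) * (m + 1)) := by ring
    rw [add_mul]
    linarith [hk, hH, hAle, e1]
  refine ⟨?_, fun heq => ?_⟩
  · refine Nat.le_of_mul_le_mul_right ?_ (show 0 < t + 1 by omega)
    have e2 : q * (t + 1) = q + t * q := by ring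
    linarith [hmain, Nat.mul_le_mul_left t har, e2]
  · rw [heq] at hmain
    have h1 : (t + 1 + 1) * (m + 1) = q := by
      refine le_antisymm har (Nat.le_of_mul_le_mul_left ?_ (show 0 < t by omega))
      have e2 : q * (t + 1) = q + t * q := by ring
      linarith [hmain, e2]
    obtain ⟨rfl, rfl⟩ := harEq h1
    refine ⟨rfl, rfl, ?_⟩
    norm_num at hq
    subst hq
    have hE1 : E = 1 := by rw [hE]; norm_num
    rw [hE1] at hm
    have hm1 : m = 1 := by omega
    subst hm1
    have ht2 : t = 2 := by omega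
    subst ht2
    have hA7 : Nat.card A = 7 := by
      rcases (Nat.dvd_prime (by norm_num : Nat.Prime 7)).1 hAq with h | h
      · exfalso
        have h7 := orbit_dvd ρ htrans
        rw [hn, hGs, h, ht] at h7
        norm_num at h7
      · exact h
    rw [hGs, hA7, ht]

end Cfsg.Agent.Lib.KGV46
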