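import Cfsg.Agent.Lib.Spectrum.HuppertArith
import Cfsg.Agent.Lib.PGroups.Omega
import Cfsg.Agent.Lib.KGV46.Count
import Cfsg.Agent.Lib.KGV46.Semilinear

/-!
# The exceptional transitive solvable groups on `81` points

Such a group has a normal subgroup `B` with centre `A` of order at most two and `B/A` of order
`16`, and `G/B` of order at most `20`; this bounds the class number.
-/

set_option autoImplicit false
set_option linter.unusedSectionVars false
set_option linter.style.haveILetI false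

namespace Cfsg.Agent.Lib.KGV46

open Cfsg.Agent.Lib.Spectrum.Huppert

section Abstract

variable {G : Type*} [Group G] [Finite G]

/-- The commutator subgroup preimage: elements of `B` fixed modulo `A` by `T`. -/
def fixMod (B A : Subgroup G) (hA : A ≤ Subgroup.center G) (T : Set G) : Subgroup G where
  carrier := {b | b ∈ B ∧ ∀ t ∈ T, t * b * t⁻¹ * b⁻¹ ∈ A}
  one_mem' := ⟨B.one_mem, fun t _ => by simp [A.one_mem]⟩
  mul_mem' := fun {x y} hx hy => ⟨B.mul_mem hx.1 hy.1, fun t ht => by
    have h1 := hx.2 t ht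
    have h2 := hy.2 t ht
    have e : t * (x * y) * t⁻¹ * (x * y)⁻¹ =
        (t * x * t⁻¹ * x⁻¹) * (x * (t * y * t⁻¹ * y⁻¹) * x⁻¹) := by group
    rw [e, Subgroup.mem_center_iff.1 (hA h2) x, mul_inv_cancel_right]
    exact A.mul_mem h1 h2⟩
  inv_mem' := fun {x} hx => ⟨B.inv_mem hx.1, fun t ht => by
    have h1 := A.inv_mem (hx.2 t ht)
    have e : t * x⁻¹ * t⁻¹ * x⁻¹⁻¹ = x⁻¹ * (t * x * t⁻¹ * x⁻¹)⁻¹ * x := by group
    rw [e, Subgroup.mem_center_iff.1 (hA h1) x⁻¹, inv_mul_cancel_right]
    exact h1⟩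

/-- A prime order element permutes the elements it does not fix in orbits of that size. -/
theorem modEq_fixed {r : ℕ} [Fact r.Prime] {y : G} (hy : orderOf y = r) (L : Subgroup G)
    (hL : ∀ l ∈ L, y * l * y⁻¹ ∈ L) :
    Nat.card L ≡ Nat.card ↥(L ⊓ Subgroup.centralizer ({y} : Set G)) [MOD r] := by
  have hpow : ∀ k : ℕ, ∀ l ∈ L, y ^ k * l * (y ^ k)⁻¹ ∈ L := by
    intro k
    induction k with
    | zero => intro l hl; simpa using hl
    | succ k ih =>
      intro l hl
      rw [show y ^ (k + 1) * l * (y ^ (k + 1))⁻¹ = y * (y ^ k * l * (y ^ k)⁻¹) * y⁻¹ by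
        rw [pow_succ']; group]
      exact hL _ (ih l hl)
  have hmem : ∀ a : Subgroup.zpowers y, ∀ l ∈ L, (a : G) * l * (a : G)⁻¹ ∈ L := by
    rintro ⟨a, ha⟩ l hl
    obtain ⟨k, rfl⟩ := mem_powers_iff_mem_zpowers.2 ha
    exact hpow k l hl
  letI : MulAction (Subgroup.zpowers y) L :=
    { smul := fun a l => ⟨(a : G) * l * (a : G)⁻¹, hmem a l l.2⟩
      one_smul := fun l => Subtype.ext (by
        show ((1 : Subgroup.zpowers y) : G) * l * ((1 : Subgroup.zpowers y) : G)⁻¹ = l
        simp)
      mul_smul := fun a b l => Subtype.ext (by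
        show ((a * b : Subgroup.zpowers y) : G) * l * ((a * b : Subgroup.zpowers y) : G)⁻¹ =
          (a : G) * ((b : G) * l * (b : G)⁻¹) * (a : G)⁻¹
        rw [Subgroup.coe_mul]; group) }
  have hP : IsPGroup r (Subgroup.zpowers y) :=
    IsPGroup.of_card (n := 1) (by rw [Nat.card_zpowers, hy, pow_one])
  have h := hP.card_modEq_card_fixedPoints L
  have e : Nat.card (MulAction.fixedPoints (Subgroup.zpowers y) L) =
      Nat.card ↥(L ⊓ Subgroup.centralizer ({y} : Set G)) := by
    refine Nat.card_congr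
      { toFun := fun l => ⟨(l.1 : G), l.1.2, Subgroup.mem_centralizer_singleton_iff.2 ?_⟩
        invFun := fun l => ⟨⟨(l : G), l.2.1⟩, fun a => ?_⟩
        left_inv := fun _ => rfl
        right_inv := fun _ => rfl }
    · have h' : y * (l.1 : G) * y⁻¹ = l.1 :=
        congrArg Subtype.val (l.2 ⟨y, Subgroup.mem_zpowers y⟩)
      conv_lhs => rw [← h']
      group
    · obtain ⟨k, hk⟩ := mem_powers_iff_mem_zpowers.2 a.2
      refine Subtype.ext ?_
      show (a : G) * l * (a : G)⁻¹ = l
      have hc : Commute (l : G) y := Subgroup.mem_centralizer_singleton_iff.1 l.2.2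
      rw [show (a : G) = y ^ k from hk.symm, ← (hc.pow_right k).eq, mul_inv_cancel_right]
  rwa [e] at h

variable {A B : Subgroup G} (hA : A ≤ Subgroup.center G) (hAB : A ≤ B) (hA2 : Nat.card A ≤ 2)
  (hB16 : Nat.card B = 16 * Nat.card A) (hBn : B.Normal)
  (hcomm : ∀ x ∈ B, ∀ y ∈ B, x * y * x⁻¹ * y⁻¹ ∈ A)
  (hcent : ∀ c : G, (∀ y ∈ B, c * y = y * c) → c ∈ A)

include hA hA2 hB16 hAB in
/-- The subgroups between `A` and `B` normalised by an element of order `5` or `13` are trivial. -/
theorem invariant_between (hcent' : ∀ c : G, (∀ y ∈ B, c * y = y * c) → c ∈ A) (hBn' : B.Normal)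
    {r : ℕ} (hr : r = 5 ∨ r = 13) {y : G} (hy : orderOf y = r) (L : Subgroup G) (hAL : A ≤ L)
    (hLB : L ≤ B) (hL : ∀ l ∈ L, y * l * y⁻¹ ∈ L) :
    B ⊓ Subgroup.centralizer ({y} : Set G) = A ∧ (r = 5 ∧ (L = A ∨ L = B)) := by
  haveI : Fact r.Prime := ⟨by rcases hr with rfl | rfl <;> norm_num⟩
  have hAC : A ≤ Subgroup.centralizer ({y} : Set G) := fun a ha =>
    Subgroup.mem_centralizer_singleton_iff.2 (Subgroup.mem_center_iff.1 (hA ha) y).symm
  obtain ⟨a, ha⟩ : ∃ a, a = Nat.card A := ⟨_, rfl⟩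
  have hapos : 0 < a := ha ▸ Nat.card_pos
  have h1 := modEq_fixed hy B fun l hl => hBn'.conj_mem l hl y
  obtain ⟨c, hc⟩ : ∃ c, c = Nat.card ↥(B ⊓ Subgroup.centralizer ({y} : Set G)) := ⟨_, rfl⟩
  have hca : a ∣ c := ha ▸ hc ▸ Subgroup.card_dvd_of_le (le_inf hAB hAC)
  have hcB : c ∣ 16 * a := ha ▸ hc ▸ hB16 ▸ Subgroup.card_dvd_of_le inf_le_left
  rw [hB16, ← ha, ← hc] at h1
  obtain ⟨e, rfl⟩ := hca
  have he : e ∣ 16 := by
    rw [mul_comm 16 a] at hcB
    exact Nat.dvd_of_mul_dvd_mul_left hapos hcB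
  have hne : e ≠ 16 := by
    rintro rfl
    have hBC : B ⊓ Subgroup.centralizer ({y} : Set G) = B :=
      Subgroup.eq_of_le_of_card_ge inf_le_left (by rw [← hc, hB16, ← ha, mul_comm])
    have hyA : y ∈ A := hcent' y fun b hb => by
      have : b ∈ B ⊓ Subgroup.centralizer ({y} : Set G) := hBC.symm ▸ hb
      exact (Subgroup.mem_centralizer_singleton_iff.1 this.2).symm
    have h2 : r ∣ Nat.card A := hy ▸ Subgroup.orderOf_dvd_natCard A hyA
    have := Nat.le_of_dvd Nat.card_pos h2
    omega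
  obtain ⟨k, hk, rfl⟩ := (Nat.dvd_prime_pow Nat.prime_two).1 (show e ∣ 2 ^ 4 by simpa using he)
  have hmain : r = 5 ∧ k = 0 := by
    have ha2 : a = 1 ∨ a = 2 := by omega
    unfold Nat.ModEq at h1
    rcases hr with rfl | rfl <;> rcases ha2 with rfl | rfl <;> interval_cases k <;> omega
  obtain ⟨rfl, rfl⟩ := hmain
  have hBA : B ⊓ Subgroup.centralizer ({y} : Set G) = A :=
    (Subgroup.eq_of_le_of_card_ge (le_inf hAB hAC) (by rw [← hc, ← ha]; simp)).symm
  refine ⟨hBA, rfl, ?_⟩
  have h2 := modEq_fixed hy L hL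
  have hLC : L ⊓ Subgroup.centralizer ({y} : Set G) = A :=
    le_antisymm ((inf_le_inf_right _ hLB).trans hBA.le) (le_inf hAL hAC)
  rw [hLC, ← ha] at h2
  obtain ⟨d, hd⟩ : a ∣ Nat.card L := ha ▸ Subgroup.card_dvd_of_le hAL
  have hd16 : d ∣ 16 := by
    have h3 : a * d ∣ a * 16 := by
      rw [← hd, ha, mul_comm _ 16, ← hB16]
      exact Subgroup.card_dvd_of_le hLB
    exact Nat.dvd_of_mul_dvd_mul_left hapos h3
  obtain ⟨j, hj, rfl⟩ := (Nat.dvd_prime_pow Nat.prime_two).1 (show d ∣ 2 ^ 4 by simpa using hd16)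
  rw [hd] at h2
  have hj' : j = 0 ∨ j = 4 := by
    have ha2 : a = 1 ∨ a = 2 := by omega
    unfold Nat.ModEq at h2
    rcases ha2 with rfl | rfl <;> interval_cases j <;> omega
  rcases hj' with rfl | rfl
  · exact Or.inl (Subgroup.eq_of_le_of_card_ge hAL (by rw [hd, ← ha]; simp)).symm
  · exact Or.inr (Subgroup.eq_of_le_of_card_ge hLB (by rw [hd, hB16, ← ha]; omega))

include hA hA2 hB16 hAB hcomm hcent in
/-- Only `B` acts trivially on `B/A`. -/
theorem le_of_fix_all (g : G) (hg : ∀ b ∈ B, g * b * g⁻¹ * b⁻¹ ∈ A) : g ∈ B := by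
  classical
  let K : Subgroup G :=
    { carrier := {g | ∀ b ∈ B, g * b * g⁻¹ * b⁻¹ ∈ A}
      one_mem' := fun b _ => by simp [A.one_mem]
      mul_mem' := fun {x y} hx hy b hb => by
        have e : x * y * b * (x * y)⁻¹ * b⁻¹ =
            x * (y * b * y⁻¹ * b⁻¹) * x⁻¹ * (x * b * x⁻¹ * b⁻¹) := by group
        rw [e, Subgroup.mem_center_iff.1 (hA (hy b hb)) x, mul_inv_cancel_right]
        exact A.mul_mem (hy b hb) (hx b hb)
      inv_mem' := fun {x} hx b hb => by
        have h1 := A.inv_mem (hx b hb)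
        have e : x⁻¹ * b * x⁻¹⁻¹ * b⁻¹ = x⁻¹ * (x * b * x⁻¹ * b⁻¹)⁻¹ * x := by group
        rw [e, Subgroup.mem_center_iff.1 (hA h1) x⁻¹, inv_mul_cancel_right]
        exact h1 }
  have hBK : B ≤ K := fun x hx b hb => hcomm x hx b hb
  -- `A` has at most two elements, so it embeds in the signs
  have hsq : ∀ a ∈ A, a * a = 1 := by
    intro a ha
    rw [← pow_two, ← orderOf_dvd_iff_pow_eq_one]
    have h := Subgroup.orderOf_dvd_natCard A ha
    have : Nat.card A = 1 ∨ Nat.card A = 2 := by
      have := Nat.card_pos (α := A); omega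
    rcases this with h1 | h1 <;> rw [h1] at h
    · exact h.trans (one_dvd 2)
    · exact h
  have htwo : ∀ a ∈ A, ∀ b ∈ A, a ≠ 1 → b ≠ 1 → a = b := by
    intro a ha b hb ha1 hb1
    by_contra hne
    haveI := Fintype.ofFinite A
    have h3 : ({1, ⟨a, ha⟩, ⟨b, hb⟩} : Finset A).card ≤ Fintype.card A := Finset.card_le_univ _
    rw [Finset.card_insert_of_notMem (by simp [Subtype.ext_iff, Ne.symm ha1, Ne.symm hb1]),
      Finset.card_pair (by simp [Subtype.ext_iff, hne]), ← Nat.card_eq_fintype_card] at h3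
    omega
  let sgn : A →* ℂˣ :=
    { toFun := fun a => if (a : G) = 1 then 1 else -1
      map_one' := by simp
      map_mul' := fun a b => by
        by_cases ha1 : (a : G) = 1
        · simp [ha1]
        · by_cases hb1 : (b : G) = 1
          · simp [ha1, hb1]
          · have : (a : G) * b = 1 := by rw [htwo a a.2 b b.2 ha1 hb1]; exact hsq b b.2
            simp [ha1, hb1, this] }
  have hsgn : ∀ a : A, sgn a = 1 → (a : G) = 1 := by
    intro a ha
    by_contra h
    have : ((-1 : ℂˣ) : ℂ) = 1 := by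
      have h' : sgn a = -1 := by
        show (if (a : G) = 1 then (1 : ℂˣ) else -1) = -1
        rw [if_neg h]
      rw [← h', ha]; simp
    norm_num at this
  haveI : (A.subgroupOf B).Normal := ⟨fun a ha b => by
    rw [Subgroup.mem_subgroupOf] at ha ⊢
    rw [Subgroup.coe_mul, Subgroup.coe_mul, Subgroup.coe_inv,
      Subgroup.mem_center_iff.1 (hA ha) (b : G), mul_inv_cancel_right]
    exact ha⟩
  letI : CommGroup (B ⧸ A.subgroupOf B) :=
    { (inferInstance : Group (B ⧸ A.subgroupOf B)) with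
      mul_comm := fun x y => by
        induction x using QuotientGroup.induction_on with
        | _ x =>
          induction y using QuotientGroup.induction_on with
          | _ y =>
            rw [← QuotientGroup.mk_mul, ← QuotientGroup.mk_mul, QuotientGroup.eq,
              Subgroup.mem_subgroupOf]
            have h := hcomm _ (B.inv_mem y.2) _ (B.inv_mem x.2)
            simp only [inv_inv] at h
            simpa [mul_assoc] using h }
  have hW : Nat.card (B ⧸ A.subgroupOf B) = 16 := by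
    have h := Subgroup.card_eq_card_quotient_mul_card_subgroup (A.subgroupOf B)
    rw [Nat.card_congr (Subgroup.subgroupOfEquivOfLe hAB).toEquiv, hB16] at h
    exact (Nat.eq_of_mul_eq_mul_right Nat.card_pos h).symm
  -- the pairing of `K` with `B/A`
  let φ : K → ((B ⧸ A.subgroupOf B) →* ℂˣ) := fun k =>
    QuotientGroup.lift _
      (sgn.comp
        { toFun := fun b : B => (⟨(k : G) * b * (k : G)⁻¹ * (b : G)⁻¹, k.2 b b.2⟩ : A)
          map_one' := Subtype.ext (by simp)
          map_mul' := fun x y => Subtype.ext (by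
            show (k : G) * ((x * y : B) : G) * (k : G)⁻¹ * ((x * y : B) : G)⁻¹ =
              ((k : G) * x * (k : G)⁻¹ * (x : G)⁻¹) * ((k : G) * y * (k : G)⁻¹ * (y : G)⁻¹)
            rw [Subgroup.coe_mul]
            have e : (k : G) * (x * y) * (k : G)⁻¹ * ((x : G) * y)⁻¹ =
              ((k : G) * x * (k : G)⁻¹ * (x : G)⁻¹) *
                ((x : G) * ((k : G) * y * (k : G)⁻¹ * (y : G)⁻¹) * (x : G)⁻¹) := by group
            rw [e, Subgroup.mem_center_iff.1 (hA (k.2 y y.2)) (x : G), mul_inv_cancel_right]) })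
      fun b hb => by
        rw [MonoidHom.mem_ker, MonoidHom.comp_apply]
        have h1 : (⟨(k : G) * b * (k : G)⁻¹ * (b : G)⁻¹, k.2 b b.2⟩ : A) = 1 := Subtype.ext (by
          show (k : G) * b * (k : G)⁻¹ * (b : G)⁻¹ = 1
          rw [Subgroup.mem_center_iff.1 (hA (Subgroup.mem_subgroupOf.1 hb)) (k : G)]; group)
        show sgn ⟨(k : G) * b * (k : G)⁻¹ * (b : G)⁻¹, k.2 b b.2⟩ = 1
        rw [h1, map_one]
  have hφ : ∀ k l : K, φ k = φ l → (l : G)⁻¹ * k ∈ A := by
    intro k l hkl
    refine hcent _ fun b hb => ?_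
    have h := congrArg (fun f : (B ⧸ A.subgroupOf B) →* ℂˣ => f ((⟨b, hb⟩ : B) : B ⧸ A.subgroupOf B)) hkl
    simp only [φ, QuotientGroup.lift_mk, MonoidHom.comp_apply, MonoidHom.coe_mk, OneHom.coe_mk] at h
    have h2 : (k : G) * b * (k : G)⁻¹ * b⁻¹ = (l : G) * b * (l : G)⁻¹ * b⁻¹ := by
      have h3 := hsgn (⟨_, k.2 b hb⟩⁻¹ * ⟨_, l.2 b hb⟩) (by rw [map_mul, map_inv, h, inv_mul_cancel])
      rw [Subgroup.coe_mul, Subgroup.coe_inv] at h3
      exact inv_mul_eq_one.1 h3
    have h4 : (k : G) * b * (k : G)⁻¹ = (l : G) * b * (l : G)⁻¹ := mul_right_cancel h2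
    calc (l : G)⁻¹ * k * b = (l : G)⁻¹ * ((k : G) * b * (k : G)⁻¹) * k := by group
      _ = (l : G)⁻¹ * ((l : G) * b * (l : G)⁻¹) * k := by rw [h4]
      _ = b * ((l : G)⁻¹ * k) := by group
  have hcard : Nat.card K ≤ 16 * Nat.card A := by
    have hinj : Function.Injective (fun q : K ⧸ A.subgroupOf K => φ q.out) := by
      intro a b hab
      rw [← a.out_eq', ← b.out_eq', QuotientGroup.eq, Subgroup.mem_subgroupOf]
      exact hφ b.out a.out hab.symm
    haveI : Finite ((B ⧸ A.subgroupOf B) →* ℂˣ) :=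
      Nat.finite_of_card_ne_zero (by
        rw [CommGroup.card_monoidHom_of_hasEnoughRootsOfUnity, hW]; norm_num)
    have h1 := Nat.card_le_card_of_injective _ hinj
    rw [CommGroup.card_monoidHom_of_hasEnoughRootsOfUnity, hW] at h1
    rw [Subgroup.card_eq_card_quotient_mul_card_subgroup (A.subgroupOf K),
      Nat.card_congr (Subgroup.subgroupOfEquivOfLe (hAB.trans hBK)).toEquiv]
    exact Nat.mul_le_mul_right _ h1
  rw [Subgroup.eq_of_le_of_card_ge hBK (hB16 ▸ hcard)]
  exact hg

include hA hA2 hB16 hAB hBn hcomm hcent in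
/-- A two-subgroup over `B` normalised by an element of order five is `B`. -/
theorem two_sub_le {y : G} (hy : orderOf y = 5) (U : Subgroup G) (hBU : B ≤ U)
    (hU : IsPGroup 2 U) (hyU : ∀ u ∈ U, y * u * y⁻¹ ∈ U) : U ≤ B := by
  classical
  haveI : A.Normal := ⟨fun a ha g => by
    rw [Subgroup.mem_center_iff.1 (hA ha) g, mul_inv_cancel_right]; exact ha⟩
  let L := fixMod B A hA (U : Set G)
  have hAL : A ≤ L := fun a ha => ⟨hAB ha, fun t _ => by
    rw [Subgroup.mem_center_iff.1 (hA ha) t, mul_inv_cancel_right, mul_inv_cancel]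
    exact A.one_mem⟩
  have hLy : ∀ l ∈ L, y * l * y⁻¹ ∈ L := by
    intro l hl
    refine ⟨hBn.conj_mem l hl.1 y, fun t ht => ?_⟩
    have ht' : y⁻¹ * t * y ∈ U := by
      have h5 : y ^ 5 = 1 := hy ▸ pow_orderOf_eq_one y
      have h4 : y⁻¹ = y ^ 4 := inv_eq_of_mul_eq_one_right (by rw [← pow_succ', h5])
      have hi : ∀ k : ℕ, y ^ k * t * (y ^ k)⁻¹ ∈ U := by
        intro k
        induction k with
        | zero => simpa using ht
        | succ k ih =>
          rw [show y ^ (k + 1) * t * (y ^ (k + 1))⁻¹ = y * (y ^ k * t * (y ^ k)⁻¹) * y⁻¹ by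
            rw [pow_succ']; group]
          exact hyU _ ih
      have := hi 4
      rwa [← h4, inv_inv] at this
    have h := hl.2 _ ht'
    have e : t * (y * l * y⁻¹) * t⁻¹ * (y * l * y⁻¹)⁻¹ =
        y * (y⁻¹ * t * y * l * (y⁻¹ * t * y)⁻¹ * l⁻¹) * y⁻¹ := by group
    rw [e, Subgroup.mem_center_iff.1 (hA h) y, mul_inv_cancel_right]
    exact h
  have hLB : L ≤ B := fun b hb => hb.1
  obtain ⟨-, -, hL | hL⟩ := invariant_between hA hAB hA2 hB16 hcent hBn (Or.inl rfl) hy L hAL hLB hLy
  · exfalso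
    let f := QuotientGroup.mk' A
    haveI : ((B.map f).subgroupOf (U.map f)).Normal := by
      haveI : (B.map f).Normal := hBn.map f (QuotientGroup.mk'_surjective A)
      infer_instance
    have hne : (B.map f).subgroupOf (U.map f) ≠ ⊥ := by
      intro h
      have hBA : B ≤ A := fun b hb => by
        have hm : (⟨f b, Subgroup.mem_map_of_mem f (hBU hb)⟩ : U.map f) ∈
            (B.map f).subgroupOf (U.map f) := Subgroup.mem_map_of_mem f hb
        rw [h, Subgroup.mem_bot] at hm
        exact (QuotientGroup.eq_one_iff b).1 (congrArg Subtype.val hm)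
      have := Subgroup.card_le_of_le hBA
      have := Nat.card_pos (α := A)
      omega
    obtain ⟨⟨w, hw⟩, hw1⟩ := Subgroup.ne_bot_iff_exists_ne_one.1
      (PGroups.normal_inf_center_ne_bot (hU.map f) ((B.map f).subgroupOf (U.map f)) (hN := inferInstance) hne)
    obtain ⟨b, hb, hbw⟩ := Subgroup.mem_map.1 (Subgroup.mem_subgroupOf.1 hw.1)
    have hbL : b ∈ L := ⟨hb, fun t ht => by
      have h1 := Subgroup.mem_center_iff.1 hw.2 ⟨f t, Subgroup.mem_map_of_mem f ht⟩
      have h2 : f t * f b = f b * f t := by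
        have := congrArg Subtype.val h1
        simpa [hbw] using this
      refine (QuotientGroup.eq_one_iff _).1 ?_
      show f (t * b * t⁻¹ * b⁻¹) = 1
      rw [map_mul, map_mul, map_mul, map_inv, map_inv, h2]
      group⟩
    rw [hL] at hbL
    apply hw1
    apply Subtype.ext
    apply Subtype.ext
    show (w : G ⧸ A) = 1
    rw [← hbw]
    exact (QuotientGroup.eq_one_iff b).2 hbL
  · intro g hg
    refine le_of_fix_all hA hAB hA2 hB16 hcomm hcent g fun b hb => ?_
    have : b ∈ L := hL.symm ▸ hb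
    exact this.2 g hg

include hA hA2 hB16 hAB hBn hcomm hcent in
/-- The quotient by `B` has order dividing `20` and the class number is at most `79`. -/
theorem classes_le (hsol : Group.IsSolvable G) (hdvd : Nat.card G ∣ 2 ^ 9 * 5 * 13) (h5 : 5 ∣ Nat.card G) :
    Nat.card G ≤ 640 ∧ Nat.card (ConjClasses G) ≤ 72 := by
  classical
  haveI : Fact (Nat.Prime 5) := ⟨by norm_num⟩
  haveI : Fact (Nat.Prime 13) := ⟨by norm_num⟩
  haveI : Fact (Nat.Prime 2) := ⟨by norm_num⟩
  haveI := hBn
  obtain ⟨x, hx⟩ := exists_prime_orderOf_dvd_card' 5 h5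
  have hdvd' : Nat.card G ∣ 2 ^ 9 * 5 := by
    refine (Nat.Coprime.dvd_of_dvd_mul_right ?_ hdvd)
    refine Nat.Coprime.symm ((Nat.Prime.coprime_iff_not_dvd (by norm_num)).2 fun h13 => ?_)
    obtain ⟨y, hy⟩ := exists_prime_orderOf_dvd_card' 13 h13
    have := (invariant_between hA hAB hA2 hB16 hcent hBn (Or.inr rfl) hy A le_rfl hAB
      fun l hl => by rw [Subgroup.mem_center_iff.1 (hA hl) y, mul_inv_cancel_right]; exact hl).2.1
    norm_num at this
  have hBtwo : IsPGroup 2 B := by
    have : Nat.card A = 1 ∨ Nat.card A = 2 := by have := Nat.card_pos (α := A); omega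
    rcases this with h | h
    · exact IsPGroup.of_card (n := 4) (by rw [hB16, h]; norm_num)
    · exact IsPGroup.of_card (n := 5) (by rw [hB16, h]; norm_num)
  have hnot5 : ∀ U : Subgroup G, IsPGroup 2 U → ∀ y : G, orderOf y = 5 → y ∉ U := by
    intro U hU y hy hyU
    obtain ⟨k, hk⟩ := hU ⟨y, hyU⟩
    have hk' : y ^ 2 ^ k = 1 := congrArg Subtype.val hk
    have := orderOf_dvd_of_pow_eq_one hk'
    rw [hy] at this
    exact absurd ((by norm_num : Nat.Prime 5).dvd_of_dvd_pow this) (by norm_num)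
  have hBlt : B < ⊤ := lt_top_iff_ne_top.2 fun h => hnot5 B hBtwo x hx (h ▸ Subgroup.mem_top x)
  obtain ⟨T, hTn, hBT, -, hTcomm⟩ := exists_commutative_step hsol hBn inferInstance hBlt
  haveI := hTn
  let f := QuotientGroup.mk' B
  have hfcomm : ∀ a ∈ T, ∀ b ∈ T, f a * f b = f b * f a := fun a ha b hb => by
    rw [← map_mul, ← map_mul]
    refine (QuotientGroup.eq.2 ?_).symm
    have h := hTcomm _ (T.inv_mem ha) _ (T.inv_mem hb)
    simpa [mul_assoc] using h
  -- the two-part of `T/B` is trivial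
  let U : Subgroup G :=
    { carrier := {t | t ∈ T ∧ t ^ 2 ^ 9 ∈ B}
      one_mem' := ⟨T.one_mem, by simp [B.one_mem]⟩
      mul_mem' := fun {a b} ha hb => ⟨T.mul_mem ha.1 hb.1, by
        refine (QuotientGroup.eq_one_iff _).1 ?_
        show f ((a * b) ^ 2 ^ 9) = 1
        rw [map_pow, map_mul, (show Commute (f a) (f b) from hfcomm a ha.1 b hb.1).mul_pow,
          ← map_pow, ← map_pow]
        rw [show f (a ^ 2 ^ 9) = 1 from (QuotientGroup.eq_one_iff _).2 ha.2,
          show f (b ^ 2 ^ 9) = 1 from (QuotientGroup.eq_one_iff _).2 hb.2, one_mul]⟩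
      inv_mem' := fun {a} ha => ⟨T.inv_mem ha.1, by rw [inv_pow]; exact B.inv_mem ha.2⟩ }
  have hU2 : IsPGroup 2 U := by
    intro ⟨u, hu⟩
    obtain ⟨k, hk⟩ := hBtwo ⟨_, hu.2⟩
    refine ⟨9 + k, Subtype.ext ?_⟩
    have hk' : (u ^ 2 ^ 9) ^ 2 ^ k = 1 := congrArg Subtype.val hk
    show u ^ 2 ^ (9 + k) = 1
    rw [pow_add, pow_mul]
    exact hk'
  have hUB : U ≤ B := two_sub_le hA hAB hA2 hB16 hBn hcomm hcent hx U
    (fun b hb => ⟨hBT.le hb, B.pow_mem hb _⟩) hU2 fun u hu =>
      ⟨hTn.conj_mem u hu.1 x, by rw [conj_pow]; exact hBn.conj_mem _ hu.2 x⟩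
  let T' := T.map f
  have hT'card : Nat.card T' = 5 := by
    have hd : Nat.card T' ∣ 2 ^ 9 * 5 :=
      (Subgroup.card_subgroup_dvd_card T').trans ((Subgroup.card_quotient_dvd_card B).trans hdvd')
    have h2 : ¬ 2 ∣ Nat.card T' := by
      intro h
      obtain ⟨⟨w, hw⟩, hw2⟩ := exists_prime_orderOf_dvd_card' 2 h
      obtain ⟨t, ht, rfl⟩ := Subgroup.mem_map.1 hw
      rw [← Subgroup.orderOf_coe] at hw2
      have htU : t ∈ U := ⟨ht, (QuotientGroup.eq_one_iff _).1 (by
        show f (t ^ 2 ^ 9) = 1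
        rw [map_pow, ← orderOf_dvd_iff_pow_eq_one, show orderOf (f t) = 2 from hw2]
        exact dvd_pow_self 2 (by norm_num))⟩
      change orderOf (f t) = 2 at hw2
      rw [show f t = 1 from (QuotientGroup.eq_one_iff t).2 (hUB htU), orderOf_one] at hw2
      norm_num at hw2
    have h3 : Nat.card T' ∣ 5 := (Nat.Coprime.dvd_of_dvd_mul_left
      (Nat.Coprime.pow_right 9 ((Nat.prime_two.coprime_iff_not_dvd.2 h2).symm)) hd)
    rcases (Nat.dvd_prime (by norm_num)).1 h3 with h | h
    · exfalso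
      refine hBT.not_ge fun t ht => ?_
      have : f t ∈ T' := Subgroup.mem_map_of_mem f ht
      rw [Subgroup.eq_bot_of_card_eq T' h, Subgroup.mem_bot] at this
      exact (QuotientGroup.eq_one_iff t).1 this
    · exact h
  haveI : T'.Normal := hTn.map f (QuotientGroup.mk'_surjective B)
  have hfxT : f x ∈ T' := by
    by_contra hnot
    have hox : orderOf (f x) = 5 := by
      rcases (Nat.dvd_prime (by norm_num)).1 (hx ▸ orderOf_map_dvd f x) with h | h
      · exact absurd (orderOf_eq_one_iff.1 h ▸ T'.one_mem) hnot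
      · exact h
    -- a second subgroup of order five next to the normal one gives a subgroup of order `25`
    have h1 : 25 ∣ Nat.card (G ⧸ B) := by
      have h2 : 5 ∣ T'.index := by
        refine hox ▸ ?_
        have h3 : orderOf (QuotientGroup.mk' T' (f x)) = 5 := by
          rcases (Nat.dvd_prime (by norm_num)).1 (hox ▸ orderOf_map_dvd (QuotientGroup.mk' T') (f x)) with h | h
          · exact absurd ((QuotientGroup.eq_one_iff _).1 (orderOf_eq_one_iff.1 h)) hnot
          · exact h
        rw [hox, ← h3]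
        exact orderOf_dvd_natCard _
      rw [← Subgroup.card_mul_index T', hT'card]
      exact Nat.mul_dvd_mul_left 5 h2
    have := (h1.trans (Subgroup.card_quotient_dvd_card B)).trans hdvd'
    norm_num at this
  -- the centraliser of `T/B`
  let K5 : Subgroup (G ⧸ B) := Subgroup.centralizer (T' : Set (G ⧸ B))
  have hK2 : ¬ 2 ∣ Nat.card K5 := by
    intro h
    obtain ⟨⟨w, hw⟩, hw2⟩ := exists_prime_orderOf_dvd_card' 2 h
    rw [← Subgroup.orderOf_coe] at hw2
    obtain ⟨g, rfl⟩ := QuotientGroup.mk'_surjective B w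
    let U2 := (Subgroup.zpowers (f g)).comap f
    have hBU2 : B ≤ U2 := fun b hb => by
      show f b ∈ Subgroup.zpowers (f g)
      rw [show f b = 1 from (QuotientGroup.eq_one_iff b).2 hb]
      exact one_mem _
    have hU2p : IsPGroup 2 U2 := by
      intro ⟨u, hu⟩
      obtain ⟨k, hk⟩ := hBtwo ⟨u ^ 2, (QuotientGroup.eq_one_iff _).1 (by
        show f (u ^ 2) = 1
        rw [map_pow, ← orderOf_dvd_iff_pow_eq_one]
        have h1 := orderOf_dvd_natCard (⟨f u, hu⟩ : Subgroup.zpowers (f g))
        rw [Nat.card_zpowers, show orderOf (f g) = 2 from hw2, ← Subgroup.orderOf_coe] at h1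
        exact h1)⟩
      refine ⟨1 + k, Subtype.ext ?_⟩
      have hk' : (u ^ 2) ^ 2 ^ k = 1 := congrArg Subtype.val hk
      show u ^ 2 ^ (1 + k) = 1
      rw [pow_add, pow_mul, pow_one]
      exact hk'
    have hg : g ∈ B := two_sub_le hA hAB hA2 hB16 hBn hcomm hcent hx U2 hBU2 hU2p (fun u hu => by
      show f (x * u * x⁻¹) ∈ Subgroup.zpowers (f g)
      obtain ⟨i, hi⟩ := hu
      rw [map_mul, map_mul, map_inv, ← hi]
      have hc : Commute (f x) (f g) := Subgroup.mem_centralizer_iff.1 hw (f x) hfxT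
      rw [(hc.zpow_right i).eq, mul_inv_cancel_right]
      exact ⟨i, rfl⟩) (show g ∈ U2 from Subgroup.mem_zpowers (f g))
    change orderOf (f g) = 2 at hw2
    rw [show f g = 1 from (QuotientGroup.eq_one_iff g).2 hg, orderOf_one] at hw2
    norm_num at hw2
  have hK5 : Nat.card K5 = 5 := by
    have hle : T' ≤ K5 := fun a ha => Subgroup.mem_centralizer_iff.2 fun b hb => by
      obtain ⟨s, hs, rfl⟩ := Subgroup.mem_map.1 hb
      obtain ⟨t, ht, rfl⟩ := Subgroup.mem_map.1 ha
      exact hfcomm s hs t ht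
    have h1 : 5 ∣ Nat.card K5 := hT'card ▸ Subgroup.card_dvd_of_le hle
    have hd : Nat.card K5 ∣ 2 ^ 9 * 5 :=
      (Subgroup.card_subgroup_dvd_card K5).trans ((Subgroup.card_quotient_dvd_card B).trans hdvd')
    exact Nat.dvd_antisymm (Nat.Coprime.dvd_of_dvd_mul_left
      (Nat.Coprime.pow_right 9 ((Nat.prime_two.coprime_iff_not_dvd.2 hK2).symm)) hd) h1
  haveI : IsCyclic T' := isCyclic_of_prime_card hT'card
  let act : (G ⧸ B) →* MulAut T' := MulAut.conjNormal
  have hQ20 : Nat.card (G ⧸ B) ∣ 20 := by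
    have hker : act.ker ≤ K5 := fun w hw => Subgroup.mem_centralizer_iff.2 fun a ha => by
      have := congrArg Subtype.val (DFunLike.congr_fun (MonoidHom.mem_ker.1 hw) (⟨a, ha⟩ : T'))
      simp only [act, MulAut.conjNormal_apply, MulAut.one_apply] at this
      conv_lhs => rw [← this]
      group
    have h1 : Nat.card act.range ∣ 4 := by
      have h := act.range.card_subgroup_dvd_card
      rw [IsCyclic.card_mulAut, hT'card] at h
      exact h.trans (dvd_of_eq (by rw [Nat.totient_prime (by norm_num : Nat.Prime 5)]))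
    rw [← Subgroup.card_mul_index act.ker, Subgroup.index_ker]
    exact Nat.mul_dvd_mul (hK5 ▸ Subgroup.card_dvd_of_le hker) h1
  have hGle : Nat.card G ≤ 640 := by
    rw [Subgroup.card_eq_card_quotient_mul_card_subgroup B, hB16]
    have := Nat.le_of_dvd (by norm_num) hQ20
    calc Nat.card (G ⧸ B) * (16 * Nat.card A) ≤ 20 * (16 * 2) :=
          Nat.mul_le_mul this (Nat.mul_le_mul_left _ hA2)
      _ = 640 := by norm_num
  refine ⟨hGle, ?_⟩
  haveI := Fintype.ofFinite G
  -- centraliser orders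
  have hfix : ∀ g : G, 5 ∣ Nat.card (Subgroup.centralizer ({g} : Set G)) →
      fixMod B A hA {g} = A ∨ g ∈ B := by
    intro g h
    obtain ⟨⟨y, hyg⟩, hy⟩ := exists_prime_orderOf_dvd_card' 5 h
    rw [← Subgroup.orderOf_coe] at hy
    obtain ⟨-, -, hL | hL⟩ := invariant_between hA hAB hA2 hB16 hcent hBn (Or.inl rfl) hy
      (fixMod B A hA {g})
      (fun a ha => ⟨hAB ha, fun t _ => by
        rw [Subgroup.mem_center_iff.1 (hA ha) t, mul_inv_cancel_right, mul_inv_cancel]
        exact A.one_mem⟩)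
      (fun b hb => hb.1) (fun l hl => ⟨hBn.conj_mem l hl.1 y, fun t ht => by
        rw [Set.mem_singleton_iff] at ht
        subst ht
        have hc : Commute y t := Subgroup.mem_centralizer_singleton_iff.1 hyg
        have h := hl.2 t rfl
        have e : t * (y * l * y⁻¹) * t⁻¹ * (y * l * y⁻¹)⁻¹ =
            y * (t * l * t⁻¹ * l⁻¹) * y⁻¹ := by
          calc t * (y * l * y⁻¹) * t⁻¹ * (y * l * y⁻¹)⁻¹
              = (t * y) * l * (t * y)⁻¹ * y * l⁻¹ * y⁻¹ := by group
            _ = (y * t) * l * (y * t)⁻¹ * y * l⁻¹ * y⁻¹ := by rw [hc.eq]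
            _ = y * (t * l * t⁻¹ * l⁻¹) * y⁻¹ := by group
        rw [e, Subgroup.mem_center_iff.1 (hA h) y, mul_inv_cancel_right]
        exact h⟩)
    · exact Or.inl hL
    · exact Or.inr (le_of_fix_all hA hAB hA2 hB16 hcomm hcent g fun b hb => by
        have : b ∈ fixMod B A hA {g} := hL.symm ▸ hb
        exact this.2 g rfl)
  have hCB : ∀ g b : G, b ∈ B → b ∈ Subgroup.centralizer ({g} : Set G) → b ∈ fixMod B A hA {g} :=
    fun g b hb hbc => ⟨hb, fun t ht => by
      rw [Set.mem_singleton_iff] at ht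
      subst ht
      rw [← Subgroup.mem_centralizer_singleton_iff.1 hbc, mul_inv_cancel_right, mul_inv_cancel]
      exact A.one_mem⟩
  have hout : ∀ g ∉ B, Nat.card (Subgroup.centralizer ({g} : Set G)) ≤ 64 := by
    intro g hg
    set C := Subgroup.centralizer ({g} : Set G) with hC
    have hA20 : Nat.card f.range ≤ 20 :=
      (Nat.card_mono (Set.toFinite (Set.univ : Set (G ⧸ B))) (Set.subset_univ _)).trans
        (by rw [Nat.card_congr (Equiv.Set.univ _)]; exact Nat.le_of_dvd (by norm_num) hQ20)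
    by_cases h5' : 5 ∣ Nat.card C
    · have hfA := (hfix g h5').resolve_right hg
      refine (card_le_range_mul f C A fun u hu h1 => hfA ▸ hCB g u ((QuotientGroup.eq_one_iff u).1 h1) hu).trans ?_
      calc Nat.card f.range * Nat.card A ≤ 20 * 2 := Nat.mul_le_mul hA20 hA2
        _ ≤ 64 := by norm_num
    · let CB := C ⊓ B
      have hCB16 : Nat.card CB ≤ 16 := by
        have hne : CB ≠ B := by
          intro h
          refine hg (le_of_fix_all hA hAB hA2 hB16 hcomm hcent g fun b hb => ?_)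
          have : b ∈ CB := h.symm ▸ hb
          exact (hCB g b hb this.1).2 g rfl
        have h1 := Subgroup.card_mul_index (CB.subgroupOf B)
        rw [Nat.card_congr (Subgroup.subgroupOfEquivOfLe (inf_le_right : CB ≤ B)).toEquiv] at h1
        have h2 : 2 ≤ (CB.subgroupOf B).index := Subgroup.one_lt_index_of_ne_top fun h =>
          hne (le_antisymm inf_le_right (Subgroup.subgroupOf_eq_top.1 h))
        have h3 : Nat.card CB * 2 ≤ 32 := by
          refine (Nat.mul_le_mul_left _ h2).trans (h1.le.trans ?_)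
          rw [hB16]; omega
        omega
      have hmap : Nat.card (f.domRestrict C).range ≤ 4 := by
        have h1 : Nat.card (f.domRestrict C).range ∣ Nat.card C := Subgroup.card_range_dvd _
        have h2 : Nat.card (f.domRestrict C).range ∣ 20 :=
          (Subgroup.card_subgroup_dvd_card _).trans hQ20
        have h3 : ¬ 5 ∣ Nat.card (f.domRestrict C).range := fun h => h5' (h.trans h1)
        have h4 : Nat.card (f.domRestrict C).range ≤ 20 := Nat.le_of_dvd (by norm_num) h2
        interval_cases Nat.card (f.domRestrict C).range <;> omega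
      have hk := Subgroup.card_mul_index (f.domRestrict C).ker
      rw [Subgroup.index_ker] at hk
      rw [← hk]
      refine le_trans (Nat.mul_le_mul ?_ hmap) (show 16 * 4 ≤ 64 by norm_num)
      exact (Nat.card_le_card_of_injective
        (fun u : (f.domRestrict C).ker => (⟨((u : C) : G), (u : C).2, (QuotientGroup.eq_one_iff _).1 u.2⟩ : CB))
        fun a b h => Subtype.ext (Subtype.ext (congrArg (fun k : CB => (k : G)) h))).trans hCB16
  have hin : ∀ g ∈ B, g ∉ A → Nat.card (Subgroup.centralizer ({g} : Set G)) * 5 ≤ Nat.card G := by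
    intro g hg hgA
    have hno : ¬ 5 ∣ Nat.card (Subgroup.centralizer ({g} : Set G)) := by
      intro h
      obtain ⟨⟨y, hyg⟩, hy⟩ := exists_prime_orderOf_dvd_card' 5 h
      rw [← Subgroup.orderOf_coe] at hy
      have hBy := (invariant_between hA hAB hA2 hB16 hcent hBn (Or.inl rfl) hy B hAB le_rfl
        fun l hl => hBn.conj_mem l hl y).1
      refine hgA (hBy ▸ ⟨hg, Subgroup.mem_centralizer_singleton_iff.2 ?_⟩)
      exact (Subgroup.mem_centralizer_singleton_iff.1 hyg).symm
    have h1 := Subgroup.card_mul_index (Subgroup.centralizer ({g} : Set G))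
    have h2 : 5 ∣ (Subgroup.centralizer ({g} : Set G)).index :=
      ((Nat.Prime.dvd_mul (by norm_num)).1 (h1.symm ▸ h5)).resolve_left hno
    rw [← h1]
    exact Nat.mul_le_mul_left _ (Nat.le_of_dvd (Nat.pos_of_ne_zero Subgroup.index_ne_zero_of_finite) h2)
  let c : G → ℕ := fun g => Nat.card (Subgroup.centralizer ({g} : Set G))
  have hcount : Nat.card (ConjClasses G) * Nat.card G = ∑ g : G, c g := by
    rw [← card_comm_eq_card_conjClasses_mul_card, ← Nat.card_sigma]
    exact Nat.card_congr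
      { toFun := fun x => ⟨x.1.1, x.1.2, Subgroup.mem_centralizer_singleton_iff.2 x.2.symm⟩
        invFun := fun y => ⟨(y.1, y.2.1), (Subgroup.mem_centralizer_singleton_iff.1 y.2.2).symm⟩
        left_inv := fun _ => rfl
        right_inv := fun _ => rfl }
  have hbound : ∀ g, 5 * c g ≤ (if g ∈ A then 5 * Nat.card G else 0) +
      (if g ∈ B then Nat.card G else 0) + 320 := by
    intro g
    by_cases hgA : g ∈ A
    · rw [if_pos hgA]
      have : c g ≤ Nat.card G := Nat.card_le_card_of_injective _ Subtype.val_injective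
      omega
    · rw [if_neg hgA]
      by_cases hgB : g ∈ B
      · rw [if_pos hgB]
        have := hin g hgB hgA
        simp only [c]
        omega
      · rw [if_neg hgB]
        have := hout g hgB
        simp only [c]
        omega
  have hsum := Finset.sum_le_sum (s := Finset.univ) fun g _ => hbound g
  rw [← Finset.mul_sum, ← hcount, Finset.sum_add_distrib, Finset.sum_add_distrib, ← Finset.sum_filter,
    ← Finset.sum_filter, Finset.sum_const, Finset.sum_const, Finset.sum_const, smul_eq_mul,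
    smul_eq_mul, smul_eq_mul,
    ← Nat.subtype_card (p := fun x => x ∈ A) (Finset.univ.filter fun y : G => y ∈ A) (by simp),
    ← Nat.subtype_card (p := fun x => x ∈ B) (Finset.univ.filter fun y : G => y ∈ B) (by simp),
    Finset.card_univ, ← Nat.card_eq_fintype_card] at hsum
  have hpos : 0 < Nat.card G := Nat.card_pos
  have hA' : Nat.card {x // x ∈ A} = Nat.card A := rfl
  have hB' : Nat.card {x // x ∈ B} ≤ 32 := by
    show Nat.card B ≤ 32
    omega
  have h1 := Nat.mul_le_mul_right (5 * Nat.card G) (hA'.trans_le hA2)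
  have h2 := Nat.mul_le_mul_right (Nat.card G) hB'
  refine Nat.le_of_lt_succ (Nat.lt_of_mul_lt_mul_left (a := 5 * Nat.card G) ?_)
  calc 5 * Nat.card G * Nat.card (ConjClasses G)
      = 5 * (Nat.card (ConjClasses G) * Nat.card G) := by ring
    _ < 5 * Nat.card G * Nat.succ 72 := by
      rw [show 5 * Nat.card G * Nat.succ 72 = Nat.card G * 365 by ring]
      linarith [hsum, h1, h2, hpos]

end Abstract

variable {p : ℕ} [Fact p.Prime]
variable {V : Type*} [AddCommGroup V] [Module (ZMod p) V] [Finite V] [Nontrivial V]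
variable {G : Type*} [Group G] [Finite G] (ρ : G →* (V ≃ₗ[ZMod p] V))

/-- The solvable non-semilinear groups on `81` points. -/
theorem eighty_one_bound (hρ : Function.Injective ρ)
    (htrans : ∀ v w : V, v ≠ 0 → w ≠ 0 → ∃ g : G, ρ g v = w) (hG : ¬ p ∣ Nat.card G)
    (hsol : Group.IsSolvable G) (hsl : ¬ IsSemilinear ρ) (hn : Nat.card V = 81) {v : V} (hv : v ≠ 0) :
    Nat.card (ConjClasses G) + Nat.card (ConjClasses (stab ρ v)) < 81 := by
  classical
  have hp : p.Prime := Fact.out
  obtain ⟨m, d, A, B, C, F⟩ := (dichotomy ρ hsol hρ htrans).resolve_left hsl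
  have hV : (p ^ m) ^ d = 81 := F.card_V ▸ hn
  have hm := F.pos_m
  have hd2 := F.two_le_d
  have hp3 : p = 3 := by
    have h1 : p ∣ 3 ^ 4 := by
      rw [show (3 : ℕ) ^ 4 = 81 by norm_num, ← hV, ← pow_mul]
      exact dvd_pow_self p (Nat.mul_ne_zero hm.ne' (by omega))
    exact (Nat.prime_dvd_prime_iff_eq hp Nat.prime_three).1 (hp.dvd_of_dvd_pow h1)
  subst hp3
  have hmd : m * d = 4 := by
    rw [← pow_mul] at hV
    exact Nat.pow_right_injective (show 2 ≤ 3 by norm_num) (hV.trans (by norm_num))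
  obtain ⟨hd', hm'⟩ : d = 4 ∧ m = 1 := by
    have : d ≤ 4 := Nat.le_of_dvd (by norm_num) (hmd ▸ Dvd.intro_left m rfl)
    interval_cases d
    · exfalso
      have h4 : A.relIndex B ≠ 4 := fun h => by have := (F.of_four h).2.1; omega
      have h4' : A.relIndex B ≤ 4 := F.N_le
      have hne1 := F.N_ne_one
      have hnp := F.N_not_prime
      have h0 : A.relIndex B ≠ 0 := Subgroup.index_ne_zero_of_finite (H := A.subgroupOf B)
      interval_cases h : A.relIndex B
      · omega
      · omega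
      · exact hnp Nat.prime_two
      · exact hnp Nat.prime_three
      · omega
    · omega
    · exact ⟨rfl, by omega⟩
  subst hd' hm'
  have hC : C = ⊤ := Subgroup.index_eq_one.1 (Nat.dvd_one.1 F.index_C)
  have hAcen : A ≤ Subgroup.center G := fun a ha => Subgroup.mem_center_iff.2 fun g =>
    F.central g (hC ▸ Subgroup.mem_top g) a ha
  have hA2 : Nat.card A ≤ 2 := by
    have := Nat.le_of_dvd (by norm_num) F.card_A
    simpa using this
  have hcent : ∀ c : G, (∀ y ∈ B, c * y = y * c) → c ∈ A := fun c =>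
    F.centralizer c (hC ▸ Subgroup.mem_top c)
  have hN4 : A.relIndex B ≠ 4 := fun h => by have := (F.of_four h).1; omega
  have hN6 := F.count_even hN4 ⟨2, rfl⟩
  norm_num at hN6
  have hN16 : A.relIndex B ≤ 16 := by have := F.N_le; simpa using this
  have hN2 : A.relIndex B ∣ 2 ^ 4 :=
    dvd_of_prime_power (Subgroup.index_ne_zero_of_finite (H := A.subgroupOf B))
      (fun r hr hrN => (Nat.prime_dvd_prime_iff_eq hr Nat.prime_two).1 (by simpa using (F.roots r hr hrN).1))
      (by omega)
  have h5 : 5 ∣ Nat.card G := by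
    have h := orbit_dvd ρ htrans
    rw [hn] at h
    exact dvd_trans (by norm_num) h
  haveI : Fact (Nat.Prime 5) := ⟨by norm_num⟩
  have hBcard : Nat.card B = A.relIndex B * Nat.card A := by
    rw [← Nat.card_congr (Subgroup.subgroupOfEquivOfLe F.A_le).toEquiv, mul_comm]
    exact (Subgroup.card_mul_index (A.subgroupOf B)).symm
  have hN : A.relIndex B = 16 := by
    obtain ⟨k, hk, hkN⟩ := (Nat.dvd_prime_pow Nat.prime_two).1 hN2
    rw [hkN] at hN6 hBcard ⊢
    interval_cases k <;> norm_num at hN6 <;> norm_num at hBcard ⊢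
    -- `N = 8`: an element of order five would centralise `B`
    exfalso
    obtain ⟨x, hx⟩ := exists_prime_orderOf_dvd_card' 5 h5
    have h1 := modEq_fixed hx B fun l hl => F.B_normal.conj_mem l hl x
    have hAC : A ≤ Subgroup.centralizer ({x} : Set G) := fun a ha =>
      Subgroup.mem_centralizer_singleton_iff.2 (Subgroup.mem_center_iff.1 (hAcen ha) x).symm
    obtain ⟨e, he⟩ := Subgroup.card_dvd_of_le (le_inf F.A_le hAC)
    have h2 : Nat.card ↥(B ⊓ Subgroup.centralizer ({x} : Set G)) ∣ Nat.card B :=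
      Subgroup.card_dvd_of_le inf_le_left
    rw [he, hBcard, mul_comm 8] at h2
    have he8 : e ∣ 2 ^ 3 := by simpa using Nat.dvd_of_mul_dvd_mul_left Nat.card_pos h2
    obtain ⟨j, hj, rfl⟩ := (Nat.dvd_prime_pow Nat.prime_two).1 he8
    have hj3 : j = 3 := by
      rw [hBcard, he] at h1
      unfold Nat.ModEq at h1
      have ha2 : Nat.card A = 1 ∨ Nat.card A = 2 := by have := Nat.card_pos (α := A); omega
      rcases ha2 with ha | ha <;> rw [ha] at h1 <;> interval_cases j <;> simp_all
    subst hj3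
    have hBC : B ⊓ Subgroup.centralizer ({x} : Set G) = B :=
      Subgroup.eq_of_le_of_card_ge inf_le_left (by rw [he, hBcard]; omega)
    have hxA : x ∈ A := hcent x fun b hb => by
      have : b ∈ B ⊓ Subgroup.centralizer ({x} : Set G) := hBC.symm ▸ hb
      exact (Subgroup.mem_centralizer_singleton_iff.1 this.2).symm
    have := Nat.le_of_dvd Nat.card_pos (hx ▸ Subgroup.orderOf_dvd_natCard A hxA)
    omega
  rw [hN] at hBcard
  have hdvd : Nat.card G ∣ 2 ^ 9 * 5 * 13 := by
    have hfr : Module.finrank (ZMod 3) V = 4 := by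
      have h := Module.natCard_eq_pow_finrank (K := ZMod 3) (V := V)
      rw [hn, Nat.card_zmod] at h
      exact (Nat.pow_right_injective (show 2 ≤ 3 by norm_num) (h.symm.trans (by norm_num)))
    let Lh : G →* Module.End (ZMod 3) V :=
      { toFun := fun g => (ρ g).toLinearMap
        map_one' := LinearMap.ext fun w => rho_one_apply ρ w
        map_mul' := fun a b => LinearMap.ext fun w => rho_mul_apply ρ a b w }
    let f : G →* Matrix (Fin 4) (Fin 4) (ZMod 3) :=
      (LinearMap.toMatrixAlgEquiv (Module.finBasisOfFinrankEq (ZMod 3) V hfr)).toAlgHom.toRingHom.toMonoidHom.comp Lh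
    have hf : Function.Injective f := fun a b h => hρ (LinearEquiv.toLinearMap_injective
      ((LinearMap.toMatrixAlgEquiv (Module.finBasisOfFinrankEq (ZMod 3) V hfr)).injective h))
    have h := card_le_of_injective_hom (B := GL (Fin 4) (ZMod 3)) f.toHomUnits fun a b h => hf (congrArg Units.val h)
    rw [Matrix.card_GL_field, Fin.prod_univ_four] at h
    norm_num [ZMod.card] at h
    have hco : Nat.Coprime (Nat.card G) 729 :=
      Nat.Coprime.pow_right 6 ((Nat.prime_three.coprime_iff_not_dvd.2 hG).symm)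
    refine Nat.Coprime.dvd_of_dvd_mul_right hco ?_
    exact h.trans (by norm_num)
  obtain ⟨hG640, hk⟩ := classes_le hAcen F.A_le hA2 hBcard F.B_normal F.comm hcent hsol hdvd h5
  have hkH : Nat.card (ConjClasses (stab ρ v)) ≤ Nat.card (stab ρ v) :=
    Nat.card_le_card_of_surjective ConjClasses.mk fun x => Quotient.exists_rep x
  have hst := card_stab_mul ρ htrans hv
  rw [hn] at hst
  omega

end Cfsg.Agent.Lib.KGV46
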