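import Cfsg.Agent.Lib.KGV46.Field
import Cfsg.Agent.Lib.KGV46.Semilinear
import Cfsg.Agent.Lib.Linear.Order
import Cfsg.Agent.Lib.Brauer.SmallDegree
import Cfsg.Agent.Lib.SmallDegreeTI.Main
import Cfsg.Agent.Lib.Induced.Burnside
import Cfsg.Agent.S0205
import Cfsg.Agent.S3430
import Cfsg.Agent.S4503
import Cfsg.Agent.S4504

/-!
# A transitive linear group of order prime to the characteristic is solvable in dimension at least three

A primitive prime `r` of `p ^ n - 1` gives a normal cyclic Sylow subgroup with abelian centraliser,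
except for a few parameters where the small faithful complex character forces the same conclusion.
-/

set_option autoImplicit false
set_option linter.unusedSectionVars false
set_option linter.style.haveILetI false

namespace Cfsg.Agent.Lib.KGV46

open Cfsg.Agent.Lib
open scoped commutatorElement

universe u

theorem three_dvd_card_psl {r : ℕ} [Fact r.Prime] (hr : 5 ≤ r) :
    3 ∣ Nat.card (Matrix.ProjectiveSpecialLinearGroup (Fin 2) (ZMod r)) := by
  have hrp : r.Prime := Fact.out
  have hodd : Odd (Fintype.card (ZMod r)) := by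
    rw [ZMod.card]; exact hrp.odd_of_ne_two (by omega)
  have h := Linear.two_mul_card_PSL_two_of_odd (F := ZMod r) hodd
  rw [ZMod.card] at h
  have h3 : r % 3 ≠ 0 := fun h0 => by
    have := (Nat.prime_dvd_prime_iff_eq Nat.prime_three hrp).1 (Nat.dvd_of_mod_eq_zero h0)
    omega
  have h4 : 3 ∣ (r - 1) ∨ 3 ∣ (r + 1) := by omega
  have h5 : 3 ∣ r * (r - 1) * (r + 1) := by
    rcases h4 with h4 | h4
    · exact (h4.mul_left r).mul_right _
    · exact h4.mul_left _
  rw [← h] at h5
  exact ((Nat.prime_three.dvd_mul).1 h5).resolve_left (by norm_num)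

/-- A big prime has a normal Sylow subgroup in a group with a small faithful character. -/
theorem normal_sylow_of_small {G : Type u} [Group G] [Finite G] {χ : G → ℂ}
    (hχ : Cfsg.IsCharacter G χ) (hf : ∀ g, χ g = χ 1 → g = 1) {n l : ℕ} [Fact l.Prime]
    (hn : Cfsg.charDegree χ ≤ n) (h1 : n + 1 < l)
    (h2 : 2 * n + 1 < l ∨ (2 * n + 1 = l ∧ ¬ 3 ∣ Nat.card G)) (P : Sylow l G) :
    (P : Subgroup G).Normal := by
  refine Brauer.SmallDegree.main n h1 (Nat.card G) G χ le_rfl hχ hf hn (Or.inr ?_) P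
  intro K hsq Q
  have hl : l.Prime := Fact.out
  by_cases hd : l ∣ Nat.card K
  swap
  · have hbot : (Q : Subgroup K) = ⊥ := by
      refine Subgroup.eq_bot_of_card_eq _ ?_
      rw [Q.card_eq_multiplicity, Nat.factorization_eq_zero_of_not_dvd hd, pow_zero]
    rw [hbot]; infer_instance
  by_contra hQn
  have hQ : Nat.card (Q : Subgroup K) = l := by
    rw [Q.card_eq_multiplicity]
    have h1 : (Nat.card K).factorization l = 1 := by
      refine le_antisymm ?_ (hl.factorization_pos_of_dvd Nat.card_pos.ne' hd)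
      by_contra hc
      exact hsq ((pow_dvd_pow l (by omega)).trans (Nat.ordProj_dvd _ _))
    rw [h1, pow_one]
  have hnn : ∀ H : Subgroup K, H.Normal → Nat.card H ≠ l := by
    intro H hH hc
    haveI := hH
    obtain ⟨Q', hQ'⟩ := (IsPGroup.of_card (n := 1) (by rw [hc, pow_one])).exists_le_sylow (P := H)
    have heq : H = Q' := Subgroup.eq_of_le_of_card_ge hQ' (by
      rw [hc, Q'.card_eq_multiplicity, ← Q.card_eq_multiplicity, hQ])
    haveI : (Q' : Subgroup K).Normal := heq ▸ hH
    haveI := Sylow.unique_of_normal Q' inferInstance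
    rw [Subsingleton.elim Q Q'] at hQn
    exact hQn inferInstance
  have hχK : Cfsg.IsCharacter K (χ ∘ K.subtype) := Characters.Basic.isCharacter_comp K.subtype hχ
  have hfK : ∀ g : K, (χ ∘ K.subtype) g = (χ ∘ K.subtype) 1 → g = 1 := fun g hg =>
    Subtype.ext (hf g (by simpa using hg))
  have hdeg : Cfsg.charDegree (χ ∘ K.subtype) = Cfsg.charDegree χ := by
    simp [Cfsg.charDegree]
  have h := Cfsg.Agent.S4503.result l hl hd hsq hnn _ hχK hfK
  rw [hdeg] at h
  rcases h2 with h2 | ⟨h2, h3⟩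
  · omega
  · obtain ⟨e⟩ := Cfsg.Agent.S4504.result l hl hd hsq hnn _ hχK hfK (by rw [hdeg]; omega)
    apply h3
    have h5 : 5 ≤ l := by
      have : l ≠ 3 := fun hh => h3 (hh ▸ hd.trans K.card_subgroup_dvd_card)
      have : l ≠ 4 := fun hh => by rw [hh] at hl; exact absurd hl (by norm_num)
      omega
    refine (three_dvd_card_psl h5).trans ?_
    rw [← Nat.card_congr e.toEquiv]
    exact (Subgroup.card_quotient_dvd_card _).trans K.card_subgroup_dvd_card

/-- A normal subgroup and a complement that are solvable. -/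
theorem solvable_of_normal {G : Type u} [Group G] (N : Subgroup G) [N.Normal]
    [Group.IsSolvable N] [Group.IsSolvable (G ⧸ N)] : Group.IsSolvable G :=
  Group.isSolvable_of_ker_le_range N.subtype (QuotientGroup.mk' N) (by simp)

/-- A group with a small faithful character all of whose primes but two are big is solvable. -/
theorem solvable_of_small (n s : ℕ) (hs : s.Prime) : ∀ (k : ℕ) (G : Type u) [Group G] [Finite G]
    (χ : G → ℂ), Nat.card G ≤ k → Cfsg.IsCharacter G χ → (∀ g, χ g = χ 1 → g = 1) →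
    Cfsg.charDegree χ ≤ n →
    (∀ l : ℕ, l.Prime → l ∣ Nat.card G → l = 2 ∨ l = s ∨
      (n + 1 < l ∧ (2 * n + 1 < l ∨ (2 * n + 1 = l ∧ ¬ 3 ∣ Nat.card G)))) →
    Group.IsSolvable G := by
  intro k
  induction k with
  | zero => intro G _ _ χ hk; exact absurd (Nat.card_pos (α := G)) (by omega)
  | succ k ih =>
    intro G _ _ χ hk hχ hf hn hpr
    by_cases hbig : ∃ l : ℕ, l.Prime ∧ l ∣ Nat.card G ∧ l ≠ 2 ∧ l ≠ s
    · obtain ⟨l, hl, hld, hl2, hls⟩ := hbig
      haveI := Fact.mk hl
      obtain ⟨h1, h2⟩ := ((hpr l hl hld).resolve_left hl2).resolve_left hls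
      let P : Sylow l G := default
      haveI := normal_sylow_of_small hχ hf hn h1 h2 P
      obtain ⟨K, hK⟩ := Subgroup.exists_right_complement'_of_coprime (N := (P : Subgroup G)) P.card_coprime_index
      haveI : Group.IsNilpotent (P : Subgroup G) := P.isPGroup'.isNilpotent
      have hPpos : 1 < Nat.card (P : Subgroup G) := by
        rw [P.card_eq_multiplicity]
        exact Nat.one_lt_pow (hl.factorization_pos_of_dvd Nat.card_pos.ne' hld).ne' hl.one_lt
      have hKlt : Nat.card K ≤ k := by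
        have h := hK.card_mul_card
        have hKpos : 0 < Nat.card K := Nat.card_pos
        nlinarith [h, hk, hPpos, hKpos]
      haveI : Group.IsSolvable K := ih K (χ ∘ K.subtype) hKlt
        (Characters.Basic.isCharacter_comp K.subtype hχ)
        (fun g hg => Subtype.ext (hf g (by simpa using hg)))
        (le_of_eq_of_le (by simp [Cfsg.charDegree]) hn)
        (fun q hq hqd => (hpr q hq (hqd.trans K.card_subgroup_dvd_card)).imp_right
          (Or.imp_right (And.imp_right (Or.imp_right (And.imp_right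
            (fun h3 h => h3 (h.trans K.card_subgroup_dvd_card)))))))
      haveI : Group.IsSolvable (G ⧸ (P : Subgroup G)) := by
        refine Group.isSolvable_of_surjective (f := (QuotientGroup.mk' (P : Subgroup G)).comp K.subtype) ?_
        intro q
        obtain ⟨g, rfl⟩ := QuotientGroup.mk'_surjective (P : Subgroup G) q
        obtain ⟨⟨a, b⟩, hab⟩ := hK.2 g
        refine ⟨b, ?_⟩
        show QuotientGroup.mk' (P : Subgroup G) (b : G) = QuotientGroup.mk' (P : Subgroup G) g
        rw [← hab, map_mul, show QuotientGroup.mk' (P : Subgroup G) (a : G) = 1 from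
          (QuotientGroup.eq_one_iff _).2 a.2, one_mul]
      exact solvable_of_normal (P : Subgroup G)
    · push Not at hbig
      obtain ⟨N, hN⟩ : ∃ N, N = Nat.card G := ⟨_, rfl⟩
      have hN0 : N ≠ 0 := hN ▸ Nat.card_pos.ne'
      obtain ⟨a, M, hM, hNM⟩ := Nat.exists_eq_pow_mul_and_not_dvd hN0 2 (by norm_num)
      have hM' : ∀ {d : ℕ}, d.Prime → d ∣ M → d = s := fun {d} hd hdM =>
        hbig d hd (hN ▸ hNM ▸ hdM.mul_left _) fun h2 => hM (h2 ▸ hdM)
      have hM0 : M ≠ 0 := fun h => hN0 (by rw [hNM, h, mul_zero])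
      exact Induced.Burnside.isSolvable_of_card_eq 2 s a M.primeFactorsList.length Nat.prime_two hs
        (by rw [← hN, hNM, ← Nat.eq_prime_pow_of_unique_prime_dvd hM0 hM'])

/-- A TI Sylow subgroup of order above `n ^ 2 + 1` is normal. -/
theorem normal_of_sameCen {G : Type u} [Group G] [Finite G] {χ : G → ℂ}
    (hχ : Cfsg.IsCharacter G χ) (hf : ∀ g, χ g = χ 1 → g = 1) {n l : ℕ} [Fact l.Prime]
    (hn : Cfsg.charDegree χ ≤ n) (P : Sylow l G) (hs : SmallDegreeTI.Setup.SameCen P)
    (hP : n ^ 2 + 1 < Nat.card (P : Subgroup G)) : (P : Subgroup G).Normal := by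
  classical
  letI := Fintype.ofFinite G
  letI := Fintype.ofFinite (Cfsg.IrrCharacter G)
  set K := Subgroup.normalClosure ((P : Subgroup G) : Set G)
  have hPK : (P : Subgroup G) ≤ K := Subgroup.subset_normalClosure
  choose c hc using fun η : Cfsg.IrrCharacter G =>
    Characters.Basic.exists_classInner_nat hχ (Characters.Basic.isCharacter_irr η)
  have hdec : ∀ g, χ g = ∑ η : Cfsg.IrrCharacter G, (c η : ℂ) * (η : G → ℂ) g := by
    intro g
    have h := congrFun (Induced.Generalized.eq_sum_irr (Induced.Generalized.of_isCharacter hχ)) g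
    simp only [Finset.sum_apply, Pi.smul_apply, smul_eq_mul, hc] at h
    exact h
  obtain ⟨d, hd⟩ := Characters.Basic.exists_degree hχ
  have hd' : d ≤ n := by
    refine le_of_eq_of_le ?_ hn
    rw [Cfsg.charDegree, hd]; simp
  choose x hx using fun η : Cfsg.IrrCharacter G =>
    Characters.Basic.exists_degree (Characters.Basic.isCharacter_irr η)
  have hsum : d = ∑ η : Cfsg.IrrCharacter G, c η * x η := by
    have h := hdec 1
    rw [hd] at h
    simp only [hx] at h
    exact_mod_cast h
  have hcomm : ∀ a ∈ K, ∀ b ∈ K, a * b = b * a := by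
    intro a ha b hb
    refine commutatorElement_eq_one_iff_mul_comm.1 (hf _ ?_)
    rw [hdec, hdec]
    refine Finset.sum_congr rfl fun η _ => ?_
    by_cases hη : c η = 0
    · simp [hη]
    have hxn : x η ≤ n := by
      refine le_trans ?_ hd'
      rw [hsum]
      exact (Nat.le_mul_of_pos_left _ (Nat.pos_of_ne_zero hη)).trans
        (Finset.single_le_sum (f := fun η => c η * x η) (fun _ _ => Nat.zero_le _) (Finset.mem_univ η))
    letI := Fintype.ofFinite (Cfsg.IrrCharacter (SmallDegreeTI.Setup.cen P))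
    rw [(SmallDegreeTI.Main.commutator_trivial hs η (hx η)
      (lt_of_le_of_lt (Nat.add_le_add_right (Nat.pow_le_pow_left hxn 2) 1) hP) K hPK
      (fun N _ h => Subgroup.normalClosure_le_normal h)).2 a ha b hb]
  refine ⟨fun y hy g => ?_⟩
  set z := g * y * g⁻¹ with hz
  have hzK : z ∈ K := (Subgroup.normalClosure_normal).conj_mem y (hPK hy) g
  have hZ : IsPGroup l (Subgroup.zpowers z) := by
    obtain ⟨k, hk⟩ := P.isPGroup' ⟨y, hy⟩
    obtain ⟨j, -, hj⟩ := (Nat.dvd_prime_pow (Fact.out : l.Prime)).1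
      (orderOf_dvd_of_pow_eq_one (congrArg Subtype.val hk : y ^ l ^ k = 1))
    refine IsPGroup.of_card (n := j) ?_
    rw [Nat.card_zpowers, hz, ← MulAut.conj_apply, MulEquiv.orderOf_eq, hj]
  have hle : Subgroup.zpowers z ≤ Subgroup.normalizer ((P : Subgroup G) : Set G) := by
    rw [Subgroup.zpowers_le]
    refine Subgroup.centralizer_le_normalizer _ ?_
    exact Subgroup.mem_centralizer_iff.2 fun w hw => hcomm w (hPK hw) z hzK
  have hsup : IsPGroup l ((P : Subgroup G) ⊔ Subgroup.zpowers z : Subgroup G) :=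
    P.isPGroup'.to_sup_of_normal_left' hZ hle
  have := P.is_maximal' hsup le_sup_left
  rw [← this]
  exact Subgroup.mem_sup_right (Subgroup.mem_zpowers z)

/-- A cyclic normal subgroup with solvable centraliser. -/
theorem solvable_of_cyclic_normal {G : Type u} [Group G] [Finite G] (A : Subgroup G) [A.Normal]
    [IsCyclic A] (hC : Group.IsSolvable (Subgroup.centralizer (A : Set G))) : Group.IsSolvable G := by
  let f : G →* MulAut A := MulAut.conjNormal
  haveI : Group.IsSolvable (MulAut A) :=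
    Group.isSolvable_of_comm fun a b => by
      apply (IsCyclic.mulAutMulEquiv A).injective
      rw [map_mul, map_mul, mul_comm]
  haveI := hC
  refine Group.isSolvable_of_ker_le_range (Subgroup.centralizer (A : Set G)).subtype f ?_
  intro w hw
  refine ⟨⟨w, Subgroup.mem_centralizer_iff.2 fun a ha => ?_⟩, rfl⟩
  have := congrArg Subtype.val (DFunLike.congr_fun (MonoidHom.mem_ker.1 hw) (⟨a, ha⟩ : A))
  simp only [f, MulAut.conjNormal_apply, MulAut.one_apply] at this
  conv_lhs => rw [← this]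
  group

theorem ppd_dvd {p n r : ℕ} (hr : r.Prime) (hn : 0 < n) (hp : 0 < p) (hd : r ∣ p ^ n - 1)
    (hppd : ∀ i, 1 ≤ i → i < n → ¬ r ∣ p ^ i - 1) : n ∣ r - 1 := by
  haveI := Fact.mk hr
  have key : ∀ i, r ∣ p ^ i - 1 ↔ (p : ZMod r) ^ i = 1 := fun i => by
    rw [← ZMod.natCast_eq_zero_iff, Nat.cast_sub (Nat.one_le_pow i p hp), Nat.cast_pow, Nat.cast_one,
      sub_eq_zero]
  have ho : orderOf (p : ZMod r) = n :=
    (orderOf_eq_iff hn).2 ⟨(key n).1 hd, fun m hm hm0 h => hppd m hm0 hm ((key m).2 h)⟩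
  have h0 : (p : ZMod r) ≠ 0 := fun h => by
    have := (key n).1 hd
    rw [h, zero_pow hn.ne'] at this
    exact zero_ne_one this
  exact ho ▸ ZMod.orderOf_dvd_card_sub_one h0

theorem psl_arith {p n : ℕ} (hp : 5 ≤ p) (hn : 5 ≤ n) :
    2 * n * (n + 1) * (2 * n + 1) * (p - 1) < p ^ n - 1 := by
  have hexp : 2 * n * (n + 1) * (2 * n + 1) < 5 ^ (n - 1) + 5 ^ (n - 2) := by
    induction n, hn using Nat.le_induction with
    | base => norm_num
    | succ k hk ih =>
      obtain ⟨j, rfl⟩ : ∃ j, k = j + 2 := ⟨k - 2, by omega⟩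
      simp only [Nat.add_sub_cancel] at ih ⊢
      rw [show j + 2 + 1 - 2 = j + 1 by omega]
      rw [show j + 2 - 1 = j + 1 by omega] at ih
      rw [show 5 ^ (j + 2) + 5 ^ (j + 1) = 5 * (5 ^ (j + 1) + 5 ^ j) by ring]
      calc 2 * (j + 2 + 1) * (j + 2 + 1 + 1) * (2 * (j + 2 + 1) + 1)
          ≤ 5 * (2 * (j + 2) * (j + 2 + 1) * (2 * (j + 2) + 1)) := by ring_nf; omega
        _ < _ := by linarith
  obtain ⟨j, rfl⟩ : ∃ j, n = j + 2 := ⟨n - 2, by omega⟩
  obtain ⟨t, rfl⟩ : ∃ t, p = t + 1 := ⟨p - 1, by omega⟩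
  simp only [Nat.add_sub_cancel] at hexp ⊢
  rw [show j + 2 - 1 = j + 1 by omega] at hexp
  have hmono : 5 ^ (j + 1) + 5 ^ j ≤ (t + 1) ^ (j + 1) + (t + 1) ^ j :=
    Nat.add_le_add (Nat.pow_le_pow_left hp _) (Nat.pow_le_pow_left hp _)
  have h1 : ((t + 1) ^ (j + 1) + (t + 1) ^ j) * t + (t + 1) ^ j = (t + 1) ^ (j + 2) := by ring
  have h2 : 1 ≤ (t + 1) ^ j := Nat.one_le_pow _ _ (by omega)
  have h3 : 2 * (j + 2) * (j + 2 + 1) * (2 * (j + 2) + 1) * t <
      ((t + 1) ^ (j + 1) + (t + 1) ^ j) * t :=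
    Nat.mul_lt_mul_of_pos_right (lt_of_lt_of_le hexp hmono) (by omega)
  omega

variable {p : ℕ} [Fact p.Prime]
variable {V : Type*} [AddCommGroup V] [Module (ZMod p) V] [Finite V] [Nontrivial V]
variable {G : Type u} [Group G] [Finite G] (ρ : G →* (V ≃ₗ[ZMod p] V))

/-- A transitive group of order prime to `p` in dimension at least three is solvable. -/
theorem solvable_of_transitive (hρ : Function.Injective ρ)
    (htrans : ∀ v w : V, v ≠ 0 → w ≠ 0 → ∃ g : G, ρ g v = w) (hG : ¬ p ∣ Nat.card G) {n : ℕ}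
    (hn : Nat.card V = p ^ n) (hn3 : 3 ≤ n) : Group.IsSolvable G := by
  classical
  have hp : p.Prime := Fact.out
  by_cases hp2 : p = 2
  · refine Cfsg.Agent.S0205.result ?_
    rw [← Nat.not_even_iff_odd, even_iff_two_dvd]
    exact hp2 ▸ hG
  have hfr : Module.finrank (ZMod p) V = n := by
    have h := Module.natCard_eq_pow_finrank (K := ZMod p) (V := V)
    rw [hn, Nat.card_zmod] at h
    exact (Nat.pow_right_injective hp.two_le h).symm
  let Lh : G →* Module.End (ZMod p) V :=
    { toFun := fun g => (ρ g).toLinearMap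
      map_one' := LinearMap.ext fun w => rho_one_apply ρ w
      map_mul' := fun a b => LinearMap.ext fun w => rho_mul_apply ρ a b w }
  let f : G →* Matrix (Fin n) (Fin n) (ZMod p) :=
    (LinearMap.toMatrixAlgEquiv (Module.finBasisOfFinrankEq (ZMod p) V hfr)).toAlgHom.toRingHom.toMonoidHom.comp Lh
  have hf : Function.Injective f := fun a b h => hρ (LinearEquiv.toLinearMap_injective
    ((LinearMap.toMatrixAlgEquiv (Module.finBasisOfFinrankEq (ZMod p) V hfr)).injective h))
  obtain ⟨χ, hχ, hχf, hχd⟩ := exists_faithful_char f hf hG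
  have horb : p ^ n - 1 ∣ Nat.card G := hn ▸ Spectrum.Huppert.orbit_dvd ρ htrans
  -- a normal cyclic subgroup whose centraliser has degree at most two
  have reduce : ∀ (l s : ℕ), l.Prime → s.Prime → l ∣ Nat.card G →
      (∀ m d, m * d = n → l ∣ p ^ m - 1 → d ≤ 2) → n + 1 < l →
      (2 * n + 1 < l ∨ (2 * n + 1 = l ∧ ¬ 3 ∣ Nat.card G)) →
      (∀ q : ℕ, q.Prime → q ∣ Nat.card G → q = 2 ∨ q = s ∨
        (2 + 1 < q ∧ (2 * 2 + 1 < q ∨ (2 * 2 + 1 = q ∧ ¬ 3 ∣ Nat.card G)))) →
      Group.IsSolvable G := by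
    intro l s hl hsp hld hmd h1 h2 hpr
    haveI := Fact.mk hl
    let P : Sylow l G := default
    haveI hPn : (P : Subgroup G).Normal := normal_sylow_of_small hχ hχf hχd.le h1 h2 P
    let A : Subgroup G := (P : Subgroup G) ⊓ Subgroup.centralizer ((P : Subgroup G) : Set G)
    haveI : (Subgroup.centralizer ((P : Subgroup G) : Set G)).Normal := Subgroup.normal_centralizer
    haveI hA : A.Normal := Subgroup.normal_inf_normal _ _
    have hAc : ∀ a ∈ A, ∀ b ∈ A, a * b = b * a := fun a ha b hb =>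
      (Subgroup.mem_centralizer_iff.1 hb.2 a ha.1)
    have hlA : l ∣ Nat.card A := by
      have hPpos : Nontrivial (P : Subgroup G) := by
        rw [Subgroup.nontrivial_iff_ne_bot]
        intro h
        have h1 := P.card_eq_multiplicity
        rw [h, Subgroup.card_bot] at h1
        have h2 := hl.factorization_pos_of_dvd Nat.card_pos.ne' hld
        exact absurd h1.symm (Nat.one_lt_pow h2.ne' hl.one_lt).ne'
      haveI := P.isPGroup'.center_nontrivial
      obtain ⟨⟨⟨z, hzP⟩, hzc⟩, hz1⟩ := exists_ne (1 : Subgroup.center (P : Subgroup G))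
      have hzA : z ∈ A := ⟨hzP, Subgroup.mem_centralizer_iff.2 fun w hw =>
        congrArg Subtype.val (Subgroup.mem_center_iff.1 hzc ⟨w, hw⟩)⟩
      obtain ⟨k, hk⟩ := P.isPGroup' ⟨z, hzP⟩
      have hzne : z ≠ 1 := fun h => hz1 (Subtype.ext (Subtype.ext h))
      obtain ⟨j, -, hj⟩ := (Nat.dvd_prime_pow hl).1
        (orderOf_dvd_of_pow_eq_one (congrArg Subtype.val hk : z ^ l ^ k = 1))
      have hj0 : j ≠ 0 := fun h => hzne (orderOf_eq_one_iff.1 (by rw [hj, h, pow_zero]))
      exact (hj ▸ dvd_pow_self l hj0).trans (Subgroup.orderOf_dvd_natCard A hzA)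
    obtain ⟨hcyc, m, d, -, -, hV, hAm, ψ, hψ, hψf, hψd⟩ := exists_field ρ hρ htrans hG A hA hAc
    haveI := hcyc
    have hmd' : m * d = n := by
      rw [hn, ← pow_mul] at hV
      exact (Nat.pow_right_injective hp.two_le hV).symm
    refine solvable_of_cyclic_normal A (solvable_of_small 2 s hsp _ _ ψ le_rfl hψ hψf
      (hψd.le.trans (hmd m d hmd' (hlA.trans hAm))) fun q hq hqd => ?_)
    have hCd := (Subgroup.centralizer (A : Set G)).card_subgroup_dvd_card
    exact (hpr q hq (hqd.trans hCd)).imp_right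
      (Or.imp_right (And.imp_right (Or.imp_right (And.imp_right
        (fun h3 h => h3 (h.trans hCd))))))
  by_cases h34 : p = 3 ∧ n = 4
  · obtain ⟨rfl, rfl⟩ := h34
    refine solvable_of_small 4 5 (by norm_num) _ G χ le_rfl hχ hχf hχd.le fun l hl hld => ?_
    have h := card_le_of_injective_hom (B := GL (Fin 4) (ZMod 3)) f.toHomUnits
      fun a b h => hf (congrArg Units.val h)
    rw [Matrix.card_GL_field, Fin.prod_univ_four] at h
    norm_num [ZMod.card] at h
    have hl' := hld.trans h
    rw [show (24261120 : ℕ) = 2 ^ 9 * 3 ^ 6 * 5 * 13 by norm_num] at hl'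
    rcases hl.dvd_mul.1 hl' with h' | h'
    · rcases hl.dvd_mul.1 h' with h'' | h''
      · rcases hl.dvd_mul.1 h'' with h3 | h3
        · exact Or.inl ((Nat.prime_dvd_prime_iff_eq hl Nat.prime_two).1 (hl.dvd_of_dvd_pow h3))
        · exact absurd ((Nat.prime_dvd_prime_iff_eq hl Nat.prime_three).1 (hl.dvd_of_dvd_pow h3) ▸ hld) hG
      · exact Or.inr (Or.inl ((Nat.prime_dvd_prime_iff_eq hl (by norm_num)).1 h''))
    · obtain rfl := (Nat.prime_dvd_prime_iff_eq hl (by norm_num)).1 h'
      exact Or.inr (Or.inr ⟨by norm_num, Or.inl (by norm_num)⟩)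
  by_cases h36 : p = 3 ∧ n = 6
  · obtain ⟨rfl, rfl⟩ := h36
    refine reduce 13 2 (by norm_num) Nat.prime_two (dvd_trans (by norm_num) horb) ?_ (by norm_num)
      (Or.inr ⟨by norm_num, hG⟩) ?_
    · intro m d hmd h
      have hm : m ≤ 6 := Nat.le_of_dvd (by norm_num) (hmd ▸ Dvd.intro d rfl)
      interval_cases m <;> omega
    · intro q hq hqd
      rcases Nat.lt_or_ge q 5 with h | h
      · have := hq.two_le
        interval_cases q
        · exact Or.inl rfl
        · exact absurd hqd hG
        · exact absurd hq (by norm_num)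
      · exact Or.inr (Or.inr ⟨by omega, (eq_or_lt_of_le h).elim (fun h' => Or.inr ⟨h', hG⟩)
          (fun h' => Or.inl h')⟩)
  by_cases h56 : p = 5 ∧ n = 6
  · obtain ⟨rfl, rfl⟩ := h56
    refine reduce 31 3 (by norm_num) Nat.prime_three (dvd_trans (by norm_num) horb) ?_ (by norm_num)
      (Or.inl (by norm_num)) ?_
    · intro m d hmd h
      have hm : m ≤ 6 := Nat.le_of_dvd (by norm_num) (hmd ▸ Dvd.intro d rfl)
      interval_cases m <;> omega
    · intro q hq hqd
      rcases Nat.lt_or_ge q 6 with h | h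
      · have := hq.two_le
        interval_cases q
        · exact Or.inl rfl
        · exact Or.inr (Or.inl rfl)
        · exact absurd hq (by norm_num)
        · exact absurd hqd hG
      · exact Or.inr (Or.inr ⟨by omega, Or.inl (by omega)⟩)
  obtain ⟨r, hr, hrd, hppd, hbig⟩ := Cfsg.Agent.S3430.result p n hp.two_le (by omega)
    (fun h => by omega) (fun h => hp2 h.1) (fun h => h.2.elim (fun h4 => h34 ⟨h.1, h4⟩) (fun h6 => h36 ⟨h.1, h6⟩))
    h56
  haveI := Fact.mk hr
  have hrG : r ∣ Nat.card G := hrd.trans horb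
  have hrp : r ≠ p := fun h => hG (h ▸ hrG)
  obtain ⟨kk, hkk⟩ := ppd_dvd hr (show 0 < n by omega) hp.pos hrd hppd
  have hcc : ∀ y : G, orderOf y = r → ∀ a ∈ Subgroup.centralizer ({y} : Set G),
      ∀ b ∈ Subgroup.centralizer ({y} : Set G), a * b = b * a :=
    fun y hy a ha b hb => centralizer_comm ρ hρ hn hr hrp hppd hy ha hb
  let P : Sylow r G := default
  have hPfac : Nat.card (P : Subgroup G) = r ^ (Nat.card G).factorization r := P.card_eq_multiplicity
  have hv1 : 0 < (Nat.card G).factorization r := hr.factorization_pos_of_dvd Nat.card_pos.ne' hrG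
  obtain ⟨x, hx⟩ := exists_prime_orderOf_dvd_card' r
    (show r ∣ Nat.card (P : Subgroup G) from hPfac ▸ dvd_pow_self r hv1.ne')
  -- every non-trivial element of `P` has the centraliser of `P`, which is abelian
  have hprime : ∀ y ∈ (P : Subgroup G), y ≠ 1 → ∃ y', y' ∈ (P : Subgroup G) ∧ orderOf y' = r ∧
      Subgroup.centralizer ({y} : Set G) ≤ Subgroup.centralizer ({y'} : Set G) := by
    intro y hy hy1
    obtain ⟨k, hk⟩ := P.isPGroup' ⟨y, hy⟩
    obtain ⟨j, -, hj⟩ := (Nat.dvd_prime_pow hr).1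
      (orderOf_dvd_of_pow_eq_one (congrArg Subtype.val hk : y ^ r ^ k = 1))
    have hj0 : j ≠ 0 := fun h => hy1 (orderOf_eq_one_iff.1 (by rw [hj, h, pow_zero]))
    refine ⟨y ^ (r ^ (j - 1)), Subgroup.pow_mem _ hy _, ?_, fun a ha => ?_⟩
    · rw [orderOf_pow' y (pow_pos hr.pos _).ne', hj, Nat.gcd_eq_right (pow_dvd_pow r (by omega)),
        Nat.pow_div (by omega) hr.pos, show j - (j - 1) = 1 by omega, pow_one]
    · exact Subgroup.mem_centralizer_singleton_iff.2
        ((show Commute a y from Subgroup.mem_centralizer_singleton_iff.1 ha).pow_right _).eq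
  have hPab : ∀ a ∈ (P : Subgroup G), ∀ b ∈ (P : Subgroup G), a * b = b * a := by
    haveI : Nontrivial (P : Subgroup G) :=
      Finite.one_lt_card_iff_nontrivial.1 (hPfac ▸ Nat.one_lt_pow hv1.ne' hr.one_lt)
    haveI := P.isPGroup'.center_nontrivial
    obtain ⟨⟨⟨z, hzP⟩, hzc⟩, hz1⟩ := exists_ne (1 : Subgroup.center (P : Subgroup G))
    obtain ⟨z', hz'P, hz', hle⟩ := hprime z hzP fun h => hz1 (Subtype.ext (Subtype.ext h))
    intro a ha b hb
    exact hcc z' hz' a (hle (Subgroup.mem_centralizer_singleton_iff.2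
      (congrArg Subtype.val (Subgroup.mem_center_iff.1 hzc ⟨a, ha⟩)))) b
      (hle (Subgroup.mem_centralizer_singleton_iff.2
      (congrArg Subtype.val (Subgroup.mem_center_iff.1 hzc ⟨b, hb⟩))))
  have hsc : SmallDegreeTI.Setup.SameCen P := by
    intro y hy hy1
    refine le_antisymm (fun a ha => ?_) (fun a ha => ?_)
    · obtain ⟨y', hy'P, hy', hle⟩ := hprime y hy hy1
      exact Subgroup.mem_centralizer_iff.2 fun w hw => hcc y' hy' w
        (Subgroup.mem_centralizer_singleton_iff.2 (hPab w hw y' hy'P)) a (hle ha)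
    · exact Subgroup.mem_centralizer_singleton_iff.2 (Subgroup.mem_centralizer_iff.1 ha y hy).symm
  have finish : (P : Subgroup G).Normal → Group.IsSolvable G := by
    intro hPn
    haveI := hPn
    haveI := (exists_field ρ hρ htrans hG (P : Subgroup G) hPn hPab).1
    refine solvable_of_cyclic_normal (P : Subgroup G) (Group.isSolvable_of_comm fun a b => Subtype.ext ?_)
    have hxmem : ∀ c : Subgroup.centralizer ((P : Subgroup G) : Set G),
        (c : G) ∈ Subgroup.centralizer ({((x : (P : Subgroup G)) : G)} : Set G) := fun c =>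
      Subgroup.mem_centralizer_singleton_iff.2 (Subgroup.mem_centralizer_iff.1 c.2 _ x.2).symm
    exact hcc _ (by rw [Subgroup.orderOf_coe, hx]) _ (hxmem a) _ (hxmem b)
  by_cases hsq : r ^ 2 ∣ Nat.card G
  · refine finish (normal_of_sameCen hχ hχf hχd.le P hsc ?_)
    have hv2 : 2 ≤ (Nat.card G).factorization r :=
      (hr.pow_dvd_iff_le_factorization Nat.card_pos.ne').1 hsq
    have hrn : n + 1 ≤ r := by
      have : 1 ≤ kk := Nat.pos_of_ne_zero fun h => by rw [h, mul_zero] at hkk; have := hr.two_le; omega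
      have := Nat.mul_le_mul_left n this
      have := hr.two_le
      omega
    calc n ^ 2 + 1 < (n + 1) ^ 2 := by ring_nf; omega
      _ ≤ r ^ 2 := Nat.pow_le_pow_left hrn 2
      _ ≤ Nat.card (P : Subgroup G) := hPfac ▸ Nat.pow_le_pow_right hr.pos hv2
  have hrn : n + 1 < r := hbig.resolve_right fun h => hsq (h.trans horb)
  have h2n : 2 * n + 1 ≤ r := by
    have : 2 ≤ kk := by
      by_contra hc
      have : n * kk ≤ n * 1 := Nat.mul_le_mul_left n (by omega)
      omega
    have : n * 2 ≤ n * kk := Nat.mul_le_mul_left n this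
    omega
  by_cases h3 : 2 * n + 1 < r ∨ (2 * n + 1 = r ∧ ¬ 3 ∣ Nat.card G)
  · exact finish (normal_sylow_of_small hχ hχf hχd.le hrn h3 P)
  push Not at h3
  have hre : 2 * n + 1 = r := le_antisymm h2n h3.1
  have h3G := h3.2 hre
  have hp5 : 5 ≤ p := by
    have h3' : p ≠ 3 := fun h => hG (h ▸ h3G)
    have h4' : p ≠ 4 := fun h => by rw [h] at hp; exact absurd hp (by norm_num)
    have := hp.two_le
    omega
  by_cases hPn : (P : Subgroup G).Normal
  · exact finish hPn
  exfalso
  have hPr : Nat.card (P : Subgroup G) = r := by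
    have : (Nat.card G).factorization r < 2 := by
      by_contra hc
      exact hsq ((hr.pow_dvd_iff_le_factorization Nat.card_pos.ne').2 (by omega))
    rw [hPfac, show (Nat.card G).factorization r = 1 by omega, pow_one]
  have hnn : ∀ H : Subgroup G, H.Normal → Nat.card H ≠ r := by
    intro H hH hc
    obtain ⟨Q, hQ⟩ := (IsPGroup.of_card (n := 1) (by rw [hc, pow_one])).exists_le_sylow (P := H)
    have heq : H = Q := Subgroup.eq_of_le_of_card_ge hQ (by
      rw [hc, Q.card_eq_multiplicity, ← P.card_eq_multiplicity, hPr])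
    haveI : (Q : Subgroup G).Normal := heq ▸ hH
    haveI := Sylow.unique_of_normal Q inferInstance
    rw [Subsingleton.elim P Q] at hPn
    exact hPn inferInstance
  obtain ⟨-, m, d, hm, hd, hV, hAm, ψ, hψ, hψf, hψd⟩ := exists_field ρ hρ htrans hG
    (Subgroup.center G) inferInstance fun a ha b _ => (Subgroup.mem_center_iff.1 ha b).symm
  have htop : ∀ g : G, g ∈ Subgroup.centralizer ((Subgroup.center G : Subgroup G) : Set G) :=
    fun g => Subgroup.mem_centralizer_iff.2 fun a ha => (Subgroup.mem_center_iff.1 ha g).symm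
  let ι : G →* Subgroup.centralizer ((Subgroup.center G : Subgroup G) : Set G) :=
    (MonoidHom.id G).codRestrict _ htop
  have hmd : m * d = n := by
    rw [hn, ← pow_mul] at hV
    exact (Nat.pow_right_injective hp.two_le hV).symm
  have hψdeg : Cfsg.charDegree (ψ ∘ ι) = d := by
    rw [← hψd]; simp [Cfsg.charDegree]
  have hψι : ∀ g, (ψ ∘ ι) g = (ψ ∘ ι) 1 → g = 1 := fun g hg =>
    congrArg Subtype.val (hψf (ι g) (by simpa using hg))
  have hdle := Cfsg.Agent.S4503.result r hr hrG hsq hnn _ (Characters.Basic.isCharacter_comp ι hψ) hψι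
  rw [hψdeg] at hdle
  have hm1 : m = 1 := by
    have : m * d ≤ 1 * d := by omega
    have := Nat.le_of_mul_le_mul_right this hd
    omega
  subst hm1
  rw [one_mul] at hmd
  obtain ⟨e⟩ := Cfsg.Agent.S4504.result r hr hrG hsq hnn _ (Characters.Basic.isCharacter_comp ι hψ) hψι
    (by rw [hψdeg, hmd, hre])
  have hpsl := Linear.two_mul_card_PSL_two_of_odd (F := ZMod r)
    (by rw [ZMod.card]; exact ⟨n, hre.symm⟩)
  rw [ZMod.card] at hpsl
  have hcard := Subgroup.card_mul_index (Subgroup.center G)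
  rw [Subgroup.index, Nat.card_congr e.toEquiv] at hcard
  rw [pow_one] at hAm
  obtain ⟨psl, hpsl'⟩ : ∃ k, k = Nat.card (Matrix.ProjectiveSpecialLinearGroup (Fin 2) (ZMod r)) :=
    ⟨_, rfl⟩
  rw [← hpsl'] at hpsl hcard
  have hdiv : p ^ n - 1 ∣ (p - 1) * psl :=
    horb.trans (hcard ▸ Nat.mul_dvd_mul hAm dvd_rfl)
  have hpsl2 : psl = 2 * n * (n + 1) * (2 * n + 1) := by
    rw [← hre, Nat.add_sub_cancel] at hpsl
    have h2 : (2 * n + 1) * (2 * n) * (2 * n + 1 + 1) = 2 * (2 * n * (n + 1) * (2 * n + 1)) := by ring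
    omega
  rw [hpsl2] at hdiv
  rcases Nat.lt_or_ge n 5 with hn5 | hn5
  · interval_cases n
    · norm_num at hdiv
      obtain ⟨t, rfl⟩ : ∃ t, p = t + 1 := ⟨p - 1, by omega⟩
      rw [Nat.add_sub_cancel, show (t + 1) ^ 3 - 1 = t * (t * t + 3 * t + 3) by
        rw [show (t + 1) ^ 3 = t * (t * t + 3 * t + 3) + 1 by ring, Nat.add_sub_cancel]] at hdiv
      have h168 : t * t + 3 * t + 3 ∣ 168 := Nat.dvd_of_mul_dvd_mul_left (by omega) hdiv
      have hle := Nat.le_of_dvd (by norm_num) h168
      have : t < 12 := by nlinarith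
      have : 4 ≤ t := by omega
      interval_cases t <;> norm_num at h168
    · rw [← hre] at hr
      exact absurd hr (by norm_num)
  · have h := psl_arith hp5 hn5
    have := Nat.le_of_dvd (Nat.mul_pos (by omega) (by positivity)) hdiv
    rw [mul_comm (p - 1)] at this
    omega

end Cfsg.Agent.Lib.KGV46
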