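import Cfsg.Agent.Lib.KGV46.PlaneArith
import Cfsg.Agent.Lib.KGV46.Count

/-!
# Transitive linear groups of order prime to `p` in dimension two

The centralisers outside the centre are abelian, of index at most two in their normalisers and of
order at most `(p + 1) |Z|`; the resulting orbit equation bounds the class number.
-/

set_option autoImplicit false
set_option linter.unusedSectionVars false
set_option linter.style.haveILetI false

namespace Cfsg.Agent.Lib.KGV46

section Abstract

variable {G : Type*} [Group G] [Finite G]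

theorem mem_centralizer_conj (g u h : G) :
    h ∈ Subgroup.centralizer ({g * u * g⁻¹} : Set G) ↔
      g⁻¹ * h * g ∈ Subgroup.centralizer ({u} : Set G) := by
  simp only [Subgroup.mem_centralizer_singleton_iff]
  constructor <;> intro hh
  · calc g⁻¹ * h * g * u = g⁻¹ * (h * (g * u * g⁻¹)) * g := by group
      _ = g⁻¹ * (g * u * g⁻¹ * h) * g := by rw [hh]
      _ = u * (g⁻¹ * h * g) := by group
  · calc h * (g * u * g⁻¹) = g * (g⁻¹ * h * g * u) * g⁻¹ := by group
      _ = g * (u * (g⁻¹ * h * g)) * g⁻¹ := by rw [hh]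
      _ = g * u * g⁻¹ * h := by group

theorem center_le_centralizer (g : G) :
    Subgroup.center G ≤ Subgroup.centralizer ({g} : Set G) := fun _ hz =>
  Subgroup.mem_centralizer_singleton_iff.2 (Subgroup.mem_center_iff.1 hz g).symm

/-- The class number of a group whose centralisers outside the centre are abelian of index at
most two in their normalisers. -/
theorem ca_mod_center (hnc : ¬ ∀ a b : G, a * b = b * a)
    (hab : ∀ g ∉ Subgroup.center G, ∀ a ∈ Subgroup.centralizer ({g} : Set G),
      ∀ b ∈ Subgroup.centralizer ({g} : Set G), a * b = b * a)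
    (hN : ∀ g ∉ Subgroup.center G,
      Nat.card (Subgroup.normalizer ((Subgroup.centralizer ({g} : Set G) : Subgroup G) : Set G)) ≤
        2 * Nat.card (Subgroup.centralizer ({g} : Set G)))
    (E : ℕ) (hU : ∀ g ∉ Subgroup.center G,
      Nat.card (Subgroup.centralizer ({g} : Set G)) ≤ E * Nat.card (Subgroup.center G)) :
    (∃ c, c ≤ E ∧ (Subgroup.center G).index = 2 * c ∧
        2 * Nat.card (ConjClasses G) = Nat.card (Subgroup.center G) * (c + 3)) ∨
      ((Subgroup.center G).index = 12 ∧
        2 * Nat.card (ConjClasses G) = 7 * Nat.card (Subgroup.center G)) ∨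
      ((Subgroup.center G).index = 24 ∧
        2 * Nat.card (ConjClasses G) = 8 * Nat.card (Subgroup.center G)) ∨
      ((Subgroup.center G).index = 60 ∧
        2 * Nat.card (ConjClasses G) = 9 * Nat.card (Subgroup.center G)) := by
  classical
  haveI := Fintype.ofFinite G
  set Z := Subgroup.center G with hZdef
  obtain ⟨z, hz⟩ : ∃ z, z = Nat.card Z := ⟨_, rfl⟩
  obtain ⟨i0, hi0⟩ : ∃ i, i = Z.index := ⟨_, rfl⟩
  have hGz : Nat.card G = z * i0 := by rw [hz, hi0, Subgroup.card_mul_index]
  have hzpos : 0 < z := hz ▸ Nat.card_pos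
  have hself : ∀ g : G, g ∈ Subgroup.centralizer ({g} : Set G) := fun g =>
    Subgroup.mem_centralizer_singleton_iff.2 rfl
  have hTI : ∀ g ∉ Z, ∀ u ∈ Subgroup.centralizer ({g} : Set G), u ∉ Z →
      Subgroup.centralizer ({u} : Set G) = Subgroup.centralizer ({g} : Set G) := by
    intro g hg u hu hun
    refine le_antisymm (fun h hh => ?_) fun h hh => ?_
    · exact Subgroup.mem_centralizer_singleton_iff.2 (hab u hun h hh g
        (Subgroup.mem_centralizer_singleton_iff.2
          (Subgroup.mem_centralizer_singleton_iff.1 hu).symm))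
    · exact Subgroup.mem_centralizer_singleton_iff.2 (hab g hg h hh u hu)
  let S : G → Finset G := fun y => Finset.univ.filter fun x =>
    ∃ g u : G, u ∈ Subgroup.centralizer ({y} : Set G) ∧ u ∉ Z ∧ g * u * g⁻¹ = x
  have hZc : ∀ g u : G, g * u * g⁻¹ ∈ Z ↔ u ∈ Z := fun g u =>
    ⟨fun h => by
      have h' := (Subgroup.Normal.conj_mem inferInstance _ h g⁻¹)
      simpa [mul_assoc] using h', fun h => Subgroup.Normal.conj_mem inferInstance _ h g⟩
  have hSmem : ∀ y ∉ Z, y ∈ S y := fun y hy =>
    Finset.mem_filter.2 ⟨Finset.mem_univ _, 1, y, hself y, hy, by group⟩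
  have hSnot : ∀ y, ∀ x ∈ S y, x ∉ Z := by
    intro y x hx
    obtain ⟨-, g, u, -, hu, rfl⟩ := Finset.mem_filter.1 hx
    exact fun h => hu ((hZc g u).1 h)
  have hSeq : ∀ y ∉ Z, ∀ x ∈ S y, S x = S y := by
    intro y hy x hx
    obtain ⟨-, g, u, hu, hun, rfl⟩ := Finset.mem_filter.1 hx
    ext w
    simp only [S, Finset.mem_filter, Finset.mem_univ, true_and, mem_centralizer_conj,
      hTI y hy u hu hun]
    constructor
    · rintro ⟨h, v, hv, hvn, rfl⟩
      refine ⟨h * g, g⁻¹ * v * g, hv, fun hc => hvn ?_, by group⟩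
      have := (hZc g (g⁻¹ * v * g)).2 hc
      simpa [mul_assoc] using this
    · rintro ⟨h, v, hv, hvn, rfl⟩
      refine ⟨h * g⁻¹, g * v * g⁻¹, ?_, fun hc => hvn ((hZc g v).1 hc), by group⟩
      simpa [mul_assoc] using hv
  -- the size of a block
  have hblock : ∀ y ∉ Z, (S y).card *
      Nat.card (Subgroup.normalizer ((Subgroup.centralizer ({y} : Set G) : Subgroup G) : Set G)) =
      Nat.card G * (Nat.card (Subgroup.centralizer ({y} : Set G)) - z) := by
    intro y hy
    set U := Subgroup.centralizer ({y} : Set G) with hUdef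
    let D : Finset G := Finset.univ.filter fun u => u ∈ U ∧ u ∉ Z
    have hD : D.card = Nat.card U - z := by
      have h1 := Finset.card_filter_add_card_filter_not
        (s := Finset.univ.filter fun u => u ∈ U) (· ∈ Z)
      rw [Finset.filter_filter, Finset.filter_filter] at h1
      have h2 : (Finset.univ.filter fun u : G => u ∈ U ∧ u ∈ Z).card = z := by
        rw [hz]
        exact (Nat.subtype_card _ fun x => by
          simp only [Finset.mem_filter, Finset.mem_univ, true_and]
          exact ⟨fun h => h.2, fun h => ⟨center_le_centralizer y h, h⟩⟩).symm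
      have h3 : (Finset.univ.filter fun u : G => u ∈ U).card = Nat.card U :=
        (Nat.subtype_card _ (by simp)).symm
      have hDd : D = Finset.univ.filter fun u : G => u ∈ U ∧ u ∉ Z := rfl
      rw [hDd]
      omega
    have hmaps : ∀ a ∈ (Finset.univ : Finset G) ×ˢ D, a.1 * a.2 * a.1⁻¹ ∈ S y := by
      intro a ha
      have h := (Finset.mem_filter.1 (Finset.mem_product.1 ha).2).2
      exact Finset.mem_filter.2 ⟨Finset.mem_univ _, a.1, a.2, h.1, h.2, rfl⟩
    have hfib := Finset.card_eq_sum_card_fiberwise hmaps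
    rw [Finset.card_product, Finset.card_univ, hD, ← Nat.card_eq_fintype_card] at hfib
    rw [hfib]
    symm
    refine Finset.sum_const_nat fun x hx => ?_
    obtain ⟨-, g0, u0, hu0, hu0n, hx0⟩ := Finset.mem_filter.1 hx
    rw [← Nat.subtype_card (((Finset.univ : Finset G) ×ˢ D).filter fun a =>
      a.1 * a.2 * a.1⁻¹ = x) (p := fun a : G × G => (a.2 ∈ U ∧ a.2 ∉ Z) ∧ a.1 * a.2 * a.1⁻¹ = x)
      fun a => by simp [D]]
    refine Nat.card_congr
      { toFun := fun a => ⟨a.1.1⁻¹ * g0, ?_⟩
        invFun := fun n => ⟨(g0 * (n : G)⁻¹, (n : G) * u0 * (n : G)⁻¹),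
          ⟨(Subgroup.mem_normalizer_iff.1 n.2 u0).1 hu0, fun hc => hu0n ((hZc _ _).1 hc)⟩, ?_⟩
        left_inv := ?_
        right_inv := fun n => Subtype.ext (by simp [mul_assoc]) }
    · obtain ⟨⟨ha, han⟩, hax⟩ := a.2
      have e1 : (a.1.1⁻¹ * g0) * u0 * (a.1.1⁻¹ * g0)⁻¹ = a.1.2 := by
        calc (a.1.1⁻¹ * g0) * u0 * (a.1.1⁻¹ * g0)⁻¹ = a.1.1⁻¹ * (g0 * u0 * g0⁻¹) * a.1.1 := by group
          _ = a.1.1⁻¹ * (a.1.1 * a.1.2 * a.1.1⁻¹) * a.1.1 := by rw [hx0, hax]
          _ = a.1.2 := by group
      refine Subgroup.mem_normalizer_iff.2 fun h => ?_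
      show h ∈ U ↔ _ ∈ U
      have hw : ∀ w, w ∈ Subgroup.centralizer ({a.1.2} : Set G) ↔ w ∈ U := fun w => by
        rw [hTI y hy _ ha han]
      rw [← hw ((a.1.1⁻¹ * g0) * h * (a.1.1⁻¹ * g0)⁻¹), ← e1, mem_centralizer_conj,
        hTI y hy u0 hu0 hu0n]
      simp [mul_assoc, hUdef]
    · show g0 * (n : G)⁻¹ * ((n : G) * u0 * (n : G)⁻¹) * (g0 * (n : G)⁻¹)⁻¹ = x
      rw [← hx0]; group
    · rintro ⟨⟨g, u⟩, hu, hax⟩
      apply Subtype.ext
      dsimp only at hax ⊢
      refine Prod.ext ?_ ?_
      · show g0 * (g⁻¹ * g0)⁻¹ = g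
        group
      · show g⁻¹ * g0 * u0 * (g⁻¹ * g0)⁻¹ = u
        calc g⁻¹ * g0 * u0 * (g⁻¹ * g0)⁻¹ = g⁻¹ * (g0 * u0 * g0⁻¹) * g := by group
          _ = g⁻¹ * (g * u * g⁻¹) * g := by rw [hx0, hax]
          _ = u := by group
  let T : Finset (Finset G) := (Finset.univ.filter fun y => y ∉ Z).image S
  have hfiber : ∀ y ∉ Z, (Finset.univ.filter fun x => x ∉ Z).filter (fun x => S x = S y) = S y := by
    intro y hy
    ext x
    simp only [Finset.mem_filter, Finset.mem_univ, true_and]
    exact ⟨fun h => h.2 ▸ hSmem x h.1, fun h => ⟨hSnot y x h, hSeq y hy x h⟩⟩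
  have hrep : ∀ K ∈ T, ∃ y, y ∉ Z ∧ S y = K := by
    intro K hK
    obtain ⟨y, hy, rfl⟩ := Finset.mem_image.1 hK
    exact ⟨y, (Finset.mem_filter.1 hy).2, rfl⟩
  choose! r hr hrS using hrep
  let e : Finset G → ℕ := fun K => Nat.card (Subgroup.centralizer ({r K} : Set G)) / z
  let ν : Finset G → ℕ := fun K =>
    (((Subgroup.centralizer ({r K} : Set G))).subgroupOf
      (Subgroup.normalizer ((Subgroup.centralizer ({r K} : Set G) : Subgroup G) : Set G))).index
  have hue : ∀ K ∈ T, Nat.card (Subgroup.centralizer ({r K} : Set G)) = e K * z := fun K hK =>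
    (Nat.div_mul_cancel (hz ▸ Subgroup.card_dvd_of_le (center_le_centralizer (r K)))).symm
  have hνN : ∀ K ∈ T, Nat.card (Subgroup.normalizer
      ((Subgroup.centralizer ({r K} : Set G) : Subgroup G) : Set G)) = e K * z * ν K := fun K hK => by
    rw [← hue K hK, ← Nat.card_congr (Subgroup.subgroupOfEquivOfLe
      (Subgroup.le_normalizer (H := Subgroup.centralizer ({r K} : Set G)))).toEquiv]
    exact (Subgroup.card_mul_index _).symm
  have he2 : ∀ K ∈ T, 2 ≤ e K := by
    intro K hK
    have hlt : z < Nat.card (Subgroup.centralizer ({r K} : Set G)) := by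
      rw [hz]
      exact Set.ncard_lt_ncard (Set.ssubset_iff_subset_ne.2 ⟨center_le_centralizer (r K),
        fun h => hr K hK (show r K ∈ Z by
          have : r K ∈ (Z : Set G) := h ▸ hself (r K)
          exact this)⟩) (Set.toFinite _)
    rw [hue K hK] at hlt
    by_contra hc
    have : e K * z ≤ 1 * z := Nat.mul_le_mul_right _ (by omega)
    omega
  have hν : ∀ K ∈ T, ν K = 1 ∨ ν K = 2 := by
    intro K hK
    have h := hN (r K) (hr K hK)
    rw [hue K hK, hνN K hK] at h
    have hpos : 0 < e K * z := Nat.mul_pos (by have := he2 K hK; omega) hzpos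
    have h0 : ν K ≠ 0 := Subgroup.index_ne_zero_of_finite
    have : ν K ≤ 2 := Nat.le_of_mul_le_mul_left (by rwa [mul_comm 2] at h) hpos
    omega
  have hle : ∀ K ∈ T, 2 * e K ≤ i0 := by
    intro K hK
    have hne : (Subgroup.centralizer ({r K} : Set G)) ≠ ⊤ := by
      intro htop
      refine hr K hK (Subgroup.mem_center_iff.2 fun w => ?_)
      have hw : w ∈ Subgroup.centralizer ({r K} : Set G) := htop ▸ Subgroup.mem_top w
      exact Subgroup.mem_centralizer_singleton_iff.1 hw
    have h1 := Subgroup.card_mul_index (Subgroup.centralizer ({r K} : Set G))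
    have h2 : 2 ≤ (Subgroup.centralizer ({r K} : Set G)).index :=
      Subgroup.one_lt_index_of_ne_top hne
    have h3 : e K * z * 2 ≤ z * i0 := by
      rw [← hGz, ← h1, hue K hK]
      exact Nat.mul_le_mul_left _ h2
    nlinarith [h3, hzpos]
  have hcardblock : ∀ K ∈ T, (K.card : ℚ) = (z : ℚ) * i0 * ((1 - 1 / (e K : ℚ)) / ν K) := by
    intro K hK
    have h := hblock (r K) (hr K hK)
    rw [hrS K hK, hνN K hK, hue K hK, hGz] at h
    have hez : z ≤ e K * z := Nat.le_mul_of_pos_left _ (by have := he2 K hK; omega)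
    have hq := congrArg (fun x : ℕ => (x : ℚ)) h
    push_cast [Nat.cast_sub hez] at hq
    have h0 : (e K : ℚ) ≠ 0 := by exact_mod_cast (by have := he2 K hK; omega)
    have h1 : (ν K : ℚ) ≠ 0 := by
      rcases hν K hK with hh | hh <;> rw [hh] <;> norm_num
    have h2 : (z : ℚ) ≠ 0 := by exact_mod_cast hzpos.ne'
    field_simp at hq ⊢
    linarith
  have hnotZ : (Finset.univ.filter fun y : G => y ∉ Z).card + z = z * i0 := by
    rw [← hGz, Nat.card_eq_fintype_card, hz,
      Nat.subtype_card (p := fun x => x ∈ Z) (Finset.univ.filter fun y : G => y ∈ Z) (by simp),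
      add_comm, Finset.card_filter_add_card_filter_not, Finset.card_univ]
  have hsum1 : (Finset.univ.filter fun y : G => y ∉ Z).card = ∑ K ∈ T, K.card := by
    rw [Finset.card_eq_sum_card_image S]
    refine Finset.sum_congr rfl fun K hK => ?_
    rw [← hrS K hK, hfiber _ (hr K hK)]
  have hi2 : 2 ≤ i0 := by
    rw [hi0]
    exact Subgroup.one_lt_index_of_ne_top fun h => hnc fun a b =>
      Subgroup.mem_center_iff.1 (h ▸ Subgroup.mem_top b : b ∈ Z) a
  have hzq : (0 : ℚ) < z := by exact_mod_cast hzpos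
  have hiq : (0 : ℚ) < i0 := by exact_mod_cast (by omega : 0 < i0)
  have heq : ∑ K ∈ T, (1 - 1 / (e K : ℚ)) / ν K = 1 - 1 / (i0 : ℚ) := by
    have h := congrArg (fun x : ℕ => (x : ℚ)) hnotZ
    rw [hsum1] at h
    push_cast at h
    rw [Finset.sum_congr rfl hcardblock, ← Finset.mul_sum] at h
    field_simp
    nlinarith [h]
  -- the class number
  let c : G → ℕ := fun g => Nat.card (Subgroup.centralizer ({g} : Set G))
  have hcount : Nat.card (ConjClasses G) * Nat.card G = ∑ g : G, c g := by
    rw [← card_comm_eq_card_conjClasses_mul_card, ← Nat.card_sigma]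
    exact Nat.card_congr
      { toFun := fun x => ⟨x.1.1, x.1.2, Subgroup.mem_centralizer_singleton_iff.2 x.2.symm⟩
        invFun := fun y => ⟨(y.1, y.2.1), (Subgroup.mem_centralizer_singleton_iff.1 y.2.2).symm⟩
        left_inv := fun _ => rfl
        right_inv := fun _ => rfl }
  have hin : ∑ g ∈ Finset.univ.filter (fun y => y ∈ Z), c g = z * Nat.card G := by
    rw [Finset.sum_const_nat (m := Nat.card G) fun g hg => ?_,
      ← Nat.subtype_card (p := fun x => x ∈ Z) (Finset.univ.filter fun y : G => y ∈ Z) (by simp), hz]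
    have htop : Subgroup.centralizer ({g} : Set G) = ⊤ := by
      rw [eq_top_iff]
      exact fun w _ => Subgroup.mem_centralizer_singleton_iff.2
        (Subgroup.mem_center_iff.1 (Finset.mem_filter.1 hg).2 w)
    show Nat.card (Subgroup.centralizer ({g} : Set G)) = _
    rw [htop, Subgroup.card_top]
  have hout : ∑ g ∈ Finset.univ.filter (fun y => y ∉ Z), c g = ∑ K ∈ T, K.card * (e K * z) := by
    rw [← Finset.sum_fiberwise_of_maps_to (g := S) (t := T) fun y hy => Finset.mem_image_of_mem S hy]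
    refine Finset.sum_congr rfl fun K hK => ?_
    conv_lhs => rw [← hrS K hK, hfiber _ (hr K hK)]
    rw [Finset.sum_const_nat (m := e K * z) fun x hx => ?_, hrS K hK]
    obtain ⟨-, g, u, hu, hun, rfl⟩ := Finset.mem_filter.1 hx
    show Nat.card (Subgroup.centralizer ({g * u * g⁻¹} : Set G)) = _
    rw [← hue K hK, ← hTI _ (hr K hK) u hu hun]
    exact Nat.card_congr
      { toFun := fun h => ⟨g⁻¹ * (h : G) * g, (mem_centralizer_conj g u _).1 h.2⟩
        invFun := fun h => ⟨g * (h : G) * g⁻¹, (mem_centralizer_conj g u _).2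
          (by simpa [mul_assoc] using h.2)⟩
        left_inv := fun h => Subtype.ext (by simp [mul_assoc])
        right_inv := fun h => Subtype.ext (by simp [mul_assoc]) }
  have hk : (Nat.card (ConjClasses G) : ℚ) = z * (1 + ∑ K ∈ T, ((e K : ℚ) - 1) / ν K) := by
    have h := congrArg (fun x : ℕ => (x : ℚ)) (hcount.trans
      ((Finset.sum_filter_add_sum_filter_not Finset.univ (fun y => y ∈ Z) c).symm))
    rw [hin, hout, hGz] at h
    push_cast at h
    have hKe : ∀ K ∈ T, (K.card : ℚ) * ((e K : ℚ) * z) =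
        (z : ℚ) * i0 * z * (((e K : ℚ) - 1) / ν K) := by
      intro K hK
      rw [hcardblock K hK]
      have h0 : (e K : ℚ) ≠ 0 := by exact_mod_cast (by have := he2 K hK; omega)
      field_simp
    rw [Finset.sum_congr rfl hKe, ← Finset.mul_sum] at h
    have hne : (z : ℚ) * i0 ≠ 0 := by positivity
    apply mul_right_cancel₀ hne
    linarith [h]
  have cast2 : ∀ {a : ℕ}, (2 : ℚ) * (Nat.card (ConjClasses G) : ℚ) = (a : ℚ) →
      2 * Nat.card (ConjClasses G) = a := fun h => by exact_mod_cast h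
  rcases orbit_equation T e ν i0 hi2 he2 hν hle heq with ⟨K, hK, hiK, hs⟩ | ⟨hi, hs⟩ | ⟨hi, hs⟩ |
    ⟨hi, hs⟩
  · refine Or.inl ⟨e K, ?_, hi0 ▸ hiK, cast2 (by rw [hk, hs, ← hz]; push_cast; ring)⟩
    have := hU (r K) (hr K hK)
    rw [hue K hK, ← hz] at this
    exact Nat.le_of_mul_le_mul_right this hzpos
  · exact Or.inr (Or.inl ⟨hi0 ▸ hi, cast2 (by rw [hk, hs, ← hz]; push_cast; ring)⟩)
  · exact Or.inr (Or.inr (Or.inl ⟨hi0 ▸ hi, cast2 (by rw [hk, hs, ← hz]; push_cast; ring)⟩))
  · exact Or.inr (Or.inr (Or.inr ⟨hi0 ▸ hi, cast2 (by rw [hk, hs, ← hz]; push_cast; ring)⟩))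

end Abstract

section Linear

variable {p : ℕ} [Fact p.Prime]

/-- A two-by-two scalar matrix. -/
def IsScal (u : Matrix (Fin 2) (Fin 2) (ZMod p)) : Prop := u 0 1 = 0 ∧ u 1 0 = 0 ∧ u 0 0 = u 1 1

theorem isScal_iff {u : Matrix (Fin 2) (Fin 2) (ZMod p)} :
    IsScal u ↔ ∃ c : ZMod p, u = c • (1 : Matrix (Fin 2) (Fin 2) (ZMod p)) := by
  refine ⟨fun h => ⟨u 0 0, ?_⟩, ?_⟩
  · obtain ⟨h1, h2, h3⟩ := h
    ext i j
    fin_cases i <;> fin_cases j <;> simp [h1, h2, h3]
  · rintro ⟨c, rfl⟩
    simp [IsScal]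

/-- The commutant of a non-scalar two-by-two matrix. -/
theorem commutant {u w : Matrix (Fin 2) (Fin 2) (ZMod p)} (hu : ¬ IsScal u) (h : w * u = u * w) :
    ∃ α β : ZMod p, w = α • 1 + β • u := by
  have e00 := congrFun (congrFun h 0) 0
  have e01 := congrFun (congrFun h 0) 1
  have e10 := congrFun (congrFun h 1) 0
  simp only [Matrix.mul_apply, Fin.sum_univ_two] at e00 e01 e10
  have fin : ∀ α β : ZMod p, w 0 0 = α + β * u 0 0 → w 0 1 = β * u 0 1 → w 1 0 = β * u 1 0 →
      w 1 1 = α + β * u 1 1 → w = α • 1 + β • u := by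
    intro α β h1 h2 h3 h4
    ext i j
    fin_cases i <;> fin_cases j <;> simp [h1, h2, h3, h4]
  by_cases h01 : u 0 1 = 0
  · by_cases h10 : u 1 0 = 0
    · have hd : u 0 0 - u 1 1 ≠ 0 := fun hh => hu ⟨h01, h10, sub_eq_zero.1 hh⟩
      have w01 : w 0 1 = 0 := by
        rw [h01] at e01
        exact (mul_eq_zero.1 (show (u 0 0 - u 1 1) * w 0 1 = 0 by linear_combination -e01)).resolve_left hd
      have w10 : w 1 0 = 0 := by
        rw [h10] at e10
        exact (mul_eq_zero.1 (show (u 0 0 - u 1 1) * w 1 0 = 0 by linear_combination e10)).resolve_left hd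
      refine ⟨w 0 0 - (w 0 0 - w 1 1) / (u 0 0 - u 1 1) * u 0 0, (w 0 0 - w 1 1) / (u 0 0 - u 1 1),
        fin _ _ (by ring) (by rw [w01, h01, mul_zero]) (by rw [w10, h10, mul_zero]) ?_⟩
      field_simp
      ring
    · refine ⟨w 0 0 - w 1 0 / u 1 0 * u 0 0, w 1 0 / u 1 0, fin _ _ (by ring) ?_ ?_ ?_⟩
      · field_simp
        linear_combination e00
      · field_simp
      · field_simp
        linear_combination e10
  · refine ⟨w 0 0 - w 0 1 / u 0 1 * u 0 0, w 0 1 / u 0 1, fin _ _ (by ring) ?_ ?_ ?_⟩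
    · field_simp
    · field_simp
      linear_combination -e00
    · field_simp
      linear_combination -e01

variable {G : Type*} [Group G] [Finite G] (f : G →* Matrix (Fin 2) (Fin 2) (ZMod p))

theorem mem_center_of_scal (hf : Function.Injective f) {g : G} (hg : IsScal (f g)) :
    g ∈ Subgroup.center G := by
  obtain ⟨c, hc⟩ := isScal_iff.1 hg
  refine Subgroup.mem_center_iff.2 fun x => hf ?_
  rw [map_mul, map_mul, hc, mul_smul_comm, smul_mul_assoc, one_mul, mul_one]

theorem plane_center_iff (hf : Function.Injective f) (hnc : ¬ ∀ a b : G, a * b = b * a) {g : G} :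
    g ∈ Subgroup.center G ↔ IsScal (f g) := by
  refine ⟨fun hg => ?_, mem_center_of_scal f hf⟩
  by_contra hs
  refine hnc fun a b => hf ?_
  have h : ∀ x : G, f x * f g = f g * f x := fun x => by
    rw [← map_mul, ← map_mul, Subgroup.mem_center_iff.1 hg x]
  obtain ⟨α, β, ha⟩ := commutant hs (h a)
  obtain ⟨α', β', hb⟩ := commutant hs (h b)
  rw [map_mul, map_mul, ha, hb]
  simp only [add_mul, mul_add, smul_mul_assoc, mul_smul_comm, one_mul, mul_one, smul_smul, smul_add]
  rw [mul_comm α' α, mul_comm β' β, mul_comm α' β, mul_comm β' α]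
  abel

theorem plane_centralizer (hf : Function.Injective f) (hnc : ¬ ∀ a b : G, a * b = b * a) {g : G}
    (hg : g ∉ Subgroup.center G) {a : G} (ha : a ∈ Subgroup.centralizer ({g} : Set G)) :
    ∃ α β : ZMod p, f a = α • 1 + β • f g :=
  commutant (fun h => hg ((plane_center_iff f hf hnc).2 h)) (by
    rw [← map_mul, ← map_mul, Subgroup.mem_centralizer_singleton_iff.1 ha])

theorem plane_hab (hf : Function.Injective f) (hnc : ¬ ∀ a b : G, a * b = b * a) :
    ∀ g ∉ Subgroup.center G, ∀ a ∈ Subgroup.centralizer ({g} : Set G),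
      ∀ b ∈ Subgroup.centralizer ({g} : Set G), a * b = b * a := by
  intro g hg a ha b hb
  obtain ⟨α, β, ha⟩ := plane_centralizer f hf hnc hg ha
  obtain ⟨α', β', hb⟩ := plane_centralizer f hf hnc hg hb
  apply hf
  rw [map_mul, map_mul, ha, hb]
  simp only [add_mul, mul_add, smul_mul_assoc, mul_smul_comm, one_mul, mul_one, smul_smul, smul_add]
  rw [mul_comm α' α, mul_comm β' β, mul_comm α' β, mul_comm β' α]
  abel

theorem plane_hU (hf : Function.Injective f) (hnc : ¬ ∀ a b : G, a * b = b * a) :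
    ∀ g ∉ Subgroup.center G, Nat.card (Subgroup.centralizer ({g} : Set G)) ≤
      (p + 1) * Nat.card (Subgroup.center G) := by
  classical
  intro g hg
  set U := Subgroup.centralizer ({g} : Set G)
  have hex : ∀ x : U, ∃ ab : ZMod p × ZMod p, f x = ab.1 • 1 + ab.2 • f g := fun x => by
    obtain ⟨α, β, h⟩ := plane_centralizer f hf hnc hg x.2
    exact ⟨(α, β), h⟩
  choose co hco using hex
  let lab : U → Option (ZMod p) := fun x =>
    if (co x).2 = 0 then none else some ((co x).1 / (co x).2)
  have hlab : ∀ x y : U, lab x = lab y → (y : G)⁻¹ * x ∈ Subgroup.center G := by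
    intro x y hxy
    have hne : ∀ w : U, f w ≠ 0 := fun w h0 => by
      have h1 : f ((w : G) * (w : G)⁻¹) = 1 := by rw [mul_inv_cancel, map_one]
      rw [map_mul, h0, zero_mul] at h1
      exact zero_ne_one h1
    obtain ⟨c, hc⟩ : ∃ c : ZMod p, f x = c • f y := by
      by_cases hy : (co y).2 = 0
      · have hx : (co x).2 = 0 := by
          by_contra hx
          simp [lab, hx, hy] at hxy
        have hy1 : (co y).1 ≠ 0 := fun h => hne y (by rw [hco y, h, hy, zero_smul, zero_smul, add_zero])
        exact ⟨(co x).1 / (co y).1, by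
          rw [hco x, hco y, hx, hy, zero_smul, add_zero, add_zero, smul_smul, div_mul_cancel₀ _ hy1]⟩
      · have hx : (co x).2 ≠ 0 := fun hx => by simp [lab, hx, hy] at hxy
        simp only [lab, hx, hy, if_false, Option.some.injEq] at hxy
        refine ⟨(co x).2 / (co y).2, ?_⟩
        rw [hco x, hco y, smul_add, smul_smul, smul_smul, div_mul_cancel₀ _ hy]
        congr 2
        field_simp at hxy ⊢
        linear_combination hxy
    refine mem_center_of_scal f hf (isScal_iff.2 ⟨c, ?_⟩)
    rw [map_mul, hc, mul_smul_comm, ← map_mul, inv_mul_cancel, map_one]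
  let Z := (Subgroup.center G).subgroupOf U
  have hinj : Function.Injective (fun q : U ⧸ Z => lab q.out) := by
    intro a b hab
    rw [← a.out_eq', ← b.out_eq', QuotientGroup.eq, Subgroup.mem_subgroupOf]
    exact hlab b.out a.out hab.symm
  have h1 : Nat.card (U ⧸ Z) ≤ p + 1 := by
    refine (Nat.card_le_card_of_injective _ hinj).trans (le_of_eq ?_)
    rw [Finite.card_option, Nat.card_zmod]
  rw [Subgroup.card_eq_card_quotient_mul_card_subgroup Z,
    Nat.card_congr (Subgroup.subgroupOfEquivOfLe (center_le_centralizer g)).toEquiv]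
  exact Nat.mul_le_mul_right _ h1

theorem plane_hN (hf : Function.Injective f) (hnc : ¬ ∀ a b : G, a * b = b * a) (hp2 : p ≠ 2)
    (hG : ¬ p ∣ Nat.card G) :
    ∀ g ∉ Subgroup.center G,
      Nat.card (Subgroup.normalizer ((Subgroup.centralizer ({g} : Set G) : Subgroup G) : Set G)) ≤
        2 * Nat.card (Subgroup.centralizer ({g} : Set G)) := by
  classical
  intro g hg
  set U := Subgroup.centralizer ({g} : Set G) with hUdef
  set N := Subgroup.normalizer ((U : Subgroup G) : Set G)
  have hgU : g ∈ U := Subgroup.mem_centralizer_singleton_iff.2 rfl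
  have h2 : (2 : ZMod p) ≠ 0 := by
    intro h
    have hd : p ∣ 2 := (ZMod.natCast_eq_zero_iff 2 p).1 (by exact_mod_cast h)
    exact hp2 ((Nat.prime_dvd_prime_iff_eq Fact.out Nat.prime_two).1 hd)
  obtain ⟨t, ht⟩ : ∃ t, t = f g 0 0 + f g 1 1 := ⟨_, rfl⟩
  obtain ⟨d, hd⟩ : ∃ d, d = f g 0 0 * f g 1 1 - f g 0 1 * f g 1 0 := ⟨_, rfl⟩
  have hconj : ∀ n : N, f ((n : G) * g * (n : G)⁻¹) ∈
      ({f g, t • 1 - f g} : Set (Matrix (Fin 2) (Fin 2) (ZMod p))) := by
    intro n
    have hmem : (n : G) * g * (n : G)⁻¹ ∈ U := (Subgroup.mem_normalizer_iff.1 n.2 g).1 hgU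
    obtain ⟨α, β, hab⟩ := plane_centralizer f hf hnc hg hmem
    have hii : f (n : G)⁻¹ * f (n : G) = 1 := by rw [← map_mul, inv_mul_cancel, map_one]
    have htr : (f ((n : G) * g * (n : G)⁻¹)).trace = (f g).trace := by
      rw [map_mul, map_mul, Matrix.trace_mul_comm, ← mul_assoc, hii, one_mul]
    have hdet : (f ((n : G) * g * (n : G)⁻¹)).det = (f g).det := by
      rw [map_mul, map_mul, Matrix.det_mul_comm, ← mul_assoc, hii, one_mul]
    rw [hab] at htr hdet ⊢
    simp only [Matrix.trace_fin_two, Matrix.det_fin_two, Matrix.add_apply, Matrix.smul_apply,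
      Matrix.one_apply_eq, Matrix.one_apply_ne (show (0 : Fin 2) ≠ 1 by decide),
      Matrix.one_apply_ne (show (1 : Fin 2) ≠ 0 by decide), smul_eq_mul] at htr hdet
    have e1 : 2 * α + β * t = t := by rw [ht]; linear_combination htr
    have e2 : α ^ 2 + α * β * t + β ^ 2 * d = d := by rw [ht, hd]; linear_combination hdet
    have e3 : (1 - β) * (1 + β) * (4 * d - t ^ 2) = 0 := by
      linear_combination (2 * α + β * t + t) * e1 - 4 * e2
    rcases mul_eq_zero.1 e3 with h | hdisc
    · rcases mul_eq_zero.1 h with h | h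
      · left
        obtain rfl : β = 1 := (sub_eq_zero.1 h).symm
        have : α = 0 := (mul_eq_zero.1 (show 2 * α = 0 by linear_combination e1)).resolve_left h2
        rw [this, zero_smul, zero_add, one_smul]
      · right
        obtain rfl : β = -1 := eq_neg_of_add_eq_zero_right h
        have : α = t := mul_left_cancel₀ h2 (show 2 * α = 2 * t by linear_combination e1)
        rw [this, neg_one_smul, ← sub_eq_add_neg]
        rfl
    · exfalso
      apply hg
      set N' := (2 : ZMod p) • f g - t • (1 : Matrix (Fin 2) (Fin 2) (ZMod p)) with hN'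
      have hsq : N' * N' = 0 := by
        rw [hd, ht] at hdisc
        ext i j
        fin_cases i <;> fin_cases j <;>
          simp [hN', ht, Matrix.mul_apply, Fin.sum_univ_two, Matrix.one_apply] <;>
          first
            | linear_combination -hdisc
            | ring
      have hN'p : N' ^ p = 0 := by
        exact pow_eq_zero_of_le (Fact.out : p.Prime).two_le (by rw [pow_two, hsq])
      have hpow : ((2 : ZMod p) • f g) ^ p = (t • (1 : Matrix (Fin 2) (Fin 2) (ZMod p))) ^ p := by
        have hc : Commute N' (t • (1 : Matrix (Fin 2) (Fin 2) (ZMod p))) :=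
          (Commute.one_right N').smul_right t
        have := add_pow_char_of_commute (p := p) hc
        rw [hN'p, zero_add, hN', sub_add_cancel] at this
        exact this
      rw [smul_pow, smul_pow, one_pow, ← map_pow, ZMod.pow_card, ZMod.pow_card] at hpow
      have hs : IsScal (f (g ^ p)) := isScal_iff.2 ⟨(2 : ZMod p)⁻¹ * t, by
        rw [← smul_smul, ← hpow, smul_smul, inv_mul_cancel₀ h2, one_smul]⟩
      have hcen := mem_center_of_scal f hf hs
      obtain ⟨k, hk⟩ := exists_pow_eq_self_of_coprime (x := g) (n := p)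
        ((Fact.out : p.Prime).coprime_iff_not_dvd.2 fun h => hG (h.trans (orderOf_dvd_natCard g)))
      exact hk ▸ Subgroup.pow_mem _ hcen k
  let Φ : N ⧸ U.subgroupOf N → ({f g, t • 1 - f g} : Set (Matrix (Fin 2) (Fin 2) (ZMod p))) :=
    fun q => ⟨f ((q.out : G) * g * (q.out : G)⁻¹), hconj q.out⟩
  have hΦ : Function.Injective Φ := by
    intro a b hab
    have h := hf (congrArg Subtype.val hab)
    rw [← a.out_eq', ← b.out_eq', QuotientGroup.eq, Subgroup.mem_subgroupOf,
      Subgroup.mem_centralizer_singleton_iff]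
    show (a.out : G)⁻¹ * (b.out : G) * g = g * ((a.out : G)⁻¹ * (b.out : G))
    calc (a.out : G)⁻¹ * (b.out : G) * g
        = (a.out : G)⁻¹ * ((b.out : G) * g * (b.out : G)⁻¹) * (b.out : G) := by group
      _ = (a.out : G)⁻¹ * ((a.out : G) * g * (a.out : G)⁻¹) * (b.out : G) := by rw [h]
      _ = g * ((a.out : G)⁻¹ * (b.out : G)) := by group
  have h1 : Nat.card (N ⧸ U.subgroupOf N) ≤ 2 := by
    refine (Nat.card_le_card_of_injective Φ hΦ).trans ?_
    rw [Nat.card_coe_set_eq]
    exact (Set.ncard_insert_le _ _).trans (by rw [Set.ncard_singleton])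
  rw [Subgroup.card_eq_card_quotient_mul_card_subgroup (U.subgroupOf N),
    Nat.card_congr (Subgroup.subgroupOfEquivOfLe (Subgroup.le_normalizer (H := U))).toEquiv]
  exact Nat.mul_le_mul_right _ h1

variable {V : Type*} [AddCommGroup V] [Module (ZMod p) V] [Finite V] [Nontrivial V]
variable (ρ : G →* (V ≃ₗ[ZMod p] V))

/-- The bound in dimension two. -/
theorem plane_bound (hρ : Function.Injective ρ)
    (htrans : ∀ v w : V, v ≠ 0 → w ≠ 0 → ∃ g : G, ρ g v = w) (hG : ¬ p ∣ Nat.card G)
    (hn : Nat.card V = p ^ 2) (hnc : ¬ ∀ a b : G, a * b = b * a) {v : V} (hv : v ≠ 0) :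
    Nat.card (ConjClasses G) + Nat.card (ConjClasses (stab ρ v)) ≤ p ^ 2 ∧
      (Nat.card (ConjClasses G) + Nat.card (ConjClasses (stab ρ v)) = p ^ 2 →
        p = 3 ∧ Nat.card G = 16) := by
  classical
  have hp : p.Prime := Fact.out
  have hfr : Module.finrank (ZMod p) V = 2 := by
    have h := Module.natCard_eq_pow_finrank (K := ZMod p) (V := V)
    rw [hn, Nat.card_zmod] at h
    exact (Nat.pow_right_injective hp.two_le h).symm
  let Lh : G →* Module.End (ZMod p) V :=
    { toFun := fun g => (ρ g).toLinearMap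
      map_one' := LinearMap.ext fun w => rho_one_apply ρ w
      map_mul' := fun a b => LinearMap.ext fun w => rho_mul_apply ρ a b w }
  let f : G →* Matrix (Fin 2) (Fin 2) (ZMod p) :=
    (LinearMap.toMatrixAlgEquiv (Module.finBasisOfFinrankEq (ZMod p) V hfr)).toAlgHom.toRingHom.toMonoidHom.comp Lh
  have hf : Function.Injective f := fun a b h => hρ (LinearEquiv.toLinearMap_injective
    ((LinearMap.toMatrixAlgEquiv (Module.finBasisOfFinrankEq (ZMod p) V hfr)).injective h))
  have hst := card_stab_mul ρ htrans hv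
  rw [hn] at hst
  have hp2 : p ≠ 2 := by
    rintro rfl
    -- a group of odd order permuting three vectors has order three
    haveI := Fintype.ofFinite V
    haveI := Fintype.ofFinite G
    haveI : DecidableEq V := Classical.decEq V
    let π : G →* Equiv.Perm {w : V // w ≠ 0} :=
      { toFun := fun g => Equiv.Perm.subtypePerm ((ρ g).toEquiv : Equiv.Perm V) fun w => (ρ g).map_eq_zero_iff.not
        map_one' := Equiv.ext fun w => Subtype.ext (rho_one_apply ρ (w : V))
        map_mul' := fun a b => Equiv.ext fun w => Subtype.ext (rho_mul_apply ρ a b (w : V)) }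
    have hπ : Function.Injective π := fun a b h => hρ (LinearEquiv.ext fun w => by
      rcases eq_or_ne w 0 with rfl | hw
      · rw [map_zero, map_zero]
      · exact congrArg Subtype.val (Equiv.ext_iff.1 h ⟨w, hw⟩))
    have hd := Nat.card_le_card_of_injective π hπ
    rw [Nat.card_perm, Nat.card_eq_fintype_card (α := {w : V // w ≠ 0}), Fintype.card_subtype_compl,
      Fintype.card_subtype_eq, ← Nat.card_eq_fintype_card, hn] at hd
    rw [show Nat.factorial (2 ^ 2 - 1) = 6 from rfl] at hd
    rw [show (2 : ℕ) ^ 2 - 1 = 3 by norm_num] at hst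
    have h3 : Nat.card G = 3 := by omega
    haveI : Fact (Nat.Prime 3) := ⟨Nat.prime_three⟩
    haveI := isCyclic_of_prime_card h3
    exact hnc fun a b => IsMulCommutative.is_comm.comm a b
  have hp3 : 3 ≤ p := by have := hp.two_le; omega
  have hS := ca_mod_center hnc (plane_hab f hf hnc) (plane_hN f hf hnc hp2 hG) (p + 1)
    (plane_hU f hf hnc)
  have hzdvd : Nat.card (Subgroup.center G) ≤ p - 1 := by
    have h : ∀ x : Subgroup.center G, ∃ c : (ZMod p)ˣ, f x = (c : ZMod p) • 1 := by
      intro x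
      obtain ⟨c, hc⟩ := isScal_iff.1 ((plane_center_iff f hf hnc).1 x.2)
      have hc0 : c ≠ 0 := by
        rintro rfl
        have h1 : f ((x : G) * (x : G)⁻¹) = 1 := by rw [mul_inv_cancel, map_one]
        rw [map_mul, hc, zero_smul, zero_mul] at h1
        exact zero_ne_one h1
      exact ⟨Units.mk0 c hc0, hc⟩
    choose co hco using h
    refine (Nat.card_le_card_of_injective co fun a b hab => Subtype.ext (hf ?_)).trans
      (le_of_eq (by rw [Nat.card_units, Nat.card_zmod]))
    rw [hco, hco, hab]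
  have hcard := Subgroup.card_mul_index (Subgroup.center G)
  have hdvd : (Subgroup.center G).index ∣ Nat.card G := Subgroup.index_dvd_card _
  have hkH : Nat.card (ConjClasses (stab ρ v)) ≤ Nat.card (stab ρ v) :=
    Nat.card_le_card_of_surjective ConjClasses.mk fun x => Quotient.exists_rep x
  have hzpos : 0 < Nat.card (Subgroup.center G) := Nat.card_pos
  obtain ⟨z, hz⟩ : ∃ z, z = Nat.card (Subgroup.center G) := ⟨_, rfl⟩
  obtain ⟨k, hk⟩ : ∃ k, k = Nat.card (ConjClasses G) := ⟨_, rfl⟩
  obtain ⟨h, hh⟩ : ∃ h, h = Nat.card (stab ρ v) := ⟨_, rfl⟩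
  obtain ⟨kh, hkh⟩ : ∃ kh, kh = Nat.card (ConjClasses (stab ρ v)) := ⟨_, rfl⟩
  rw [← hz, ← hk] at hS
  rw [← hk, ← hkh]
  rw [← hz] at hzdvd hcard hzpos
  rw [← hh, ← hkh] at hkH
  rw [← hh] at hst
  have hpp : p ^ 2 = (p - 1) * (p + 1) + 1 := by
    obtain ⟨r, rfl⟩ := Nat.exists_eq_add_of_le' (show 1 ≤ p by omega)
    rw [Nat.add_sub_cancel]; ring
  have hhpos : 0 < h := hh ▸ Nat.card_pos
  rcases hS with ⟨c, hc, hi, hk2⟩ | hrest
  · -- dihedral image
    rw [hi] at hcard
    obtain ⟨r, rfl⟩ := Nat.exists_eq_add_of_le' (show 1 ≤ p by omega)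
    rw [Nat.add_sub_cancel] at hzdvd
    have hG2 : 2 * (z * c) = ((r + 1) ^ 2 - 1) * h := by rw [← hst, ← hcard]; ring
    rw [show (r + 1) ^ 2 - 1 = r * (r + 2) by
      rw [show (r + 1) ^ 2 = r * (r + 2) + 1 by ring, Nat.add_sub_cancel]] at hG2
    have hh2 : h ≤ 2 := by
      have h1 : r * (r + 2) * h ≤ r * (r + 2) * 2 := by
        rw [← hG2]
        have := Nat.mul_le_mul hzdvd hc
        linarith
      exact Nat.le_of_mul_le_mul_left h1 (Nat.mul_pos (by omega) (by omega))
    rcases Nat.lt_or_ge r 4 with hr4 | hr4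
    · have hr : r = 2 := by
        have : 2 ≤ r := by omega
        interval_cases r
        · rfl
        · exact absurd hp (by norm_num)
      subst hr
      norm_num at hG2 ⊢
      interval_cases h
      · have hz2 : z = 1 ∨ z = 2 := by omega
        rcases hz2 with rfl | rfl <;> (refine ⟨?_, fun hh => ?_⟩ <;> omega)
      · have hz2 : z = 1 ∨ z = 2 := by omega
        rcases hz2 with rfl | rfl
        · omega
        · exact ⟨by omega, fun _ => by rw [hst]; norm_num⟩
    · have hlt : k + kh < (r + 1) ^ 2 := by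
        have h1 : z * c ≤ r * (r + 2) := Nat.mul_le_mul hzdvd hc
        have h2 : 4 * r ≤ r * r := Nat.mul_le_mul_right r hr4
        nlinarith [hk2, h1, h2, hkH, hh2, hzdvd]
      exact ⟨hlt.le, fun heq => absurd heq (Nat.ne_of_lt hlt)⟩
  · have hlt : k + kh < p ^ 2 := by
      have hh1 : ∀ i, (Subgroup.center G).index = i → h * (p + 1) ≤ i := by
        intro i hi
        have h1 : z * i = (p - 1) * (p + 1) * h := by
          rw [← hi, hcard, hst, hpp, Nat.add_sub_cancel]
        refine Nat.le_of_mul_le_mul_left ?_ (show 0 < p - 1 by omega)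
        calc (p - 1) * (h * (p + 1)) = z * i := by rw [h1]; ring
          _ ≤ (p - 1) * i := Nat.mul_le_mul_right _ hzdvd
      have hno3 : ∀ i, (Subgroup.center G).index = i → 3 ∣ i → p ≠ 3 := by
        rintro i hi h3 rfl
        exact hG (h3.trans (hi ▸ hdvd))
      have main : ∀ i a : ℕ, 3 ∣ i → i ≤ 60 → a ≤ 9 → (p = 5 → i ≤ 24 ∧ a ≤ 8) →
          (Subgroup.center G).index = i → 2 * k = a * z → k + kh < p ^ 2 := by
        intro i a h3 hi60 ha9 h5 hi hka
        have hp5 : 5 ≤ p := by
          have := hno3 i hi h3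
          rcases Nat.lt_or_ge p 5 with hlt | hge
          · interval_cases p
            · omega
            · exact absurd hp (by norm_num)
          · exact hge
        have h1 := hh1 i hi
        rcases Nat.lt_or_ge p 7 with hlt | hge
        · obtain rfl : p = 5 := by
            interval_cases p
            · rfl
            · exact absurd hp (by norm_num)
          obtain ⟨hi24, ha8⟩ := h5 rfl
          have : a * z ≤ 8 * 4 := Nat.mul_le_mul ha8 (by omega)
          norm_num
          omega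
        · have h8 : h ≤ 7 := by
            by_contra hcon
            have : 8 * 8 ≤ h * (p + 1) := Nat.mul_le_mul (by omega) (by omega)
            omega
          have h2 : a * z ≤ 9 * (p - 1) := Nat.mul_le_mul ha9 hzdvd
          have h3' : 7 * p ≤ p ^ 2 := by rw [pow_two]; exact Nat.mul_le_mul_right p hge
          omega
      rcases hrest with ⟨hi, hk2⟩ | ⟨hi, hk2⟩ | ⟨hi, hk2⟩
      · exact main 12 7 (by norm_num) (by norm_num) (by norm_num) (fun _ => by norm_num) hi hk2
      · exact main 24 8 (by norm_num) (by norm_num) (by norm_num) (fun _ => by norm_num) hi hk2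
      · refine main 60 9 (by norm_num) le_rfl le_rfl (fun h5 => ?_) hi hk2
        subst h5
        exact absurd ((show (5 : ℕ) ∣ 60 by norm_num).trans (hi ▸ hdvd)) hG
    exact ⟨hlt.le, fun heq => absurd heq (Nat.ne_of_lt hlt)⟩

end Linear

end Cfsg.Agent.Lib.KGV46
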