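import Cfsg.Agent.Lib.KGV46.Field
import Cfsg.Agent.Lib.KGV46.Semilinear
import Cfsg.Agent.Lib.KGV46.Plane
import Cfsg.Agent.Lib.KGV46.Nonsolvable
import Cfsg.Agent.Lib.KGV46.EightyOne
import Cfsg.Agent.S3360
import Cfsg.Agent.S0689

/-!
# A lower bound for the class number of a transitive linear group of order prime to `p`

Either `k(H) ≥ p`, or `H` is a Singer cycle of a line, or `H = SL(2,5)` on `11²`.
-/

set_option autoImplicit false
set_option linter.unusedSectionVars false
set_option linter.style.haveILetI false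

open Cfsg
open scoped commutatorElement

namespace Cfsg.Agent.Lib.KGV46

open Cfsg.Agent.Lib

theorem card_le_conjClasses_mul {G : Type*} [Group G] [Finite G] (A : Subgroup G)
    (hA : ∀ a ∈ A, ∀ b ∈ A, a * b = b * a) :
    Nat.card A ≤ Nat.card (ConjClasses G) * A.index := by
  classical
  haveI := Fintype.ofFinite G
  haveI := Fintype.ofFinite (ConjClasses G)
  rw [Nat.card_eq_fintype_card (α := A), Nat.card_eq_fintype_card (α := ConjClasses G),
    ← Finset.card_univ, ← Finset.card_univ, mul_comm]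
  refine Finset.card_le_mul_card_image_of_maps_to (f := fun a : A => ConjClasses.mk (a : G))
    (fun _ _ => Finset.mem_univ _) _ fun c _ => ?_
  rcases (Finset.univ.filter fun a : A => ConjClasses.mk (a : G) = c).eq_empty_or_nonempty with
    h | ⟨a₀, ha₀⟩
  · rw [h]; exact Nat.zero_le _
  have hex : ∀ a ∈ Finset.univ.filter (fun a : A => ConjClasses.mk (a : G) = c),
      ∃ g : G, g * a₀ * g⁻¹ = (a : G) := fun a ha => by
    have h := (Finset.mem_filter.1 ha₀).2.trans (Finset.mem_filter.1 ha).2.symm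
    exact isConj_iff.1 (ConjClasses.mk_eq_mk_iff_isConj.1 h)
  choose g hg using hex
  rw [← Fintype.card_coe, ← Nat.card_eq_fintype_card, Subgroup.index]
  refine Nat.card_le_card_of_injective (fun x => (g x.1 x.2 : G ⧸ A)) fun x y hxy => ?_
  have hm := QuotientGroup.eq.1 hxy
  obtain ⟨u, hu⟩ : ∃ u, u = (g x.1 x.2)⁻¹ * g y.1 y.2 := ⟨_, rfl⟩
  rw [← hu] at hm
  have hcu : u * (a₀ : G) * u⁻¹ = a₀ := by
    rw [hA u hm a₀ a₀.2, mul_inv_cancel_right]
  refine Subtype.ext (Subtype.ext ?_)
  rw [← hg x.1 x.2, ← hg y.1 y.2]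
  conv_rhs => rw [show g y.1 y.2 = g x.1 x.2 * u by rw [hu, mul_inv_cancel_left]]
  rw [show g x.1 x.2 * u * a₀ * (g x.1 x.2 * u)⁻¹ = g x.1 x.2 * (u * a₀ * u⁻¹) * (g x.1 x.2)⁻¹ by
    group, hcu]

variable {p : ℕ} [Fact p.Prime]
variable {V : Type*} [AddCommGroup V] [Module (ZMod p) V] [Finite V] [Nontrivial V]
variable {G : Type*} [Group G] [Finite G] (ρ : G →* (V ≃ₗ[ZMod p] V))

/-- A semilinear group has an abelian subgroup of index at most the dimension. -/
theorem exists_abelian_index_le (hρ : Function.Injective ρ) {n : ℕ}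
    (hn : Nat.card V = p ^ n) (hn0 : 0 < n) (hsl : Spectrum.Huppert.IsSemilinear ρ) :
    ∃ A : Subgroup G, (∀ a ∈ A, ∀ b ∈ A, a * b = b * a) ∧ A.index ≤ n := by
  classical
  have hp : p.Prime := Fact.out
  obtain ⟨F, _, _, e, he⟩ := hsl
  choose a σ key using he
  haveI : CharP F p := by
    refine (CharP.charP_iff_prime_eq_zero hp).2 ?_
    have h1 := congrArg e (show p • (e.symm (1 : F)) = 0 by
      rw [← Nat.cast_smul_eq_nsmul (ZMod p), ZMod.natCast_self, zero_smul])
    rwa [map_nsmul, map_zero, AddEquiv.apply_symm_apply, nsmul_one] at h1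
  letI : Algebra (ZMod p) F := ZMod.algebra F p
  have hcardF : Nat.card F = p ^ n := by rw [← Nat.card_congr e.toEquiv, hn]
  have hfr : Module.finrank (ZMod p) F = n := by
    have h := Module.natCard_eq_pow_finrank (K := ZMod p) (V := F)
    rw [hcardF, Nat.card_zmod] at h
    exact (Nat.pow_right_injective hp.two_le h).symm
  have ha0 : ∀ g, a g ≠ 0 := fun g h0 => by
    have h := key g (e.symm 1)
    rw [h0, zero_mul] at h
    exact absurd ((ρ g).map_eq_zero_iff.1 (e.map_eq_zero_iff.1 h)) (by simp)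
  have hmula : ∀ g h, a (g * h) = a g * σ g (a h) := by
    intro g h
    have h1 := key (g * h) (e.symm 1)
    rw [rho_mul_apply, key g, key h, AddEquiv.apply_symm_apply, map_one, map_one, mul_one,
      mul_one] at h1
    exact h1.symm
  have hmulσ : ∀ g h y, σ (g * h) y = σ g (σ h y) := by
    intro g h y
    have h1 := key (g * h) (e.symm y)
    rw [rho_mul_apply, key g, key h, AddEquiv.apply_symm_apply, map_mul, hmula g h] at h1
    refine mul_left_cancel₀ (mul_ne_zero (ha0 g) ((map_ne_zero_iff _ (σ g).injective).2 (ha0 h))) ?_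
    rw [← h1, mul_assoc]
  let τ : G → (F ≃ₐ[ZMod p] F) := fun g => AlgEquiv.ofRingEquiv (f := σ g) fun x => by
    have h := RingHom.ext_zmod ((σ g).toRingHom.comp (algebraMap (ZMod p) F))
      (algebraMap (ZMod p) F)
    exact congrFun (congrArg DFunLike.coe h) x
  let θ : G →* (F ≃ₐ[ZMod p] F) := MonoidHom.mk' τ fun g h => AlgEquiv.ext fun y => hmulσ g h y
  haveI : Finite (F ≃ₐ[ZMod p] F) :=
    Finite.of_injective (fun f => (f : F → F)) DFunLike.coe_injective
  have hAσ : ∀ g ∈ θ.ker, ∀ y, σ g y = y := fun g hg y => by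
    show θ g y = y
    rw [MonoidHom.mem_ker.1 hg]; rfl
  refine ⟨θ.ker, fun g hg h hh => hρ (LinearEquiv.ext fun w => e.injective ?_), ?_⟩
  · rw [key, key, hmula, hmula, hmulσ, hmulσ, hAσ g hg, hAσ g hg, hAσ h hh, hAσ h hh, hAσ g hg,
      hAσ h hh, mul_comm (a g)]
  · rw [Subgroup.index_ker]
    refine Nat.le_of_dvd hn0 ?_
    have h := θ.range.card_subgroup_dvd_card
    rwa [IsGalois.card_aut_eq_finrank, hfr] at h

/-- A line. -/
theorem card_of_line (hρ : Function.Injective ρ)
    (htrans : ∀ v w : V, v ≠ 0 → w ≠ 0 → ∃ g : G, ρ g v = w) (hn : Nat.card V = p) :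
    (∀ a b : G, a * b = b * a) ∧ Nat.card G = p - 1 := by
  classical
  have hfr : Module.finrank (ZMod p) V = 1 := by
    have h := Module.natCard_eq_pow_finrank (K := ZMod p) (V := V)
    rw [hn, Nat.card_zmod] at h
    refine (Nat.pow_right_injective (Fact.out : p.Prime).two_le ?_).symm
    show p ^ 1 = p ^ Module.finrank (ZMod p) V
    rw [pow_one]; exact h
  obtain ⟨v, hv⟩ := exists_ne (0 : V)
  have hc : ∀ a b : G, a * b = b * a := fun a b => by
    refine hρ (LinearEquiv.ext fun w => ?_)
    obtain ⟨c, rfl⟩ := exists_smul_eq_of_finrank_eq_one hfr hv w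
    obtain ⟨x, hx⟩ := exists_smul_eq_of_finrank_eq_one hfr hv (ρ a v)
    obtain ⟨y, hy⟩ := exists_smul_eq_of_finrank_eq_one hfr hv (ρ b v)
    rw [map_smul, map_smul, rho_mul_apply, rho_mul_apply, ← hy, ← hx, map_smul, map_smul, ← hy,
      ← hx, smul_smul, smul_smul, smul_smul, smul_smul]
    congr 1
    ring
  refine ⟨hc, ?_⟩
  have hst : stab ρ v = ⊥ := by
    rw [eq_bot_iff]
    intro g hg
    rw [Subgroup.mem_bot]
    refine hρ (LinearEquiv.ext fun w => ?_)
    rcases eq_or_ne w 0 with rfl | hw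
    · rw [map_zero, map_zero]
    · obtain ⟨h, rfl⟩ := htrans v w hv hw
      rw [← rho_mul_apply, hc g h, rho_mul_apply, (mem_stab ρ).1 hg, rho_one_apply]
  have h3 := card_stab_mul ρ htrans hv
  rw [hst, Subgroup.card_bot, mul_one, hn] at h3
  exact h3

/-- In a regular group of even order the involution is `-1` and lies in the centre. -/
theorem exists_neg (hρ : Function.Injective ρ) (heven : 2 ∣ Nat.card G)
    (hfpf : ∀ g : G, g ≠ 1 → ∀ w : V, ρ g w = w → w = 0) :
    ∃ z ∈ Subgroup.center G, orderOf z = 2 := by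
  classical
  haveI := Fintype.ofFinite G
  haveI : Fact (Nat.Prime 2) := ⟨Nat.prime_two⟩
  obtain ⟨z, hz⟩ := exists_prime_orderOf_dvd_card 2 (Nat.card_eq_fintype_card (α := G) ▸ heven)
  have hz1 : z ≠ 1 := fun h => by simp [h] at hz
  have hneg : ∀ w : V, ρ z w = -w := fun w => by
    have h : ρ z (w + ρ z w) = w + ρ z w := by
      rw [map_add, ← rho_mul_apply, ← pow_two, ← hz, pow_orderOf_eq_one, rho_one_apply, add_comm]
    have := hfpf z hz1 _ h
    rw [add_comm, add_eq_zero_iff_eq_neg] at this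
    exact this
  refine ⟨z, Subgroup.mem_center_iff.2 fun g => hρ (LinearEquiv.ext fun w => ?_), hz⟩
  rw [rho_mul_apply, rho_mul_apply, hneg, hneg, map_neg]

/-- A regular group on the plane over the field with `11` elements with an icosahedral image. -/
theorem sl25_of_regular {W : Type*} [AddCommGroup W] [Module (ZMod 11) W] [Finite W] {H : Type*}
    [Group H] [Finite H] [Fact (Nat.Prime 11)] (σ : H →* (W ≃ₗ[ZMod 11] W))
    (hσ : Function.Injective σ) (hW : Nat.card W = 121)
    (hreg : ∀ v w : W, v ≠ 0 → w ≠ 0 → ∃! g : H, σ g v = w)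
    (hH : Nat.card H = 120) (hZ : Nat.card (Subgroup.center H) = 2)
    (hnc : ¬ ∀ a b : H, a * b = b * a)
    (hab : ∀ g ∉ Subgroup.center H, ∀ a ∈ Subgroup.centralizer ({g} : Set H),
      ∀ b ∈ Subgroup.centralizer ({g} : Set H), a * b = b * a)
    (hN : ∀ g ∉ Subgroup.center H,
      Nat.card (Subgroup.normalizer ((Subgroup.centralizer ({g} : Set H) : Subgroup H) : Set H)) ≤
        2 * Nat.card (Subgroup.centralizer ({g} : Set H)))
    (hU : ∀ g ∉ Subgroup.center H,
      Nat.card (Subgroup.centralizer ({g} : Set H)) ≤ 12 * Nat.card (Subgroup.center H)) :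
    Nonempty (H ≃* Matrix.SpecialLinearGroup (Fin 2) (ZMod 5)) := by
  classical
  haveI := Fintype.ofFinite H
  set Z := Subgroup.center H with hZdef
  have hself : ∀ g : H, g ∈ Subgroup.centralizer ({g} : Set H) := fun g =>
    Subgroup.mem_centralizer_singleton_iff.2 rfl
  have habZ : ∀ B : Subgroup H, B.Normal → (∀ a ∈ B, ∀ b ∈ B, a * b = b * a) → B ≤ Z := by
    intro B hBn hB g hg
    by_contra hgZ
    have hTI : ∀ u, u ∈ Subgroup.centralizer ({g} : Set H) → u ∉ Z →
        Subgroup.centralizer ({u} : Set H) = Subgroup.centralizer ({g} : Set H) := by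
      intro u hu hun
      refine le_antisymm (fun h hh => ?_) fun h hh => ?_
      · exact Subgroup.mem_centralizer_singleton_iff.2 (hab u hun h hh g
          (Subgroup.mem_centralizer_singleton_iff.2
            (Subgroup.mem_centralizer_singleton_iff.1 hu).symm))
      · exact Subgroup.mem_centralizer_singleton_iff.2 (hab g hgZ h hh u hu)
    have hnor : Subgroup.normalizer
        ((Subgroup.centralizer ({g} : Set H) : Subgroup H) : Set H) = ⊤ := by
      rw [eq_top_iff]
      intro x _
      rw [Subgroup.mem_normalizer_iff]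
      have hxg : Subgroup.centralizer ({x * g * x⁻¹} : Set H) =
          Subgroup.centralizer ({g} : Set H) := by
        refine hTI _ (Subgroup.mem_centralizer_singleton_iff.2
          (hB _ (hBn.conj_mem g hg x) g hg)) fun hc => hgZ ?_
        have h1 := Subgroup.mem_center_iff.1 hc x
        rw [show x * g * x⁻¹ * x = x * g by group] at h1
        have h2 : x * g * x⁻¹ = g := mul_left_cancel (h1.trans rfl)
        rwa [h2] at hc
      intro y
      constructor
      · intro hy
        rw [← hxg]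
        refine Subgroup.mem_centralizer_singleton_iff.2 ?_
        have h1 := Subgroup.mem_centralizer_singleton_iff.1 hy
        calc x * y * x⁻¹ * (x * g * x⁻¹) = x * (y * g) * x⁻¹ := by group
          _ = x * (g * y) * x⁻¹ := by rw [h1]
          _ = _ := by group
      · intro hy
        rw [← hxg] at hy
        refine Subgroup.mem_centralizer_singleton_iff.2 ?_
        have h1 := Subgroup.mem_centralizer_singleton_iff.1 hy
        calc y * g = x⁻¹ * (x * y * x⁻¹ * (x * g * x⁻¹)) * x := by group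
          _ = x⁻¹ * (x * g * x⁻¹ * (x * y * x⁻¹)) * x := by rw [h1]
          _ = _ := by group
    have h1 := hN g hgZ
    rw [hnor, Subgroup.card_top, hH] at h1
    have h2 := hU g hgZ
    rw [hZ] at h2
    omega
  have hns : ¬ Group.IsSolvable H := by
    intro hsol
    have hQ : Group.IsSolvable (H ⧸ Z) := inferInstance
    have hQnt : Nontrivial (H ⧸ Z) := by
      rw [QuotientGroup.nontrivial_iff]
      intro hZt
      exact hnc fun a b => (Subgroup.mem_center_iff.1 (show b ∈ Z by rw [hZt]; exact Subgroup.mem_top b) a)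
    obtain ⟨k, hk⟩ := (Group.isSolvable_def _).1 hQ
    have hex : ∃ A : Subgroup (H ⧸ Z), A.Normal ∧ A ≠ ⊥ ∧ ∀ a ∈ A, ∀ b ∈ A, a * b = b * a := by
      induction k with
      | zero => exact absurd hk (by rw [derivedSeries_zero]; exact top_ne_bot)
      | succ k ih =>
        by_cases hb : derivedSeries (H ⧸ Z) k = ⊥
        · exact ih hb
        refine ⟨derivedSeries (H ⧸ Z) k, derivedSeries_normal _ k, hb, fun a ha b hb' => ?_⟩
        have hm : ⁅a, b⁆ ∈ derivedSeries (H ⧸ Z) (k + 1) := by
          rw [derivedSeries_succ]; exact Subgroup.commutator_mem_commutator ha hb'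
        rw [hk, Subgroup.mem_bot] at hm
        exact commutatorElement_eq_one_iff_mul_comm.1 hm
    obtain ⟨A, hAn, hA1, hAc⟩ := hex
    obtain ⟨F, hF⟩ : ∃ F, F = A.comap (QuotientGroup.mk' Z) := ⟨_, rfl⟩
    have hFn : F.Normal := hF ▸ hAn.comap _
    have hcomm : ∀ a ∈ F, ∀ b ∈ F, ⁅a, b⁆ ∈ Z := fun a ha b hb => by
      rw [← QuotientGroup.eq_one_iff, ← QuotientGroup.mk'_apply, map_commutatorElement,
        commutatorElement_eq_one_iff_mul_comm]
      rw [hF] at ha hb
      exact hAc _ ha _ hb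
    have hFZ : ¬ F ≤ Z := by
      intro hle
      apply hA1
      rw [eq_bot_iff]
      intro a ha
      obtain ⟨x, rfl⟩ := QuotientGroup.mk'_surjective Z a
      rw [Subgroup.mem_bot, QuotientGroup.mk'_apply, QuotientGroup.eq_one_iff]
      exact hle (by rw [hF]; exact ha)
    have hFab : ¬ ∀ a ∈ F, ∀ b ∈ F, a * b = b * a := fun h => hFZ (habZ F hFn h)
    have hZ2 : ∀ c ∈ Z, c ^ 2 = 1 := fun c hc => by
      have := pow_card_eq_one' (x := (⟨c, hc⟩ : Z))
      rw [hZ] at this
      exact congrArg Subtype.val this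
    -- squares in `F` are central
    have hsq : ∀ x ∈ F, x ^ 2 ∈ Z := by
      intro x hx
      haveI := hFn
      have hC : ∀ y ∈ F, x ^ 2 * y = y * x ^ 2 := by
        intro y hy
        have hc := hcomm x hx y hy
        have hc1 := hZ2 _ hc
        obtain ⟨c, hcd⟩ : ∃ c, c = ⁅x, y⁆ := ⟨_, rfl⟩
        rw [← hcd] at hc hc1
        have e1 : x * y = c * (y * x) := by rw [hcd, commutatorElement_def]; group
        have e2 : ∀ w, w * c = c * w := Subgroup.mem_center_iff.1 hc
        calc x ^ 2 * y = x * (x * y) := by rw [pow_two, mul_assoc]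
          _ = x * c * (y * x) := by rw [e1, mul_assoc]
          _ = c * (x * y) * x := by rw [e2 x]; simp only [mul_assoc]
          _ = c ^ 2 * (y * x ^ 2) := by rw [e1]; simp only [pow_two, mul_assoc]
          _ = y * x ^ 2 := by rw [hc1, one_mul]
      refine habZ (F ⊓ Subgroup.centralizer (F : Set H)) inferInstance (fun a ha b hb => ?_)
        ⟨F.pow_mem hx 2, Subgroup.mem_centralizer_iff.2 fun y hy => (hC y hy).symm⟩
      exact Subgroup.mem_centralizer_iff.1 hb.2 a ha.1
    have hF2 : IsPGroup 2 F := fun x => ⟨2, Subtype.ext (by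
      rw [Subgroup.coe_pow, Subgroup.coe_one, show (2 : ℕ) ^ 2 = 2 * 2 by norm_num, pow_mul]
      exact hZ2 _ (hsq _ x.2))⟩
    haveI : Fact (Nat.Prime 5) := ⟨by norm_num⟩
    haveI : Fact (Nat.Prime 2) := ⟨Nat.prime_two⟩
    obtain ⟨y, hy⟩ := exists_prime_orderOf_dvd_card' (G := H) 5 (by rw [hH]; norm_num)
    have hyZ : y ∉ Z := fun hc => by
      have := hZ2 y hc
      have h5 := orderOf_dvd_of_pow_eq_one this
      rw [hy] at h5
      exact absurd h5 (by norm_num)
    have hmod := modEq_fixed hy F fun l hl => hFn.conj_mem l hl y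
    obtain ⟨i, hi⟩ := hF2.exists_card_eq
    have hFd : Nat.card F ∣ 120 := hH ▸ F.card_subgroup_dvd_card
    have hi3 : i ≤ 3 := by
      rw [hi] at hFd
      by_contra hlt
      have : 2 ^ 4 ∣ 120 := (pow_dvd_pow 2 (by omega)).trans hFd
      norm_num at this
    obtain ⟨j, hj, hjc⟩ := (Nat.dvd_prime_pow Nat.prime_two).1
      (hi ▸ Subgroup.card_dvd_of_le (inf_le_left : F ⊓ Subgroup.centralizer ({y} : Set H) ≤ F))
    rw [hi, hjc] at hmod
    have hij : j = i := by
      interval_cases i <;> interval_cases j <;> first | rfl | exact absurd hmod (by decide)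
    have hle : F ≤ Subgroup.centralizer ({y} : Set H) := by
      have : F ⊓ Subgroup.centralizer ({y} : Set H) = F :=
        Subgroup.eq_of_le_of_card_ge inf_le_left (le_of_eq (by rw [hi, hjc, hij]))
      exact inf_eq_left.1 this
    exact hFab fun a ha b hb => hab y hyZ a (hle ha) b (hle hb)
  have hreg' : ∀ v w : W, v ≠ 0 → w ≠ 0 →
      ∃! h : σ.range, (h : W ≃ₗ[ZMod 11] W) v = w := by
    intro v w hv hw
    obtain ⟨g, hg, hu⟩ := hreg v w hv hw
    refine ⟨⟨σ g, ⟨g, rfl⟩⟩, hg, ?_⟩
    rintro ⟨_, ⟨g', rfl⟩⟩ hg'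
    exact Subtype.ext (congrArg σ (hu g' hg'))
  have hs' : ¬ Group.IsSolvable σ.range := fun h => hns
    (Group.isSolvable_of_isSolvable_injective (f := (MonoidHom.ofInjective hσ).toMonoidHom)
      (MonoidHom.ofInjective hσ).injective)
  rcases Cfsg.Agent.S0689.result σ.range hreg' hs' with ⟨-, ⟨e⟩⟩ | ⟨h, -⟩ | ⟨h, -⟩
  · exact ⟨(MonoidHom.ofInjective hσ).trans e⟩
  · rw [hW] at h; omega
  · rw [hW] at h; omega

/-- The lower bound in dimension two. -/
theorem plane_lower (hρ : Function.Injective ρ)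
    (htrans : ∀ v w : V, v ≠ 0 → w ≠ 0 → ∃ g : G, ρ g v = w) (hG : ¬ p ∣ Nat.card G)
    (hn : Nat.card V = p ^ 2) (hnc : ¬ ∀ a b : G, a * b = b * a) :
    p ≤ Nat.card (ConjClasses G) ∨
      (p = 11 ∧ Nat.card (ConjClasses G) = 9 ∧ Nat.card G = 120 ∧
        (∀ g : G, g ≠ 1 → ∀ w : V, ρ g w = w → w = 0) ∧
        Nonempty (G ≃* Matrix.SpecialLinearGroup (Fin 2) (ZMod 5))) := by
  classical
  have hp : p.Prime := Fact.out
  obtain ⟨v, hv⟩ := exists_ne (0 : V)
  rcases Nat.lt_or_ge p 3 with hp2 | hp3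
  · left
    have : p = 2 := by have := hp.two_le; omega
    subst this
    refine Nat.le_of_not_lt fun hlt => hnc fun a b => ?_
    have h1 : Nat.card (ConjClasses G) ≤ 1 := by omega
    haveI := Finite.card_le_one_iff_subsingleton.1 h1
    have ha : a = 1 := isConj_one_right.1
      (ConjClasses.mk_eq_mk_iff_isConj.1 (Subsingleton.elim (ConjClasses.mk a) (ConjClasses.mk 1))).symm
    rw [ha, one_mul, mul_one]
  have hfr : Module.finrank (ZMod p) V = 2 := by
    have h := Module.natCard_eq_pow_finrank (K := ZMod p) (V := V)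
    rw [hn, Nat.card_zmod] at h
    exact (Nat.pow_right_injective hp.two_le h).symm
  let Lh : G →* Module.End (ZMod p) V :=
    { toFun := fun g => (ρ g).toLinearMap
      map_one' := LinearMap.ext fun w => rho_one_apply ρ w
      map_mul' := fun a b => LinearMap.ext fun w => rho_mul_apply ρ a b w }
  let f : G →* Matrix (Fin 2) (Fin 2) (ZMod p) :=
    (LinearMap.toMatrixAlgEquiv (Module.finBasisOfFinrankEq (ZMod p) V hfr)).toAlgHom.toRingHom.toMonoidHom.comp Lh
  have hf : Function.Injective f := fun a b h => hρ (LinearEquiv.toLinearMap_injective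
    ((LinearMap.toMatrixAlgEquiv (Module.finBasisOfFinrankEq (ZMod p) V hfr)).injective h))
  have hpn : p ≠ 2 := by omega
  have hS := ca_mod_center hnc (plane_hab f hf hnc) (plane_hN f hf hnc hpn hG) (p + 1)
    (plane_hU f hf hnc)
  have hzdvd : Nat.card (Subgroup.center G) ≤ p - 1 := by
    have h : ∀ x : Subgroup.center G, ∃ c : (ZMod p)ˣ, f x = (c : ZMod p) • 1 := by
      intro x
      obtain ⟨c, hc⟩ := isScal_iff.1 ((plane_center_iff f hf hnc).1 x.2)
      have hc0 : c ≠ 0 := by
        rintro rfl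
        have h1 : f ((x : G) * (x : G)⁻¹) = 1 := by rw [mul_inv_cancel, map_one]
        rw [map_mul, hc, zero_smul, zero_mul] at h1
        exact zero_ne_one h1
      exact ⟨Units.mk0 c hc0, hc⟩
    choose co hco using h
    refine (Nat.card_le_card_of_injective co fun a b hab => Subtype.ext (hf ?_)).trans
      (le_of_eq (by rw [Nat.card_units, Nat.card_zmod]))
    rw [hco, hco, hab]
  have hst := card_stab_mul ρ htrans hv
  rw [hn] at hst
  have hcard := Subgroup.card_mul_index (Subgroup.center G)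
  have hzpos : 0 < Nat.card (Subgroup.center G) := Nat.card_pos
  obtain ⟨z, hz⟩ : ∃ z, z = Nat.card (Subgroup.center G) := ⟨_, rfl⟩
  obtain ⟨k, hk⟩ : ∃ k, k = Nat.card (ConjClasses G) := ⟨_, rfl⟩
  obtain ⟨h, hh⟩ : ∃ h, h = Nat.card (stab ρ v) := ⟨_, rfl⟩
  rw [← hz, ← hk] at hS
  rw [← hk]
  rw [← hz] at hzdvd hcard hzpos
  rw [← hh] at hst
  have hhpos : 0 < h := hh ▸ Nat.card_pos
  obtain ⟨r, rfl⟩ := Nat.exists_eq_add_of_le' (show 1 ≤ p by omega)
  rw [Nat.add_sub_cancel] at hzdvd
  have hr2 : (r + 1) ^ 2 - 1 = r * (r + 2) := by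
    rw [show (r + 1) ^ 2 = r * (r + 2) + 1 by ring, Nat.add_sub_cancel]
  rw [hr2] at hst
  have hr2' : 2 ≤ r := by omega
  have hdvd3 : ∀ i, (Subgroup.center G).index = i → ∀ d, d ∣ i → r + 1 ≠ d := by
    rintro i hi d hd rfl
    exact hG (hd.trans (hi ▸ Subgroup.index_dvd_card _))
  have hfree : h = 1 → ∀ g : G, g ≠ 1 → ∀ w : V, ρ g w = w → w = 0 := by
    intro h1 g hg w hw
    by_contra hw0
    obtain ⟨x, rfl⟩ := htrans v w hv hw0
    have hmem : x⁻¹ * g * x ∈ stab ρ v := by
      rw [mem_stab, rho_mul_apply, rho_mul_apply, hw, rho_inv_apply_apply]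
    have hbot : stab ρ v = ⊥ := Subgroup.card_eq_one.1 (hh.symm.trans h1)
    rw [hbot, Subgroup.mem_bot] at hmem
    apply hg
    calc g = x * (x⁻¹ * g * x) * x⁻¹ := by group
      _ = 1 := by rw [hmem]; group
  have hzeven : h = 1 → 2 ∣ Nat.card G → 2 ≤ z := by
    intro h1 hev
    obtain ⟨u, hu, hu2⟩ := exists_neg ρ hρ hev (hfree h1)
    have hd : orderOf (⟨u, hu⟩ : Subgroup.center G) ∣ Nat.card (Subgroup.center G) :=
      orderOf_dvd_natCard _
    rw [Subgroup.orderOf_mk, hu2, ← hz] at hd
    exact Nat.le_of_dvd hzpos hd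
  rcases hS with ⟨c, -, hi, hk2⟩ | ⟨hi, hk2⟩ | ⟨hi, hk2⟩ | ⟨hi, hk2⟩ <;> rw [hi] at hcard
  · left
    have hG2 : 2 * (z * c) = r * (r + 2) * h := by linarith [hst, hcard]
    have h1 : r * (r + 2) ≤ r * (r + 2) * h := Nat.le_mul_of_pos_right _ hhpos
    nlinarith [hk2, hG2, h1, hzpos, Nat.zero_le (r * r)]
  · left
    have hG2 : z * 12 = r * (r + 2) * h := by linarith [hst, hcard]
    have h1 : r * (r + 2) ≤ r * (r + 2) * h := Nat.le_mul_of_pos_right _ hhpos
    rcases Nat.lt_or_ge r 4 with hr | hr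
    · have h3 := hdvd3 12 hi 3 (by norm_num)
      have h4 := hdvd3 12 hi 4 (by norm_num)
      omega
    · nlinarith [hk2, hG2, h1]
  · left
    have hG2 : z * 24 = r * (r + 2) * h := by linarith [hst, hcard]
    have h1 : r * (r + 2) ≤ r * (r + 2) * h := Nat.le_mul_of_pos_right _ hhpos
    rcases Nat.lt_or_ge r 6 with hr | hr
    · interval_cases r
      · exact absurd rfl (hdvd3 24 hi 3 (by norm_num))
      · exact absurd hp (by norm_num)
      · rcases eq_or_ne h 1 with hh1 | hh1
        · have := hzeven hh1 (by rw [← hcard]; exact dvd_mul_of_dvd_right (by norm_num) z)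
          omega
        · omega
      · exact absurd hp (by norm_num)
    · nlinarith [hk2, hG2, h1]
  · have hG2 : z * 60 = r * (r + 2) * h := by linarith [hst, hcard]
    have h1 : r * (r + 2) ≤ r * (r + 2) * h := Nat.le_mul_of_pos_right _ hhpos
    rcases Nat.lt_or_ge r 13 with hr | hr
    · have hd : ∀ d, d ∣ 60 → r + 1 ≠ d := fun d => hdvd3 60 hi d
      interval_cases r
      · exact absurd rfl (hd 3 (by norm_num))
      · exact absurd hp (by norm_num)
      · exact absurd rfl (hd 5 (by norm_num))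
      · exact absurd hp (by norm_num)
      · left; omega
      · exact absurd hp (by norm_num)
      · exact absurd hp (by norm_num)
      · exact absurd hp (by norm_num)
      · -- `p = 11`
        rcases eq_or_ne h 1 with hh1 | hh1
        · right
          subst hh1
          have hz2 : z = 2 := by omega
          subst hz2
          have hG120 : Nat.card G = 120 := by omega
          refine ⟨rfl, by omega, hG120, hfree rfl, ?_⟩
          haveI : Fact (Nat.Prime 11) := ‹_›
          refine sl25_of_regular ρ hρ (by rw [hn]; norm_num) ?_ hG120 hz.symm hnc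
            (plane_hab f hf hnc) (plane_hN f hf hnc hpn hG) (plane_hU f hf hnc)
          intro a b ha hb
          obtain ⟨g, hg⟩ := htrans a b ha hb
          refine ⟨g, hg, fun g' hg' => ?_⟩
          by_contra hne
          refine ha (hfree rfl (g⁻¹ * g') (fun h => hne (inv_mul_eq_one.1 h).symm) a ?_)
          rw [rho_mul_apply, hg', ← hg, rho_inv_apply_apply]
        · left; omega
      · exact absurd hp (by norm_num)
      · left; omega
    · left
      nlinarith [hk2, hG2, h1]

/-- The lower bound. -/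
theorem class_lower (hρ : Function.Injective ρ)
    (htrans : ∀ v w : V, v ≠ 0 → w ≠ 0 → ∃ g : G, ρ g v = w) (hG : ¬ p ∣ Nat.card G) :
    p ≤ Nat.card (ConjClasses G) ∨
      (Nat.card V = p ∧ (∀ a b : G, a * b = b * a) ∧ Nat.card G = p - 1 ∧
        Nat.card (ConjClasses G) = p - 1) ∨
      (p = 11 ∧ Nat.card V = 121 ∧ Nat.card (ConjClasses G) = 9 ∧ Nat.card G = 120 ∧
        (∀ g : G, g ≠ 1 → ∀ w : V, ρ g w = w → w = 0) ∧
        Nonempty (G ≃* Matrix.SpecialLinearGroup (Fin 2) (ZMod 5))) := by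
  classical
  have hp : p.Prime := Fact.out
  have hVp : IsPGroup p (Multiplicative V) := fun x => ⟨1, by
    rw [pow_one]
    apply Multiplicative.toAdd.injective
    rw [toAdd_pow, toAdd_one, ← Nat.cast_smul_eq_nsmul (ZMod p), ZMod.natCast_self, zero_smul]⟩
  obtain ⟨n, hn'⟩ := hVp.exists_card_eq
  have hn : Nat.card V = p ^ n := hn'
  have hV : 1 < Nat.card V := Finite.one_lt_card
  obtain ⟨v, hv⟩ := exists_ne (0 : V)
  have hst := card_stab_mul ρ htrans hv
  have hcomm : (∀ a b : G, a * b = b * a) → Nat.card (ConjClasses G) = Nat.card G := fun hc =>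
    (Nat.card_eq_of_bijective ConjClasses.mk ⟨fun a b h => by
      obtain ⟨g, hg⟩ := isConj_iff.1 (ConjClasses.mk_eq_mk_iff_isConj.1 h)
      rw [← hg, hc g, mul_inv_cancel_right], ConjClasses.mk_surjective⟩).symm
  rcases Nat.lt_or_ge n 2 with hn1 | hn2
  · obtain rfl : n = 1 := by
      by_contra hne
      obtain rfl : n = 0 := by omega
      rw [hn, pow_zero] at hV
      omega
    rw [pow_one] at hn
    obtain ⟨hc, hG1⟩ := card_of_line ρ hρ htrans hn
    exact Or.inr (Or.inl ⟨hn, hc, hG1, (hcomm hc).trans hG1⟩)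
  have hpn : p + 1 ≤ Nat.card V := by
    rw [hn]
    have h1 : p ^ 2 ≤ p ^ n := Nat.pow_le_pow_right hp.pos hn2
    have h2 : 2 * p ≤ p ^ 2 := by rw [pow_two]; exact Nat.mul_le_mul_right p hp.two_le
    have := hp.two_le
    omega
  have hGV : Nat.card V - 1 ≤ Nat.card G := by
    rw [hst]
    exact Nat.le_mul_of_pos_right _ Nat.card_pos
  by_cases hc : ∀ a b : G, a * b = b * a
  · left
    rw [hcomm hc]
    omega
  rcases eq_or_lt_of_le hn2 with rfl | hn3
  · rcases plane_lower ρ hρ htrans hG hn hc with h | ⟨h1, h2, h3, h4, h5⟩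
    · exact Or.inl h
    · exact Or.inr (Or.inr ⟨h1, by rw [hn, h1]; norm_num, h2, h3, h4, h5⟩)
  left
  have hk3 : 3 ≤ Nat.card (ConjClasses G) := by
    by_contra hlt
    apply hc
    -- at most two classes: the centraliser of any element is everything
    intro a b
    haveI := Fintype.ofFinite G
    haveI := Fintype.ofFinite (ConjClasses G)
    rcases eq_or_ne a 1 with rfl | ha
    · rw [one_mul, mul_one]
    have hall : ∀ g : G, g ≠ 1 → IsConj a g := by
      intro g hg
      rw [← ConjClasses.mk_eq_mk_iff_isConj]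
      by_contra hne
      have h3 : ({ConjClasses.mk 1, ConjClasses.mk a, ConjClasses.mk g} : Finset _).card = 3 := by
        refine Finset.card_eq_three.2 ⟨_, _, _, ?_, ?_, hne, rfl⟩ <;> intro h
        · exact ha (isConj_one_right.1 (ConjClasses.mk_eq_mk_iff_isConj.1 h))
        · exact hg (isConj_one_right.1 (ConjClasses.mk_eq_mk_iff_isConj.1 h))
      have := Finset.card_le_univ ({ConjClasses.mk 1, ConjClasses.mk a, ConjClasses.mk g} : Finset _)
      rw [h3, ← Nat.card_eq_fintype_card] at this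
      omega
    haveI : Nontrivial G := ⟨a, 1, ha⟩
    obtain ⟨q, hq, hqd⟩ := Nat.exists_prime_and_dvd (show Nat.card G ≠ 1 by
      have : 1 < Nat.card G := Finite.one_lt_card
      omega)
    haveI := Fact.mk hq
    obtain ⟨x, hx⟩ := exists_prime_orderOf_dvd_card' (G := G) q hqd
    have hx1 : x ≠ 1 := fun h => by rw [h, orderOf_one] at hx; exact hq.one_lt.ne hx
    have hord : ∀ g : G, g ^ q = 1 := by
      intro g
      rcases eq_or_ne g 1 with rfl | hg
      · exact one_pow q
      · obtain ⟨u, hu⟩ := isConj_iff.1 ((hall x hx1).symm.trans (hall g hg))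
        rw [← hu, conj_pow, ← hx, pow_orderOf_eq_one, mul_one, mul_inv_cancel]
    have hQ : IsPGroup q G := fun g => ⟨1, by rw [pow_one]; exact hord g⟩
    haveI := hQ.center_nontrivial
    obtain ⟨c, hc1⟩ := exists_ne (1 : Subgroup.center G)
    have hc1' : (c : G) ≠ 1 := fun h => hc1 (Subtype.ext h)
    obtain ⟨u, hu⟩ := isConj_iff.1 (hall (c : G) hc1').symm
    rw [Subgroup.mem_center_iff.1 c.2 u, mul_inv_cancel_right] at hu
    rw [← hu]
    exact (Subgroup.mem_center_iff.1 c.2 b).symm
  rcases Nat.lt_or_ge p 5 with hp5 | hp5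
  · have : p ≠ 4 := fun h => absurd (h ▸ hp) (by norm_num)
    omega
  have hsol := solvable_of_transitive ρ hρ htrans hG hn hn3
  by_cases hsl : Spectrum.Huppert.IsSemilinear ρ
  · obtain ⟨A, hA, hAn⟩ := exists_abelian_index_le ρ hρ hn (by omega) hsl
    have h1 := card_le_conjClasses_mul A hA
    have h2 := A.card_mul_index
    by_contra hlt
    have h3 : Nat.card G ≤ p * n * n := by
      rw [← h2]
      refine Nat.mul_le_mul (h1.trans (Nat.mul_le_mul (by omega) hAn)) hAn
    have h4 : ∀ m, 3 ≤ m → p * m * m + 1 < p ^ m := by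
      intro m hm
      induction m, hm using Nat.le_induction with
      | base =>
        have : 5 * 5 ≤ p * p := Nat.mul_le_mul hp5 hp5
        nlinarith [this]
      | succ m hm ih =>
        have h5 : 5 * p ^ m ≤ p ^ (m + 1) := by
          rw [pow_succ']; exact Nat.mul_le_mul_right _ hp5
        nlinarith [ih, h5, Nat.mul_le_mul_left p (Nat.mul_le_mul_right m hm)]
    have h5 := h4 n hn3
    rw [hn] at hGV
    omega
  · exfalso
    have hmem := (Cfsg.Agent.S3360.result p hsol ρ hρ htrans).resolve_left hsl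
    have hcube : p ^ 3 ≤ p ^ n := Nat.pow_le_pow_right hp.pos hn3
    have h125 : 5 ^ 3 ≤ p ^ 3 := Nat.pow_le_pow_left hp5 3
    rw [hn] at hmem
    rcases hmem with h | h | h | h | h | h
    all_goals first
      | omega
      | (have hpd : p ∣ p ^ n := dvd_pow_self p (by omega)
         rw [h] at hpd hcube
         have hlt : p < 9 := by
           by_contra hcon
           have := Nat.pow_le_pow_left (not_lt.1 hcon) 3
           omega
         interval_cases p <;> omega)

end Cfsg.Agent.Lib.KGV46
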