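import Cfsg.Agent.Lib.BrauerChar.Block

/-!
# A linear group of order prime to the characteristic has a faithful complex character

The Brauer character of a faithful representation over a finite field of characteristic `p` of a
group of order prime to `p` is a faithful character of the same degree.
-/

set_option autoImplicit false
set_option linter.unusedSectionVars false
set_option linter.style.haveILetI false

namespace Cfsg.Agent.Lib.KGV46

open Cfsg.Agent.Lib

universe u

attribute [local instance] Ideal.Quotient.field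

theorem isCharacter_multiset_sum {G : Type u} [Group G] [Finite G] (s : Multiset (G → ℂ))
    (h : ∀ f ∈ s, Cfsg.IsCharacter G f) : Cfsg.IsCharacter G s.sum := by
  induction s using Multiset.induction_on with
  | empty => rw [Multiset.sum_zero]; exact Characters.Basic.isCharacter_zero
  | cons a s ih =>
    rw [Multiset.sum_cons]
    exact Characters.Basic.isCharacter_add (h a (Multiset.mem_cons_self a s))
      (ih fun f hf => h f (Multiset.mem_cons_of_mem hf))

/-- Unit complex numbers summing to their number are all one. -/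
theorem eq_one_of_sum_eq_card (s : Multiset ℂ) (h1 : ∀ z ∈ s, ‖z‖ = 1)
    (h2 : s.sum = (s.card : ℂ)) : ∀ z ∈ s, z = 1 := by
  have hle : ∀ z ∈ s, z.re ≤ 1 := fun z hz => h1 z hz ▸ Complex.re_le_norm z
  have hre : (s.map Complex.re).sum = (s.card : ℝ) := by
    have := congrArg Complex.re h2
    rw [Complex.natCast_re] at this
    rw [← this]
    exact (map_multiset_sum Complex.reAddGroupHom s).symm
  intro z hz
  obtain ⟨t, rfl⟩ := Multiset.exists_cons_of_mem hz
  have ht : (t.map Complex.re).sum ≤ (t.card : ℝ) := by
    have := Multiset.sum_le_card_nsmul (t.map Complex.re) (1 : ℝ) fun x hx => by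
      obtain ⟨y, hy, rfl⟩ := Multiset.mem_map.1 hx
      exact hle y (Multiset.mem_cons_of_mem hy)
    simpa using this
  rw [Multiset.map_cons, Multiset.sum_cons, Multiset.card_cons] at hre
  push_cast at hre
  have hz1 : z.re = 1 := le_antisymm (hle z hz) (by linarith)
  have him : z.im = 0 := by
    have hsq : z.re * z.re + z.im * z.im = 1 := by
      rw [← Complex.normSq_apply, Complex.normSq_eq_norm_sq, h1 z hz, one_pow]
    rw [hz1] at hsq
    exact mul_self_eq_zero.1 (by linarith)
  exact Complex.ext (by rw [hz1, Complex.one_re]) (by rw [him, Complex.one_im])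

variable {p : ℕ} [Fact p.Prime]

set_option synthInstance.maxHeartbeats 200000 in
/-- A faithful representation of a group of order prime to `p` over a finite field of
characteristic `p` gives a faithful character of the same degree. -/
theorem exists_faithful_char {G : Type u} [Group G] [Finite G] {F : Type*} [Field F] [Finite F]
    [CharP F p] {d : ℕ} (f : G →* Matrix (Fin d) (Fin d) F) (hf : Function.Injective f)
    (hG : ¬ p ∣ Nat.card G) :
    ∃ χ : G → ℂ, Cfsg.IsCharacter G χ ∧ (∀ g, χ g = χ 1 → g = 1) ∧ Cfsg.charDegree χ = d := by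
  classical
  obtain ⟨M, hM⟩ := Blocks.exists_isPModular p Fact.out
  haveI := hM.2.1
  haveI := Blocks.isAlgClosed_residueField (M := M)
  haveI : CharP (BrauerChar.Rk M) p := Blocks.charP_residue hM
  letI : Algebra (ZMod p) F := ZMod.algebra F p
  letI : Algebra (ZMod p) (BrauerChar.Rk M) := ZMod.algebra _ p
  haveI : Algebra.IsAlgebraic (ZMod p) F := Algebra.IsAlgebraic.of_finite _ _
  let ι : F →+* BrauerChar.Rk M := (IsAlgClosed.lift : F →ₐ[ZMod p] BrauerChar.Rk M).toRingHom
  let A : G →* Matrix (Fin d) (Fin d) (BrauerChar.Rk M) := ι.mapMatrix.toMonoidHom.comp f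
  have hA : Function.Injective A := fun a b h => hf (Matrix.map_injective ι.injective h)
  obtain ⟨s, hs, -⟩ := BrauerChar.decompose hM A
  have hreg : ∀ g : G, ¬ p ∣ orderOf g := fun g h => hG (h.trans (orderOf_dvd_natCard g))
  refine ⟨BrauerChar.bchar p A, ?_, fun g hg => ?_, ?_⟩
  · rw [hs]
    refine isCharacter_multiset_sum _ fun e he => ?_
    obtain ⟨e', -, rfl⟩ := Multiset.mem_map.1 he
    exact BrauerChar.isCharacter_of_coprime hM hG e'
  · rw [BrauerChar.bchar_one hM, Fintype.card_fin, BrauerChar.bchar_regular A (hreg g)] at hg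
    have hunit : IsUnit (A g) := (Group.isUnit g).map A
    have hsp : (A g).charpoly.Splits := IsAlgClosed.splits _
    have hcard : (A g).charpoly.roots.card = d := by
      rw [← hsp.natDegree_eq_card_roots, Matrix.charpoly_natDegree_eq_dim, Fintype.card_fin]
    have hne0 : ∀ x ∈ (A g).charpoly.roots, x ≠ 0 := by
      intro x hx h0
      subst h0
      have hdet : IsUnit (A g).det := (Matrix.isUnit_iff_isUnit_det _).1 hunit
      refine hdet.ne_zero ?_
      rw [Matrix.det_eq_sign_charpoly_coeff, Polynomial.coeff_zero_eq_eval_zero,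
        Polynomial.IsRoot.def.1 (Polynomial.isRoot_of_mem_roots hx), mul_zero]
    set r := ((A g).charpoly.roots.map (BrauerChar.teichA M p)).map
      (fun a : Cfsg.AlgInt => (a : ℂ)) with hr
    have hsum : r.sum = (r.card : ℂ) := by
      rw [hr, Multiset.card_map, Multiset.card_map, hcard, ← hg]
      exact (map_multiset_sum Cfsg.AlgInt.val _).symm
    have hnorm : ∀ z ∈ r, ‖z‖ = 1 := by
      intro z hz
      obtain ⟨a, ha, rfl⟩ := Multiset.mem_map.1 hz
      obtain ⟨x, hx, rfl⟩ := Multiset.mem_map.1 ha
      have hmk := BrauerChar.mk_teichA hM x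
      unfold BrauerChar.teichA at hmk ⊢
      split_ifs at hmk ⊢ with hex
      · obtain ⟨⟨m, hm, hε⟩, -⟩ := hex.choose_spec
        exact Complex.norm_eq_one_of_pow_eq_one hε fun h => hm (h ▸ dvd_zero p)
      · exact absurd (hmk.symm.trans (map_zero _)) (hne0 x hx)
    have hall := eq_one_of_sum_eq_card r hnorm hsum
    have hroots : ∀ x ∈ (A g).charpoly.roots, x = 1 := by
      intro x hx
      have h1 := hall _ (Multiset.mem_map_of_mem (fun a : Cfsg.AlgInt => (a : ℂ))
        (Multiset.mem_map_of_mem (BrauerChar.teichA M p) hx))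
      have h2 : BrauerChar.teichA M p x = 1 := Subtype.ext h1
      rw [← BrauerChar.mk_teichA hM x, h2, map_one]
    have hpoly : (A g).charpoly = (Polynomial.X - 1) ^ d := by
      rw [hsp.eq_prod_roots_of_monic (Matrix.charpoly_monic _),
        Multiset.eq_replicate.2 ⟨hcard, hroots⟩, Multiset.map_replicate, Multiset.prod_replicate,
        map_one]
    have hnil : (A g - 1) ^ d = 0 := by
      have := Matrix.aeval_self_charpoly (A g)
      rw [hpoly] at this
      simpa using this
    rcases Nat.eq_zero_or_pos d with rfl | hd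
    · exact hA (Subsingleton.elim _ _)
    haveI : Nonempty (Fin d) := ⟨⟨0, hd⟩⟩
    haveI : CharP (Matrix (Fin d) (Fin d) (BrauerChar.Rk M)) p := inferInstance
    obtain ⟨a, ha⟩ : ∃ a, d ≤ p ^ a := ⟨d, (Nat.lt_pow_self (Fact.out : p.Prime).one_lt).le⟩
    have hpow : g ^ p ^ a = 1 := by
      apply hA
      rw [map_pow, map_one, ← sub_eq_zero]
      have h := sub_pow_char_pow_of_commute (p := p) (n := a) (Commute.one_right (A g))
      rw [one_pow] at h
      rw [← h, ← Nat.sub_add_cancel ha, pow_add, hnil, mul_zero]
    obtain ⟨k, -, hk⟩ := (Nat.dvd_prime_pow Fact.out).1 (orderOf_dvd_of_pow_eq_one hpow)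
    rcases Nat.eq_zero_or_pos k with rfl | hk0
    · exact orderOf_eq_one_iff.1 (by simpa using hk)
    · exact absurd (hk ▸ dvd_pow_self p hk0.ne') (hreg g)
  · rw [Cfsg.charDegree, BrauerChar.bchar_one hM, Fintype.card_fin, Complex.natCast_re,
      Nat.floor_natCast]

end Cfsg.Agent.Lib.KGV46
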