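import Cfsg.Agent.Lib.Spectrum.HuppertField
import Cfsg.Agent.Lib.KGV46.Count
import Cfsg.Agent.Lib.KGV46.Lift

/-!
# Fields inside a linear group transitive on nonzero vectors

An element of prime order `r`, `r` a primitive divisor of `p ^ n - 1`, has an abelian centraliser;
an abelian normal subgroup of a transitive group is cyclic inside a field over which its
centraliser is linear.
-/

set_option autoImplicit false
set_option linter.unusedSectionVars false
set_option linter.style.haveILetI false

namespace Cfsg.Agent.Lib.KGV46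

open Cfsg.Agent.Lib.Spectrum.Huppert

universe u

variable {p : ℕ} [Fact p.Prime]
variable {V : Type*} [AddCommGroup V] [Module (ZMod p) V] [Finite V]
variable {G : Type u} [Group G] [Finite G] (ρ : G →* (V ≃ₗ[ZMod p] V))

/-- The subspaces invariant under an element of order a primitive prime are trivial. -/
theorem invariant_eq_bot_or_top (hρ : Function.Injective ρ) {n r : ℕ} (hn : Nat.card V = p ^ n)
    (hr : r.Prime) (hrp : r ≠ p) (hppd : ∀ i, 1 ≤ i → i < n → ¬ r ∣ p ^ i - 1) {x : G}
    (hx : orderOf x = r) (W : Submodule (ZMod p) V) (hW : ∀ w ∈ W, ρ x w ∈ W) :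
    W = ⊥ ∨ W = ⊤ := by
  classical
  haveI := Fact.mk hr
  have hp : p.Prime := Fact.out
  -- the vectors fixed by `x`
  let Fx : Submodule (ZMod p) V := LinearMap.ker ((ρ x).toLinearMap - LinearMap.id)
  have hFx : ∀ v, v ∈ Fx ↔ ρ x v = v := fun v => by
    simp [Fx, sub_eq_zero]
  have key : ∀ W : Submodule (ZMod p) V, (∀ w ∈ W, ρ x w ∈ W) →
      ∃ j f : ℕ, j ≤ n ∧ Nat.card W = p ^ j ∧ Nat.card ↥(W ⊓ Fx) = p ^ f ∧ f ≤ j ∧
        (j = f ∨ f = 0 ∧ j = n) := by
    intro W hW
    obtain ⟨j, hj, hjc⟩ := (Nat.dvd_prime_pow hp).1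
      (hn ▸ (W.toAddSubgroup).card_addSubgroup_dvd_card)
    obtain ⟨f, hf, hfc⟩ := (Nat.dvd_prime_pow hp).1
      (hn ▸ ((W ⊓ Fx).toAddSubgroup).card_addSubgroup_dvd_card)
    have hfj : f ≤ j := by
      refine (Nat.pow_le_pow_iff_right hp.one_lt).1 ?_
      rw [← hjc, ← hfc]
      exact Nat.card_mono (Set.toFinite _) inf_le_left
    refine ⟨j, f, hj, hjc, hfc, hfj, ?_⟩
    have hpow : ∀ k : ℕ, ∀ w ∈ W, ρ (x ^ k) w ∈ W := by
      intro k
      induction k with
      | zero => intro w hw; rw [pow_zero, rho_one_apply]; exact hw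
      | succ k ih => intro w hw; rw [pow_succ', rho_mul_apply]; exact hW _ (ih w hw)
    have hmem : ∀ a : Subgroup.zpowers x, ∀ w ∈ W, ρ (a : G) w ∈ W := by
      rintro ⟨a, ha⟩ w hw
      obtain ⟨k, rfl⟩ := (mem_powers_iff_mem_zpowers.2 ha)
      exact hpow k w hw
    letI : MulAction (Subgroup.zpowers x) W :=
      { smul := fun a w => ⟨ρ (a : G) w, hmem a w w.2⟩
        one_smul := fun w => Subtype.ext (rho_one_apply ρ (w : V))
        mul_smul := fun a b w => Subtype.ext (rho_mul_apply ρ (a : G) b (w : V)) }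
    have hP : IsPGroup r (Subgroup.zpowers x) :=
      IsPGroup.of_card (n := 1) (by rw [Nat.card_zpowers, hx, pow_one])
    have hmod := hP.card_modEq_card_fixedPoints W
    have hfix : Nat.card (MulAction.fixedPoints (Subgroup.zpowers x) W) = Nat.card ↥(W ⊓ Fx) := by
      refine Nat.card_congr
        { toFun := fun w => ⟨(w.1 : V), w.1.2, (hFx _).2 (congrArg Subtype.val
            (w.2 ⟨x, Subgroup.mem_zpowers x⟩))⟩
          invFun := fun w => ⟨⟨(w : V), w.2.1⟩, ?_⟩
          left_inv := fun _ => rfl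
          right_inv := fun _ => rfl }
      intro a
      refine Subtype.ext ?_
      show ρ (a : G) w = w
      obtain ⟨k, hk⟩ := mem_powers_iff_mem_zpowers.2 a.2
      have : x ∈ stab ρ (w : V) := (hFx _).1 w.2.2
      exact (stab ρ (w : V)).pow_mem this k |> fun h => hk ▸ h
    rw [hfix, show Nat.card W = p ^ j from hjc, show Nat.card ↥(W ⊓ Fx) = p ^ f from hfc] at hmod
    rcases eq_or_lt_of_le hfj with h | h
    · exact Or.inl h.symm
    have h2 : r ∣ p ^ j - p ^ f := (Nat.modEq_iff_dvd' (Nat.pow_le_pow_right hp.pos hfj)).1 hmod.symm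
    rw [show p ^ j - p ^ f = p ^ f * (p ^ (j - f) - 1) by
      rw [Nat.mul_sub_one, ← pow_add, Nat.add_sub_cancel' hfj]] at h2
    rcases hr.dvd_mul.1 h2 with h3 | h3
    · exact absurd ((Nat.prime_dvd_prime_iff_eq hr hp).1 (hr.dvd_of_dvd_pow h3)) hrp
    · have : ¬ (j - f < n) := fun hlt => hppd (j - f) (by omega) hlt h3
      exact Or.inr ⟨by omega, by omega⟩
  have hfix0 : ∀ v, ρ x v = v → v = 0 := by
    obtain ⟨j, f, -, hjc, hfc, -, hcase⟩ := key ⊤ fun w _ => trivial
    have hjn : j = n := Nat.pow_right_injective hp.two_le (hjc.symm.trans (by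
      show Nat.card (⊤ : Submodule (ZMod p) V) = p ^ n
      rw [Nat.card_congr Submodule.topEquiv.toEquiv, hn]))
    rw [top_inf_eq] at hfc
    rcases hcase with h | h
    · exfalso
      have hall : ∀ v, v ∈ Fx := by
        have : Fx.toAddSubgroup = ⊤ := AddSubgroup.eq_top_of_card_eq _ (by
          show Nat.card Fx = Nat.card V
          rw [hfc, hn, ← h, hjn])
        intro v
        have hv : v ∈ Fx.toAddSubgroup := this ▸ AddSubgroup.mem_top v
        exact hv
      have : x = 1 := hρ (LinearEquiv.ext fun v => by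
        rw [(hFx v).1 (hall v), rho_one_apply])
      rw [this, orderOf_one] at hx
      exact hr.ne_one hx.symm
    · intro v hv
      rw [h.1, pow_zero] at hfc
      have : Fx = ⊥ := by
        rw [← Submodule.toAddSubgroup_inj]
        exact AddSubgroup.eq_bot_of_card_eq _ hfc
      exact (Submodule.mem_bot (ZMod p)).1 (this ▸ (hFx v).2 hv)
  obtain ⟨j, f, -, hjc, hfc, -, hcase⟩ := key W hW
  have hWF : W ⊓ Fx = ⊥ := by
    rw [eq_bot_iff]
    exact fun w hw => (Submodule.mem_bot _).2 (hfix0 w ((hFx w).1 hw.2))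
  rw [hWF, Nat.card_unique] at hfc
  have hf0 : f = 0 := by
    rcases Nat.pow_eq_one.1 hfc.symm with h | h
    · exact absurd h hp.ne_one
    · exact h
  rcases hcase with h | h
  · left
    rw [← Submodule.toAddSubgroup_inj]
    exact AddSubgroup.eq_bot_of_card_eq _ (hjc.trans (by rw [h, hf0, pow_zero]))
  · right
    rw [← Submodule.toAddSubgroup_inj]
    exact AddSubgroup.eq_top_of_card_eq _ (hjc.trans (by rw [h.2, hn]))

/-- The centraliser of an element of order a primitive prime is abelian. -/
theorem centralizer_comm (hρ : Function.Injective ρ) [Nontrivial V] {n r : ℕ}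
    (hn : Nat.card V = p ^ n) (hr : r.Prime) (hrp : r ≠ p)
    (hppd : ∀ i, 1 ≤ i → i < n → ¬ r ∣ p ^ i - 1) {x : G} (hx : orderOf x = r) {a b : G}
    (ha : a ∈ Subgroup.centralizer ({x} : Set G)) (hb : b ∈ Subgroup.centralizer ({x} : Set G)) :
    a * b = b * a := by
  classical
  haveI : Finite (Module.End (ZMod p) V) :=
    Finite.of_injective (fun f => (f : V → V)) DFunLike.coe_injective
  let D : Subring (Module.End (ZMod p) V) := Subring.centralizer {endo ρ x}
  haveI : Nontrivial D := by
    obtain ⟨v, hv⟩ := exists_ne (0 : V)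
    exact ⟨0, 1, fun h => hv (by
      have := congrArg (fun r : D => (r : Module.End (ZMod p) V) v) h
      simpa using this.symm)⟩
  have hinj : ∀ s : D, s ≠ 0 → ∀ v, (s : Module.End (ZMod p) V) v = 0 → v = 0 := by
    intro s hs v hv
    rcases invariant_eq_bot_or_top ρ hρ hn hr hrp hppd hx
      (LinearMap.ker (s : Module.End (ZMod p) V)) (fun w hw => by
        rw [LinearMap.mem_ker] at hw ⊢
        have h := Subring.mem_centralizer_iff.1 s.2 _ rfl
        have h' := LinearMap.congr_fun h w
        simp only [Module.End.mul_apply, endo_apply, hw, map_zero] at h'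
        exact h'.symm) with h | h
    · exact (Submodule.mem_bot (ZMod p)).1 (h ▸ LinearMap.mem_ker.2 hv)
    · exact absurd (Subtype.ext (LinearMap.ker_eq_top.1 h)) hs
  haveI : NoZeroDivisors D := ⟨fun {s t} hst => by
    by_contra hne
    obtain ⟨hs, ht⟩ := not_or.1 hne
    exact ht (Subtype.ext (LinearMap.ext fun v =>
      hinj s hs _ (LinearMap.congr_fun (congrArg Subtype.val hst) v)))⟩
  haveI : IsDomain D := NoZeroDivisors.to_isDomain D
  have hcomm := (Finite.isDomain_to_isField D).mul_comm
  have hm : ∀ c ∈ Subgroup.centralizer ({x} : Set G), endo ρ c ∈ D := fun c hc => by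
    refine Subring.mem_centralizer_iff.2 fun s hs => ?_
    rw [Set.mem_singleton_iff.1 hs, ← map_mul, ← map_mul,
      Subgroup.mem_centralizer_singleton_iff.1 hc]
  apply endo_injective ρ hρ
  rw [map_mul, map_mul]
  exact congrArg Subtype.val (hcomm ⟨_, hm a ha⟩ ⟨_, hm b hb⟩)

variable [Nontrivial V]

/-- An abelian normal subgroup of a transitive group is cyclic, inside the units of a field over
which its centraliser is linear. -/
theorem exists_field (hρ : Function.Injective ρ)
    (htrans : ∀ v w : V, v ≠ 0 → w ≠ 0 → ∃ g : G, ρ g v = w) (hG : ¬ p ∣ Nat.card G)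
    (A : Subgroup G) (hA : A.Normal) (hAc : ∀ a ∈ A, ∀ b ∈ A, a * b = b * a) :
    IsCyclic A ∧ ∃ m d : ℕ, 0 < m ∧ 0 < d ∧ Nat.card V = (p ^ m) ^ d ∧
      Nat.card A ∣ p ^ m - 1 ∧
      ∃ χ : Subgroup.centralizer (A : Set G) → ℂ,
        Cfsg.IsCharacter (Subgroup.centralizer (A : Set G)) χ ∧
        (∀ g, χ g = χ 1 → g = 1) ∧ Cfsg.charDegree χ = d := by
  classical
  haveI : Finite (Module.End (ZMod p) V) :=
    Finite.of_injective (fun f => (f : V → V)) DFunLike.coe_injective
  set R := spanRing ρ A with hRdef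
  obtain ⟨v₀, hv₀⟩ := exists_ne (0 : V)
  letI : CommRing R :=
    { (inferInstance : Ring R) with
      mul_comm := fun a b => Subtype.ext (spanRing_comm ρ hAc a.2 b.2).eq }
  haveI : Nontrivial R := ⟨0, 1, fun h => hv₀ (by
    have := congrArg (fun r : R => (r : Module.End (ZMod p) V) v₀) h
    simpa using this.symm)⟩
  haveI : NoZeroDivisors R := ⟨fun {a b} hab => by
    by_contra hne
    obtain ⟨ha, hb⟩ := not_or.1 hne
    obtain ⟨v, hv⟩ : ∃ v, (b : Module.End (ZMod p) V) v ≠ 0 := by
      by_contra hall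
      push Not at hall
      exact hb (Subtype.ext (LinearMap.ext hall))
    exact ha (Subtype.ext (eq_zero_of_apply_eq_zero ρ htrans hA hAc a.2 hv
      (LinearMap.congr_fun (congrArg Subtype.val hab) v)))⟩
  haveI : IsDomain R := NoZeroDivisors.to_isDomain R
  letI : Field R := (Finite.isField_of_domain R).toField
  haveI : CharP R p := by
    refine (CharP.charP_iff_prime_eq_zero Fact.out).2 ?_
    apply Subtype.ext
    push_cast
    ext v
    show (p : Module.End (ZMod p) V) v = 0
    rw [Module.End.natCast_apply, ← Nat.cast_smul_eq_nsmul (ZMod p), ZMod.natCast_self, zero_smul]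
  letI : Algebra (ZMod p) R := ZMod.algebra R p
  set m := Module.finrank (ZMod p) R with hm
  set d := Module.finrank R V with hd
  have hQ : Nat.card R = p ^ m := by
    rw [Module.natCard_eq_pow_finrank (K := ZMod p), Nat.card_zmod]
  let ψ₀ : A →* R :=
    { toFun := fun a => ⟨endo ρ (a : G), endo_mem_spanRing ρ a.2⟩
      map_one' := Subtype.ext (by simp)
      map_mul' := fun a b => Subtype.ext (by simp) }
  let ψ : A →* Rˣ := ψ₀.toHomUnits
  have hψ : Function.Injective ψ := fun a b h =>
    Subtype.ext (endo_injective ρ hρ (congrArg (fun u : Rˣ => ((u : R) : Module.End (ZMod p) V)) h))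
  refine ⟨isCyclic_of_injective_ringHom (R := R) ((Units.coeHom R).comp ψ)
    (fun a b h => hψ (Units.ext h)), m, d, Module.finrank_pos, Module.finrank_pos,
    by rw [Module.natCard_eq_pow_finrank (K := R), hQ], ?_, ?_⟩
  · rw [← hQ, ← Nat.card_units]
    exact (dvd_of_eq (Nat.card_congr (MonoidHom.ofInjective hψ).toEquiv)).trans
      (Subgroup.card_subgroup_dvd_card ψ.range)
  set C := Subgroup.centralizer (A : Set G) with hCdef
  have hcomm : ∀ c : C, ∀ r : R, endo ρ (c : G) * (r : Module.End (ZMod p) V) =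
      (r : Module.End (ZMod p) V) * endo ρ (c : G) := fun c r =>
    (commute_spanRing ρ (fun a ha => ((Subgroup.mem_centralizer_iff.1 c.2) a ha).symm) r.2).eq
  let L : C → Module.End R V := fun c =>
    { toFun := fun v => ρ (c : G) v
      map_add' := fun a b => map_add _ a b
      map_smul' := fun r v => LinearMap.congr_fun (hcomm c r) v }
  let Lh : C →* Module.End R V :=
    { toFun := L
      map_one' := LinearMap.ext fun v => rho_one_apply ρ v
      map_mul' := fun a b => LinearMap.ext fun v => rho_mul_apply ρ (a : G) b v }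
  let f : C →* Matrix (Fin d) (Fin d) R :=
    (LinearMap.toMatrixAlgEquiv (Module.finBasis R V)).toAlgHom.toRingHom.toMonoidHom.comp Lh
  have hf : Function.Injective f := fun a b h => by
    have h1 : Lh a = Lh b := (LinearMap.toMatrixAlgEquiv (Module.finBasis R V)).injective h
    exact Subtype.ext (hρ (LinearEquiv.ext fun v => LinearMap.congr_fun h1 v))
  exact exists_faithful_char f hf fun h => hG (h.trans C.card_subgroup_dvd_card)

/-- An abelian transitive group is cyclic. -/
theorem isCyclic_of_comm (hρ : Function.Injective ρ)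
    (htrans : ∀ v w : V, v ≠ 0 → w ≠ 0 → ∃ g : G, ρ g v = w) (hG : ¬ p ∣ Nat.card G)
    (hc : ∀ a b : G, a * b = b * a) : IsCyclic G := by
  have h := (exists_field ρ hρ htrans hG ⊤ inferInstance fun a _ b _ => hc a b).1
  exact Subgroup.topEquiv.isCyclic.1 h

end Cfsg.Agent.Lib.KGV46
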