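import Mathlib

/-!
# Classes of `p`-regular elements under epimorphisms
-/

set_option autoImplicit false
set_option linter.unusedSectionVars false
set_option linter.style.haveILetI false

namespace Cfsg.Agent.Lib.KGV46.PRegular

variable {p : ℕ} [Fact p.Prime] {G : Type*} [Group G] [Finite G] {Q : Type*} [Group Q] [Finite Q]

/-- Classes of `p`-regular elements. -/
abbrev RC (p : ℕ) (G : Type*) [Group G] : Type _ :=
  {c : ConjClasses G // ∃ g : G, ConjClasses.mk g = c ∧ ¬ p ∣ orderOf g}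

theorem exists_lift (f : G →* Q) (hf : Function.Surjective f) (q : Q) (hq : ¬ p ∣ orderOf q) :
    ∃ g : G, f g = q ∧ ¬ p ∣ orderOf g := by
  have hp : p.Prime := Fact.out
  obtain ⟨g, hg⟩ := hf q
  obtain ⟨a, r, hr, hor⟩ := Nat.exists_eq_pow_mul_and_not_dvd (orderOf_pos g).ne' p hp.ne_one
  obtain ⟨m, hm⟩ := exists_pow_eq_self_of_coprime (x := q) (n := p ^ a)
    ((hp.coprime_iff_not_dvd.2 hq).pow_left a)
  refine ⟨(g ^ p ^ a) ^ m, by rw [map_pow, map_pow, hg, hm], fun h => hr ?_⟩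
  refine h.trans (orderOf_dvd_of_pow_eq_one ?_)
  rw [← pow_mul, ← pow_mul, show p ^ a * (m * r) = p ^ a * r * m by ring, ← hor, pow_mul,
    pow_orderOf_eq_one, one_pow]

theorem exists_plift (f : G →* Q) (hf : Function.Surjective f) (q : Q)
    (hq : ∃ k : ℕ, orderOf q = p ^ k) : ∃ g : G, f g = q ∧ ∃ k : ℕ, orderOf g = p ^ k := by
  have hp : p.Prime := Fact.out
  obtain ⟨k, hk⟩ := hq
  obtain ⟨g, hg⟩ := hf q
  obtain ⟨a, r, hr, hor⟩ := Nat.exists_eq_pow_mul_and_not_dvd (orderOf_pos g).ne' p hp.ne_one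
  obtain ⟨m, hm⟩ := exists_pow_eq_self_of_coprime (x := q) (n := r)
    (by rw [hk]; exact (hp.coprime_iff_not_dvd.2 hr).symm.pow_right k)
  refine ⟨(g ^ r) ^ m, by rw [map_pow, map_pow, hg, hm], ?_⟩
  have h : orderOf ((g ^ r) ^ m) ∣ p ^ a := orderOf_dvd_of_pow_eq_one (by
    rw [← pow_mul, ← pow_mul, show r * (m * p ^ a) = p ^ a * r * m by ring, ← hor, pow_mul,
      pow_orderOf_eq_one, one_pow])
  obtain ⟨i, -, hi⟩ := (Nat.dvd_prime_pow hp).1 h
  exact ⟨i, hi⟩

/-- The map of classes. -/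
def rcMap (f : G →* Q) : RC p G → RC p Q := fun c =>
  ⟨ConjClasses.map f c.1, by
    obtain ⟨g, hg, hp'⟩ := c.2
    exact ⟨f g, by rw [← hg]; rfl, fun h => hp' (h.trans (orderOf_map_dvd f g))⟩⟩

theorem rcMap_surjective (f : G →* Q) (hf : Function.Surjective f) :
    Function.Surjective (rcMap (p := p) f) := by
  rintro ⟨c, q, rfl, hq⟩
  obtain ⟨g, hg, hg'⟩ := exists_lift f hf q hq
  subst hg
  exact ⟨⟨ConjClasses.mk g, g, rfl, hg'⟩, Subtype.ext rfl⟩

theorem card_le (f : G →* Q) (hf : Function.Surjective f) :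
    Nat.card (RC p Q) ≤ Nat.card (RC p G) :=
  Nat.card_le_card_of_surjective _ (rcMap_surjective f hf)

theorem not_dvd_one_order : ¬ p ∣ orderOf (1 : G) := by
  rw [orderOf_one]
  exact (Fact.out : p.Prime).not_dvd_one

/-- A non-trivial `p`-regular kernel element costs a class. -/
theorem card_lt (f : G →* Q) (hf : Function.Surjective f) {n : G} (hn1 : n ≠ 1) (hn : f n = 1)
    (hn' : ¬ p ∣ orderOf n) : Nat.card (RC p Q) + 1 ≤ Nat.card (RC p G) := by
  classical
  have h1 := Nat.card_le_card_of_surjective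
    (fun c : {c : RC p G // c ≠ ⟨ConjClasses.mk n, n, rfl, hn'⟩} => rcMap f c.1) (fun q => by
      obtain ⟨c, hc⟩ := rcMap_surjective f hf q
      by_cases hcn : c = ⟨ConjClasses.mk n, n, rfl, hn'⟩
      · refine ⟨⟨⟨ConjClasses.mk 1, 1, rfl, not_dvd_one_order⟩, fun h => hn1 ?_⟩, ?_⟩
        · exact isConj_one_right.1
            (ConjClasses.mk_eq_mk_iff_isConj.1 (congrArg Subtype.val h))
        · rw [← hc, hcn]
          refine Subtype.ext ?_
          show ConjClasses.mk (f 1) = ConjClasses.mk (f n)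
          rw [hn, map_one]
      · exact ⟨⟨c, hcn⟩, hc⟩)
  have h2 : Nat.card {c : RC p G // c ≠ ⟨ConjClasses.mk n, n, rfl, hn'⟩} < Nat.card (RC p G) := by
    refine Finite.card_subtype_lt (p := fun c => c ≠ _)
      (x := ⟨ConjClasses.mk n, n, rfl, hn'⟩) ?_
    simp
  omega

/-- When a kernel class is the only extra class, the fibres are otherwise single classes. -/
theorem single (f : G →* Q) (hf : Function.Surjective f)
    (hle : Nat.card (RC p G) ≤ Nat.card (RC p Q) + 1) {n : G} (hn1 : n ≠ 1) (hn : f n = 1)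
    (hn' : ¬ p ∣ orderOf n) {x y : G} (hx : ¬ p ∣ orderOf x) (hy : ¬ p ∣ orderOf y)
    (hxy : f x = f y) (hxn : ¬ IsConj x n) (hyn : ¬ IsConj y n) : IsConj x y := by
  classical
  haveI := Fintype.ofFinite (RC p G)
  haveI := Fintype.ofFinite (RC p Q)
  obtain ⟨cn, hcn⟩ : ∃ c : RC p G, c = ⟨ConjClasses.mk n, n, rfl, hn'⟩ := ⟨_, rfl⟩
  have hne : ∀ z (hz : ¬ p ∣ orderOf z), ¬ IsConj z n →
      (⟨ConjClasses.mk z, z, rfl, hz⟩ : RC p G) ∈ Finset.univ.erase cn := by
    intro z hz hzn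
    refine Finset.mem_erase.2 ⟨fun h => hzn ?_, Finset.mem_univ _⟩
    rw [hcn] at h
    exact ConjClasses.mk_eq_mk_iff_isConj.1 (congrArg Subtype.val h)
  have hsurj : ∀ q ∈ (Finset.univ : Finset (RC p Q)), ∃ c, ∃ _ : c ∈ Finset.univ.erase cn,
      rcMap f c = q := by
    intro q _
    obtain ⟨c, hc⟩ := rcMap_surjective f hf q
    by_cases h : c = cn
    · refine ⟨_, hne 1 not_dvd_one_order fun h' => hn1 (isConj_one_right.1 h'), ?_⟩
      rw [← hc, h, hcn]
      refine Subtype.ext ?_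
      show ConjClasses.mk (f 1) = ConjClasses.mk (f n)
      rw [hn, map_one]
    · exact ⟨c, Finset.mem_erase.2 ⟨h, Finset.mem_univ _⟩, hc⟩
  have hcard : (Finset.univ.erase cn).card ≤ (Finset.univ : Finset (RC p Q)).card := by
    rw [Finset.card_erase_of_mem (Finset.mem_univ _), Finset.card_univ, Finset.card_univ,
      ← Nat.card_eq_fintype_card, ← Nat.card_eq_fintype_card]
    omega
  have h := Finset.inj_on_of_surj_on_of_card_le (fun c _ => rcMap f c)
    (fun _ _ => Finset.mem_univ _) hsurj hcard (hne x hx hxn) (hne y hy hyn) (by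
      refine Subtype.ext ?_
      show ConjClasses.mk (f x) = ConjClasses.mk (f y)
      rw [hxy])
  exact ConjClasses.mk_eq_mk_iff_isConj.1 (congrArg Subtype.val h)

/-- The class size is the index of the centraliser. -/
theorem index_centralizer (x : G) :
    (Subgroup.centralizer ({x} : Set G)).index = Nat.card {y : G // IsConj x y} := by
  let φ : G ⧸ Subgroup.centralizer ({x} : Set G) → {y : G // IsConj x y} := fun q =>
    ⟨q.out * x * (q.out)⁻¹, isConj_iff.2 ⟨q.out, rfl⟩⟩
  refine Nat.card_eq_of_bijective φ ⟨fun a b h => ?_, fun y => ?_⟩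
  · have h' : a.out * x * a.out⁻¹ = b.out * x * b.out⁻¹ := congrArg Subtype.val h
    rw [← a.out_eq', ← b.out_eq', QuotientGroup.eq, Subgroup.mem_centralizer_singleton_iff]
    calc a.out⁻¹ * b.out * x = a.out⁻¹ * (b.out * x * b.out⁻¹) * b.out := by group
      _ = a.out⁻¹ * (a.out * x * a.out⁻¹) * b.out := by rw [← h']
      _ = x * (a.out⁻¹ * b.out) := by group
  · obtain ⟨c, hc⟩ := isConj_iff.1 y.2
    refine ⟨(c : G ⧸ Subgroup.centralizer ({x} : Set G)), Subtype.ext ?_⟩
    obtain ⟨u, hu⟩ := QuotientGroup.mk_out_eq_mul (Subgroup.centralizer ({x} : Set G)) c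
    show _ * x * _⁻¹ = y.1
    rw [hu, ← hc]
    calc c * u.1 * x * (c * u.1)⁻¹ = c * (u.1 * x) * u.1⁻¹ * c⁻¹ := by group
      _ = c * (x * u.1) * u.1⁻¹ * c⁻¹ := by
        rw [Subgroup.mem_centralizer_singleton_iff.1 u.2]
      _ = _ := by group

/-- A class that is a full preimage has centraliser of the same order as its image. -/
theorem card_centralizer_eq (f : G →* Q) (hf : Function.Surjective f) (x : G)
    (hfull : ∀ k ∈ f.ker, IsConj x (x * k)) :
    Nat.card (Subgroup.centralizer ({x} : Set G)) =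
      Nat.card (Subgroup.centralizer ({f x} : Set Q)) := by
  classical
  have hpre : ∀ y : G, IsConj x y ↔ IsConj (f x) (f y) := by
    refine fun y => ⟨fun h => f.map_isConj h, fun h => ?_⟩
    obtain ⟨c, hc⟩ := isConj_iff.1 h
    obtain ⟨d, rfl⟩ := hf c
    have hk : x⁻¹ * (d⁻¹ * y * d) ∈ f.ker := by
      rw [MonoidHom.mem_ker, map_mul, map_inv, map_mul, map_mul, map_inv, ← hc]
      group
    refine (hfull _ hk).trans ?_
    rw [mul_inv_cancel_left]
    exact isConj_iff.2 ⟨d, by group⟩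
  choose s hs using hf
  have hcl : Nat.card {y : G // IsConj x y} =
      Nat.card f.ker * Nat.card {q : Q // IsConj (f x) q} := by
    rw [← Nat.card_prod]
    refine Nat.card_congr
      { toFun := fun y => (⟨(s (f y.1))⁻¹ * y.1, by
          rw [MonoidHom.mem_ker, map_mul, map_inv, hs, inv_mul_cancel]⟩,
          ⟨f y.1, (hpre _).1 y.2⟩)
        invFun := fun kq => ⟨s kq.2.1 * kq.1.1, (hpre _).2 (by
          rw [map_mul, hs, MonoidHom.mem_ker.1 kq.1.2, mul_one]; exact kq.2.2)⟩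
        left_inv := fun y => Subtype.ext (mul_inv_cancel_left _ _)
        right_inv := fun kq => ?_ }
    have hk : f (s kq.2.1 * kq.1.1) = kq.2.1 := by
      rw [map_mul, hs, MonoidHom.mem_ker.1 kq.1.2, mul_one]
    refine Prod.ext (Subtype.ext ?_) (Subtype.ext hk)
    show (s (f (s kq.2.1 * kq.1.1)))⁻¹ * (s kq.2.1 * kq.1.1) = kq.1.1
    rw [hk, inv_mul_cancel_left]
  have h1 := Subgroup.card_mul_index (Subgroup.centralizer ({x} : Set G))
  have h2 := Subgroup.card_mul_index (Subgroup.centralizer ({f x} : Set Q))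
  have h3 := f.ker.card_mul_index
  have hidx : f.ker.index = Nat.card Q := by
    rw [Subgroup.index_ker, MonoidHom.range_eq_top.2 (fun q => ⟨s q, hs q⟩), Subgroup.card_top]
  rw [index_centralizer, hcl] at h1
  rw [index_centralizer] at h2
  rw [hidx, ← h2, ← h1] at h3
  have hpos : 0 < Nat.card f.ker * Nat.card {q : Q // IsConj (f x) q} := by
    haveI : Nonempty {q : Q // IsConj (f x) q} := ⟨⟨f x, IsConj.refl _⟩⟩
    exact Nat.mul_pos Nat.card_pos Nat.card_pos
  refine Nat.eq_of_mul_eq_mul_right hpos (h3.symm.trans ?_)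
  ring

/-- Order of the part of a centraliser in the kernel. -/
theorem card_ker_inf_mul_dvd (f : G →* Q) (hf : Function.Surjective f) (x : G)
    (hfull : ∀ k ∈ f.ker, IsConj x (x * k)) :
    Nat.card ↥(f.ker ⊓ Subgroup.centralizer ({x} : Set G)) * orderOf (f x) ∣
      Nat.card (Subgroup.centralizer ({f x} : Set Q)) := by
  obtain ⟨C, hC⟩ : ∃ C, C = Subgroup.centralizer ({x} : Set G) := ⟨_, rfl⟩
  have h1 : Nat.card C = Nat.card ↥(f.ker ⊓ C) * Nat.card (C.map f) := by
    rw [← Subgroup.relIndex_ker (K := C) f, ← Subgroup.inf_relIndex_right,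
      ← Subgroup.relIndex_bot_left (f.ker ⊓ C),
      Subgroup.relIndex_mul_relIndex _ _ _ bot_le inf_le_right, Subgroup.relIndex_bot_left]
  rw [← card_centralizer_eq f hf x hfull, ← hC, h1]
  refine Nat.mul_dvd_mul_left _ ?_
  rw [← Nat.card_zpowers]
  refine Subgroup.card_dvd_of_le ?_
  rw [Subgroup.zpowers_le]
  exact ⟨x, hC ▸ Subgroup.mem_centralizer_singleton_iff.2 rfl, rfl⟩

end Cfsg.Agent.Lib.KGV46.PRegular
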