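import Mathlib

/-! Centraliser orders in `SL(2,5)`. -/

set_option autoImplicit false

namespace Cfsg.Agent.Lib.KGV46.SL25Count

local notation "SL25" => Matrix.SpecialLinearGroup (Fin 2) (ZMod 5)

abbrev T : Type := ZMod 5 × ZMod 5 × ZMod 5 × ZMod 5

def det4 (a : T) : ZMod 5 := a.1 * a.2.2.2 - a.2.1 * a.2.2.1

def mul4 (a b : T) : T :=
  (a.1 * b.1 + a.2.1 * b.2.2.1, a.1 * b.2.1 + a.2.1 * b.2.2.2,
    a.2.2.1 * b.1 + a.2.2.2 * b.2.2.1, a.2.2.1 * b.2.1 + a.2.2.2 * b.2.2.2)

def comm4 (a b : T) : Bool := decide (mul4 a b = mul4 b a)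

def one4 : T := (1, 0, 0, 1)
def neg4 : T := (4, 0, 0, 4)
def w4 : T := (4, 4, 0, 4)

def cent4 (a : T) : ℕ := (Finset.univ.filter fun b => det4 b = 1 ∧ comm4 a b = true).card

def sqOK (a : T) : Bool :=
  (det4 a != 1) || (mul4 a a != one4) || (a == one4) || (a == neg4)

def cubeOK (a : T) : Bool :=
  (det4 a != 1) || (mul4 (mul4 a a) a != one4) || (a == one4) || (cent4 a == 6)

def fifthOK (a : T) : Bool :=
  (det4 a != 1) || (mul4 (mul4 (mul4 (mul4 a a) a) a) a != one4) || (a == one4) || (cent4 a == 10)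

theorem sq_all : ∀ a : T, sqOK a = true := by decide +kernel

theorem cube_all : ∀ a : T, cubeOK a = true := by decide +kernel

theorem fifth_all : ∀ a : T, fifthOK a = true := by decide +kernel

theorem square_check (a : T) (hd : det4 a = 1) (h : mul4 a a = one4) : a = one4 ∨ a = neg4 := by
  have h' := sq_all a
  simpa [sqOK, hd, h] using h'

theorem cube_check (a : T) (hd : det4 a = 1) (h : mul4 (mul4 a a) a = one4) (h1 : a ≠ one4) :
    cent4 a = 6 := by
  have h' := cube_all a
  simpa [cubeOK, hd, h, h1] using h'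

theorem fifth_check (a : T) (hd : det4 a = 1)
    (h : mul4 (mul4 (mul4 (mul4 a a) a) a) a = one4) (h1 : a ≠ one4) : cent4 a = 10 := by
  have h' := fifth_all a
  simpa [fifthOK, hd, h, h1] using h'

theorem w_cent : cent4 w4 = 10 := by decide +kernel

theorem w_pow : mul4 (mul4 (mul4 (mul4 w4 w4) w4) w4) w4 = neg4 := by decide +kernel

theorem w_sq : mul4 w4 w4 ≠ one4 := by decide +kernel

theorem w_check : cent4 w4 = 10 ∧ mul4 (mul4 (mul4 (mul4 w4 w4) w4) w4) w4 = neg4 ∧
    mul4 w4 w4 ≠ one4 := ⟨w_cent, w_pow, w_sq⟩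

def key (m : SL25) : T := (m.1 0 0, m.1 0 1, m.1 1 0, m.1 1 1)

theorem key_mul (m n : SL25) : key (m * n) = mul4 (key m) (key n) := by
  simp [key, mul4, Matrix.SpecialLinearGroup.coe_mul, Matrix.mul_apply, Fin.sum_univ_two]

theorem key_one : key 1 = one4 := by simp [key, one4]

theorem key_inj : Function.Injective key := by
  intro m n h
  simp only [key, Prod.mk.injEq] at h
  obtain ⟨h1, h2, h3, h4⟩ := h
  ext i j
  fin_cases i <;> fin_cases j <;> assumption

theorem det4_key (m : SL25) : det4 (key m) = 1 := by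
  have h := m.2
  rw [Matrix.det_fin_two] at h
  exact h

def ofT (a : T) (h : det4 a = 1) : SL25 :=
  ⟨!![a.1, a.2.1; a.2.2.1, a.2.2.2], by rw [Matrix.det_fin_two_of]; exact h⟩

theorem key_ofT (a : T) (h : det4 a = 1) : key (ofT a h) = a := by simp [key, ofT]

theorem card_centralizer (m : SL25) :
    Nat.card (Subgroup.centralizer ({m} : Set SL25)) = cent4 (key m) := by
  rw [cent4, ← Nat.subtype_card (p := fun b => det4 b = 1 ∧ comm4 (key m) b = true)
    (Finset.univ.filter _) (fun b => by simp)]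
  refine Nat.card_congr
    { toFun := fun g => ⟨key g, ⟨det4_key g,
        decide_eq_true (by
          rw [← key_mul, ← key_mul, Subgroup.mem_centralizer_singleton_iff.1 g.2])⟩⟩
      invFun := fun b => ⟨ofT b.1 b.2.1,
        Subgroup.mem_centralizer_singleton_iff.2 (key_inj (by
          rw [key_mul, key_mul, key_ofT]
          exact (of_decide_eq_true b.2.2).symm))⟩
      left_inv := fun g => Subtype.ext (key_inj (key_ofT _ (det4_key _)))
      right_inv := fun b => Subtype.ext (key_ofT _ b.2.1) }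

theorem cube_centralizer {m : SL25} (h : m ^ 3 = 1) (h1 : m ≠ 1) :
    Nat.card (Subgroup.centralizer ({m} : Set SL25)) = 6 := by
  rw [card_centralizer]
  refine cube_check _ (det4_key m) ?_ fun he => h1 (key_inj (he.trans key_one.symm))
  rw [← key_one, ← h, pow_succ, pow_two, key_mul, key_mul]

theorem fifth_centralizer {m : SL25} (h : m ^ 5 = 1) (h1 : m ≠ 1) :
    Nat.card (Subgroup.centralizer ({m} : Set SL25)) = 10 := by
  rw [card_centralizer]
  refine fifth_check _ (det4_key m) ?_ fun he => h1 (key_inj (he.trans key_one.symm))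
  rw [← key_one, ← h, pow_succ, pow_succ, pow_succ, pow_two, key_mul, key_mul, key_mul, key_mul]

def negOne : SL25 := ofT neg4 (by decide)

theorem eq_negOne {m : SL25} (h : m ^ 2 = 1) (h1 : m ≠ 1) : m = negOne := by
  rw [pow_two] at h
  rcases square_check _ (det4_key m) (by rw [← key_mul, h, key_one]) with he | he
  · exact absurd (key_inj (he.trans key_one.symm)) h1
  · exact key_inj (he.trans (key_ofT _ _).symm)

/-- The element of order ten. -/
theorem exists_ten : ∃ w : SL25, orderOf w = 10 ∧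
    Nat.card (Subgroup.centralizer ({w} : Set SL25)) = 10 := by
  obtain ⟨h1, h2, h3⟩ := w_check
  refine ⟨ofT w4 (by decide), ?_, by rw [card_centralizer, key_ofT]; exact h1⟩
  obtain ⟨w, hw⟩ : ∃ w, w = ofT w4 (by decide) := ⟨_, rfl⟩
  rw [← hw]
  have hk : key w = w4 := by rw [hw, key_ofT]
  have h5 : w ^ 5 = negOne := key_inj (by
    rw [pow_succ, pow_succ, pow_succ, pow_two, key_mul, key_mul, key_mul, key_mul, hk, negOne,
      key_ofT]
    exact h2)
  have hn2 : negOne ^ 2 = 1 := key_inj (by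
    rw [pow_two, key_mul, key_one, negOne, key_ofT]; decide)
  have hn1 : negOne ≠ 1 := fun h => by
    have := congrArg key h
    rw [key_one, negOne, key_ofT] at this
    exact absurd this (by decide)
  have hd : orderOf w ∣ 10 := orderOf_dvd_of_pow_eq_one (by
    rw [show (10 : ℕ) = 5 * 2 by norm_num, pow_mul, h5, hn2])
  have hne5 : ¬ orderOf w ∣ 5 := fun h => hn1 (h5 ▸ orderOf_dvd_iff_pow_eq_one.1 h)
  have hne2 : ¬ orderOf w ∣ 2 := fun h => h3 (by
    have := congrArg key (orderOf_dvd_iff_pow_eq_one.1 h)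
    rwa [pow_two, key_mul, hk, key_one] at this)
  have hle := Nat.le_of_dvd (by norm_num) hd
  have h0 := orderOf_pos w
  interval_cases hh : orderOf w <;> omega

end Cfsg.Agent.Lib.KGV46.SL25Count
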