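import Cfsg.Prelude.Def_Perm
import Cfsg.Agent.Lib.Hall.PSolvable
import Cfsg.Agent.Lib.KGV46.ClassLower
import Cfsg.Agent.Lib.KGV46.PRegular
import Cfsg.Agent.Lib.KGV46.SL25Count

/-!
# `p`-solvable groups with one class of non-trivial `p`-elements
-/

set_option autoImplicit false
set_option linter.unusedSectionVars false
set_option linter.style.haveILetI false

open Cfsg

namespace Cfsg.Agent.Lib.KGV46.OneClassP

open Cfsg.Agent.Lib Cfsg.Agent.Lib.KGV46.PRegular

local notation "SL25" => Matrix.SpecialLinearGroup (Fin 2) (ZMod 5)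

/-- The exceptional Frobenius group of order `121 · 120`. -/
def Exc (Q : Type*) [Group Q] : Prop :=
  ∃ V H : Subgroup Q, V.Normal ∧ Subgroup.IsComplement' V H ∧ Nat.card V = 121 ∧
    Nat.card H = 120 ∧ (∀ a ∈ V, ∀ b ∈ V, a * b = b * a) ∧
    (∀ h ∈ H, h ≠ 1 → ∀ v ∈ V, h * v * h⁻¹ = v → v = 1) ∧ Nonempty (H ≃* SL25)

theorem exists_decomp {Q : Type*} [Group Q] {V H : Subgroup Q} (hVH : Subgroup.IsComplement' V H)
    (g : Q) : ∃ v ∈ V, ∃ h ∈ H, v * h = g := by
  obtain ⟨⟨⟨v, hv⟩, ⟨h, hh⟩⟩, e⟩ := hVH.2 g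
  exact ⟨v, hv, h, hh, e⟩

/-- In a fixed point free complement centralisers stay inside. -/
theorem mem_of_commute {Q : Type*} [Group Q] {V H : Subgroup Q} [V.Normal]
    (hVH : Subgroup.IsComplement' V H)
    (hfpf : ∀ h ∈ H, h ≠ 1 → ∀ v ∈ V, h * v * h⁻¹ = v → v = 1) {h : Q} (hh : h ∈ H) (hh1 : h ≠ 1)
    {g : Q} (hg : g * h = h * g) : g ∈ H := by
  obtain ⟨v, hv, k, hk, rfl⟩ := exists_decomp hVH g
  have h1 : (k * h * k⁻¹ * h⁻¹) = v⁻¹ * (h * v * h⁻¹) := by
    calc k * h * k⁻¹ * h⁻¹ = v⁻¹ * (v * k * h) * k⁻¹ * h⁻¹ := by group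
      _ = v⁻¹ * (h * (v * k)) * k⁻¹ * h⁻¹ := by rw [hg]
      _ = _ := by group
  have h2 : k * h * k⁻¹ * h⁻¹ ∈ H :=
    H.mul_mem (H.mul_mem (H.mul_mem hk hh) (H.inv_mem hk)) (H.inv_mem hh)
  have h3 : v⁻¹ * (h * v * h⁻¹) ∈ V :=
    V.mul_mem (V.inv_mem hv) (Subgroup.Normal.conj_mem inferInstance v hv h)
  have h4 := Subgroup.disjoint_def.1 hVH.disjoint h3 (h1 ▸ h2)
  rw [inv_mul_eq_one] at h4
  rw [hfpf h hh hh1 v hv h4.symm, one_mul]
  exact hk

theorem card_centralizer_of_fpf {Q : Type*} [Group Q] [Finite Q] {V H : Subgroup Q} [V.Normal]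
    (hVH : Subgroup.IsComplement' V H)
    (hfpf : ∀ h ∈ H, h ≠ 1 → ∀ v ∈ V, h * v * h⁻¹ = v → v = 1) (h : H) (hh1 : h ≠ 1) :
    Nat.card (Subgroup.centralizer ({(h : Q)} : Set Q)) =
      Nat.card (Subgroup.centralizer ({h} : Set H)) := by
  refine Nat.card_congr
    { toFun := fun g => ⟨⟨g.1, mem_of_commute hVH hfpf h.2 (fun e => hh1 (Subtype.ext e))
        (Subgroup.mem_centralizer_singleton_iff.1 g.2)⟩,
        Subgroup.mem_centralizer_singleton_iff.2 (Subtype.ext
          (Subgroup.mem_centralizer_singleton_iff.1 g.2))⟩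
      invFun := fun g => ⟨g.1.1, Subgroup.mem_centralizer_singleton_iff.2
        (congrArg Subtype.val (Subgroup.mem_centralizer_singleton_iff.1 g.2))⟩
      left_inv := fun _ => rfl
      right_inv := fun _ => rfl }

theorem card_centralizer_equiv {A B : Type*} [Group A] [Group B] (e : A ≃* B) (a : A) :
    Nat.card (Subgroup.centralizer ({a} : Set A)) =
      Nat.card (Subgroup.centralizer ({e a} : Set B)) := by
  refine Nat.card_congr (Equiv.subtypeEquiv e.toEquiv fun g => ?_)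
  rw [Subgroup.mem_centralizer_singleton_iff, Subgroup.mem_centralizer_singleton_iff]
  show g * a = a * g ↔ e g * e a = e a * e g
  rw [← map_mul, ← map_mul, e.injective.eq_iff]

theorem conj_eq_of_diff_mem {G : Type*} [Group G] {K : Subgroup G}
    (hK : ∀ a ∈ K, ∀ b ∈ K, a * b = b * a) {x y k : G} (hd : x⁻¹ * y ∈ K) (hk : k ∈ K) :
    x * k * x⁻¹ = y * k * y⁻¹ := by
  have h := hK _ hd k hk
  calc x * k * x⁻¹ = x * (k * (x⁻¹ * y)) * y⁻¹ := by group
    _ = x * (x⁻¹ * y * k) * y⁻¹ := by rw [h]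
    _ = _ := by group

/-- No proper cover of the exceptional group has at most ten `11`-regular classes. -/
theorem ext_false [Fact (Nat.Prime 11)] {G Q : Type*} [Group G] [Finite G] [Group Q] [Finite Q]
    (f : G →* Q) (hf : Function.Surjective f) (hker : f.ker ≠ ⊥)
    (hcop : ¬ 11 ∣ Nat.card f.ker) (hQ : Exc Q) (h9 : Nat.card (RC 11 Q) = 9)
    (hle : Nat.card (RC 11 G) ≤ 10) : False := by
  classical
  obtain ⟨V, H, hVn, hVH, hV121, hH120, hVc, hfpf, ⟨e⟩⟩ := hQ
  have h11 : Nat.Prime 11 := Fact.out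
  obtain ⟨K, hKdef⟩ : ∃ K, K = f.ker := ⟨_, rfl⟩
  haveI : K.Normal := hKdef ▸ f.normal_ker
  rw [← hKdef] at hker hcop
  have hmemK : ∀ {x : G}, x ∈ K ↔ f x = 1 := fun {x} => by rw [hKdef]; exact Iff.rfl
  have hKo : ∀ k ∈ K, ¬ 11 ∣ orderOf k := fun k hk h => hcop (h.trans (by
    rw [← Subgroup.orderOf_mk k hk]; exact orderOf_dvd_natCard _))
  obtain ⟨n, hnK, hn1⟩ := (Subgroup.bot_or_exists_ne_one K).resolve_left hker
  have hn := hmemK.1 hnK
  have hsing : ∀ {x y : G}, ¬ 11 ∣ orderOf x → ¬ 11 ∣ orderOf y → f x = f y →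
      ¬ IsConj x n → ¬ IsConj y n → IsConj x y := fun {x y} h1 h2 h3 h4 h5 =>
    single (p := 11) f hf (by omega) hn1 hn (hKo n hnK) h1 h2 h3 h4 h5
  -- all non-trivial kernel elements are conjugate
  have hKconj : ∀ k ∈ K, k ≠ 1 → IsConj k n := by
    intro k hk hk1
    by_contra h
    have := hsing (hKo k hk) not_dvd_one_order ((hmemK.1 hk).trans (map_one f).symm) h
      fun h' => hn1 (isConj_one_right.1 h')
    exact hk1 (isConj_one_left.1 this)
  obtain ⟨q, hq, hqd⟩ := Nat.exists_prime_and_dvd (show Nat.card K ≠ 1 from fun h =>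
    hker (Subgroup.card_eq_one.1 h))
  haveI := Fact.mk hq
  obtain ⟨x0, hx0⟩ := exists_prime_orderOf_dvd_card' (G := K) q hqd
  have hx01 : (x0 : G) ≠ 1 := fun h => by
    rw [← Subgroup.orderOf_coe, h, orderOf_one] at hx0; exact hq.one_lt.ne hx0
  have hKq : ∀ k ∈ K, k ^ q = 1 := by
    intro k hk
    rcases eq_or_ne k 1 with rfl | hk1
    · exact one_pow q
    · obtain ⟨u, hu⟩ := isConj_iff.1 ((hKconj _ x0.2 hx01).trans (hKconj k hk hk1).symm)
      rw [← hu, conj_pow, ← hx0, ← Subgroup.orderOf_coe, pow_orderOf_eq_one, mul_one,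
        mul_inv_cancel]
  have hKp : IsPGroup q K := fun k => ⟨1, Subtype.ext (by rw [pow_one]; exact hKq k k.2)⟩
  haveI : Nontrivial K := (Subgroup.nontrivial_iff_ne_bot K).2 hker
  haveI := hKp.center_nontrivial
  obtain ⟨c, hc1⟩ := exists_ne (1 : Subgroup.center K)
  have hc1' : (((c : K) : G)) ≠ 1 := fun h => hc1 (Subtype.ext (Subtype.ext h))
  have hKab : ∀ a ∈ K, ∀ b ∈ K, a * b = b * a := by
    intro a ha b hb
    rcases eq_or_ne a 1 with rfl | ha1
    · rw [one_mul, mul_one]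
    obtain ⟨u, hu⟩ := isConj_iff.1 ((hKconj _ (c : K).2 hc1').trans (hKconj a ha ha1).symm)
    have hb' : u⁻¹ * b * u ∈ K := by
      have := Subgroup.Normal.conj_mem (inferInstance : K.Normal) b hb u⁻¹
      rwa [inv_inv] at this
    have hcc : u⁻¹ * b * u * ((c : K) : G) = ((c : K) : G) * (u⁻¹ * b * u) :=
      congrArg Subtype.val (Subgroup.mem_center_iff.1 c.2 ⟨_, hb'⟩)
    rw [← hu]
    calc u * ((c : K) : G) * u⁻¹ * b = u * (((c : K) : G) * (u⁻¹ * b * u)) * u⁻¹ := by group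
      _ = u * (u⁻¹ * b * u * ((c : K) : G)) * u⁻¹ := by rw [hcc]
      _ = _ := by group
  -- fibres over non-trivial `11`-regular elements
  have hfib : ∀ x : G, f x ≠ 1 → ¬ 11 ∣ orderOf (f x) → ∀ k ∈ K, IsConj x (x * k) := by
    intro x hx1 hxo k hk
    have hreg : ∀ y, f y = f x → ¬ 11 ∣ orderOf y := by
      intro y hy hd
      have h1 : y ^ orderOf (f x) ∈ K := hmemK.2 (by rw [map_pow, hy, pow_orderOf_eq_one])
      have h2 : orderOf y ∣ orderOf (f x) * Nat.card K := orderOf_dvd_of_pow_eq_one (by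
        rw [pow_mul]
        exact congrArg Subtype.val (pow_card_eq_one' (x := (⟨_, h1⟩ : K))))
      exact (h11.dvd_mul.1 (hd.trans h2)).elim hxo hcop
    have hne : ∀ y, f y = f x → ¬ IsConj y n := by
      intro y hy h
      have h' := f.map_isConj h
      rw [hy, hn] at h'
      exact hx1 (isConj_one_left.1 h')
    have hxk : f (x * k) = f x := by rw [map_mul, hmemK.1 hk, mul_one]
    exact hsing (hreg x rfl) (hreg _ hxk) hxk.symm (hne x rfl) (hne _ hxk)
  have hHo : ∀ h ∈ H, ¬ 11 ∣ orderOf h := by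
    intro h hh hd
    have h1 : orderOf (⟨h, hh⟩ : H) ∣ Nat.card H := orderOf_dvd_natCard _
    rw [Subgroup.orderOf_mk, hH120] at h1
    exact absurd (hd.trans h1) (by norm_num)
  -- elements of the kernel centralised by a lift
  have hE : ∀ (x : G) (h : H), f x = h → h ≠ 1 →
      Nat.card ↥(K ⊓ Subgroup.centralizer ({x} : Set G)) * orderOf h ∣
        Nat.card (Subgroup.centralizer ({e h} : Set SL25)) := by
    intro x h hx hh1
    have hh1' : (h : Q) ≠ 1 := fun e' => hh1 (Subtype.ext e')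
    have := card_ker_inf_mul_dvd f hf x (hKdef ▸ hfib x (hx ▸ hh1') (hx ▸ hHo h h.2))
    rwa [← hKdef, hx, card_centralizer_of_fpf hVH hfpf h hh1, card_centralizer_equiv e,
      Subgroup.orderOf_coe] at this
  obtain ⟨w0, hw10, hwc⟩ := SL25Count.exists_ten
  obtain ⟨w, hw⟩ : ∃ w : H, e w = w0 := e.surjective w0
  have hwo : orderOf w = 10 := by rw [← e.orderOf_eq, hw, hw10]
  obtain ⟨u, hu⟩ : ∃ u : H, u = w ^ 5 := ⟨_, rfl⟩
  have hu1 : u ≠ 1 := fun h => by
    have := orderOf_dvd_of_pow_eq_one (hu ▸ h : w ^ 5 = 1)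
    rw [hwo] at this
    norm_num at this
  have hu2 : u ^ 2 = 1 := by
    rw [hu, ← pow_mul, show (5 * 2 : ℕ) = 10 by norm_num, ← hwo, pow_orderOf_eq_one]
  have huniq : ∀ h : H, h ^ 2 = 1 → h ≠ 1 → h = u := by
    intro h h2 h1
    apply e.injective
    rw [SL25Count.eq_negOne (by rw [← map_pow, h2, map_one]) (fun h' => h1 (e.map_eq_one_iff.1 h')),
      SL25Count.eq_negOne (by rw [← map_pow, hu2, map_one]) (fun h' => hu1 (e.map_eq_one_iff.1 h'))]
  obtain ⟨g, hg⟩ := hf (u : Q)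
  obtain ⟨y, hy⟩ := hf (w : Q)
  -- `g` fixes no non-trivial element of the kernel
  have hD : ∀ k ∈ K, g * k * g⁻¹ = k → k = 1 := by
    obtain ⟨D, hDdef⟩ : ∃ D, D = K ⊓ Subgroup.centralizer ({g} : Set G) := ⟨_, rfl⟩
    have hdvd : Nat.card D * 2 ∣ 120 := by
      have h := hE g u hg hu1
      have h' : Nat.card (Subgroup.centralizer ({e u} : Set SL25)) ∣ 120 := by
        refine (Subgroup.card_subgroup_dvd_card _).trans ?_
        rw [← Nat.card_congr e.toEquiv, hH120]
      rw [← hDdef, orderOf_eq_prime hu2 hu1] at h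
      exact h.trans h'
    have hinv : ∀ d ∈ D, y * d * y⁻¹ ∈ D := by
      intro d hd
      rw [hDdef] at hd ⊢
      refine ⟨Subgroup.Normal.conj_mem inferInstance d hd.1 y,
        Subgroup.mem_centralizer_singleton_iff.2 ?_⟩
      have hdg := Subgroup.mem_centralizer_singleton_iff.1 hd.2
      have hm : g⁻¹ * (y⁻¹ * g * y) ∈ K := hmemK.2 (by
        rw [map_mul, map_mul, map_mul, map_inv, map_inv, hg, hy, ← Subgroup.coe_inv,
          ← Subgroup.coe_inv, ← Subgroup.coe_mul, ← Subgroup.coe_mul, ← Subgroup.coe_mul, hu]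
        norm_cast
        group)
      have h1 := conj_eq_of_diff_mem hKab hm hd.1
      rw [show g * d * g⁻¹ = d by rw [← hdg, mul_inv_cancel_right]] at h1
      calc y * d * y⁻¹ * g = y * (d * (y⁻¹ * g * y)) * y⁻¹ := by group
        _ = y * (y⁻¹ * g * y * d * (y⁻¹ * g * y)⁻¹ * (y⁻¹ * g * y)) * y⁻¹ := by rw [← h1]
        _ = _ := by group
    let σ : Function.End D := fun d => ⟨y * d.1 * y⁻¹, hinv d.1 d.2⟩
    have hσpow : ∀ (i : ℕ) (d : D), (((σ ^ i) d : D) : G) = y ^ i * d.1 * (y ^ i)⁻¹ := by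
      intro i
      induction i with
      | zero =>
        intro d
        rw [pow_zero, pow_zero, one_mul, inv_one, mul_one]
        rfl
      | succ i ih =>
        intro d
        rw [pow_succ' σ]
        show y * ((σ ^ i) d : D).1 * y⁻¹ = _
        rw [ih, pow_succ']
        group
    have hσ5 : σ ^ 5 ^ 1 = 1 := by
      funext d
      refine Subtype.ext ?_
      rw [pow_one, hσpow]
      show _ = (d : G)
      have hd := hDdef.le d.2
      have hm : g⁻¹ * y ^ 5 ∈ K := hmemK.2 (by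
        rw [map_mul, map_inv, map_pow, hg, hy, hu, Subgroup.coe_pow, inv_mul_cancel])
      rw [← conj_eq_of_diff_mem hKab hm hd.1, ← Subgroup.mem_centralizer_singleton_iff.1 hd.2,
        mul_inv_cancel_right]
    haveI : Fact (Nat.Prime 5) := ⟨by norm_num⟩
    haveI := Fintype.ofFinite D
    have hmod := Equiv.Perm.card_fixedPoints_modEq hσ5
    have hsub : ∀ d : Function.fixedPoints σ, d.1 = 1 := by
      intro d
      have h := hE y w hy (fun h => by rw [h, orderOf_one] at hwo; omega)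
      rw [hwo, hw, hwc] at h
      have h1 : Nat.card ↥(K ⊓ Subgroup.centralizer ({y} : Set G)) = 1 := by
        have := Nat.le_of_dvd (by norm_num) h
        have : 0 < Nat.card ↥(K ⊓ Subgroup.centralizer ({y} : Set G)) := Nat.card_pos
        omega
      have hd := hDdef.le d.1.2
      have hfix : y * (d.1 : G) * y⁻¹ = d.1 := congrArg Subtype.val d.2
      have hdm : (d.1 : G) ∈ K ⊓ Subgroup.centralizer ({y} : Set G) :=
        ⟨hd.1, Subgroup.mem_centralizer_singleton_iff.2 (by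
          conv_lhs => rw [← hfix]
          group)⟩
      rw [Subgroup.card_eq_one.1 h1, Subgroup.mem_bot] at hdm
      exact Subtype.ext hdm
    have hfp : Fintype.card (Function.fixedPoints σ) = 1 := by
      refine le_antisymm (Fintype.card_le_one_iff.2 fun a b =>
        Subtype.ext ((hsub a).trans (hsub b).symm)) (Fintype.card_pos_iff.2 ⟨⟨1, ?_⟩⟩)
      exact Subtype.ext (by show y * (1 : G) * y⁻¹ = 1; rw [mul_one, mul_inv_cancel])
    rw [hfp, ← Nat.card_eq_fintype_card] at hmod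
    obtain ⟨i, hi⟩ := (hKp.to_le (hDdef ▸ inf_le_left : D ≤ K)).exists_card_eq
    have hD1 : Nat.card D = 1 := by
      have hd : Nat.card D ∣ 120 := (Dvd.intro 2 rfl).trans hdvd
      have hmem := Nat.mem_divisors.2 ⟨hd, by norm_num⟩
      obtain ⟨d, hdd⟩ : ∃ d, d = Nat.card D := ⟨_, rfl⟩
      rw [← hdd] at hmod hmem hi ⊢
      have h6 : ∀ d ∈ Nat.divisors 120, d % 5 = 1 → d = 1 ∨ d = 6 := by decide +kernel
      rcases h6 d hmem hmod with h | h
      · exact h
      · exfalso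
        rw [h] at hi
        have h2 : (2 : ℕ) ∣ q ^ i := hi ▸ (by norm_num)
        have h3 : (3 : ℕ) ∣ q ^ i := hi ▸ (by norm_num)
        have e2 := (Nat.prime_dvd_prime_iff_eq Nat.prime_two hq).1 (Nat.prime_two.dvd_of_dvd_pow h2)
        have e3 := (Nat.prime_dvd_prime_iff_eq Nat.prime_three hq).1
          (Nat.prime_three.dvd_of_dvd_pow h3)
        omega
    intro k hk hfix
    have hkm : k ∈ D := by
      rw [hDdef]
      exact ⟨hk, Subgroup.mem_centralizer_singleton_iff.2 (by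
        conv_lhs => rw [← hfix]
        group)⟩
    rwa [Subgroup.card_eq_one.1 hD1, Subgroup.mem_bot] at hkm
  have hinvK : ∀ k ∈ K, g * k * g⁻¹ = k⁻¹ := by
    intro k hk
    have hgk : g * k * g⁻¹ ∈ K := Subgroup.Normal.conj_mem inferInstance k hk g
    have hg2 : (1 : G)⁻¹ * (g * g) ∈ K := hmemK.2 (by
      rw [inv_one, one_mul, map_mul, hg, ← Subgroup.coe_mul, ← pow_two, hu2, Subgroup.coe_one])
    have hgg : g * (g * k * g⁻¹) * g⁻¹ = k := by
      rw [show g * (g * k * g⁻¹) * g⁻¹ = g * g * k * (g * g)⁻¹ by group,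
        ← conj_eq_of_diff_mem hKab hg2 hk]
      group
    refine eq_inv_of_mul_eq_one_right (hD _ (K.mul_mem hk hgk) ?_)
    rw [show g * (k * (g * k * g⁻¹)) * g⁻¹ = g * k * g⁻¹ * (g * (g * k * g⁻¹) * g⁻¹) by group,
      hgg]
    exact hKab _ hgk _ hk
  have hsq1 : ∀ k ∈ K, k ^ 2 = 1 → k = 1 := fun k hk h2 => hD k hk (by
    rw [hinvK k hk, inv_eq_iff_mul_eq_one, ← pow_two, h2])
  haveI := hVn
  have huV : ∀ v ∈ V, (u : Q) * v * (u : Q)⁻¹ = v⁻¹ := by
    intro v hv
    have huv : (u : Q) * v * (u : Q)⁻¹ ∈ V := Subgroup.Normal.conj_mem inferInstance v hv _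
    refine eq_inv_of_mul_eq_one_right
      (hfpf u u.2 (fun h => hu1 (Subtype.ext h)) _ (V.mul_mem hv huv) ?_)
    have huu : (u : Q) * (u : Q) = 1 := by
      rw [← Subgroup.coe_mul, ← pow_two, hu2, Subgroup.coe_one]
    rw [show (u : Q) * (v * ((u : Q) * v * (u : Q)⁻¹)) * (u : Q)⁻¹ =
      (u : Q) * v * (u : Q)⁻¹ * ((u : Q) * (u : Q) * v * ((u : Q) * (u : Q))⁻¹) by group, huu]
    rw [one_mul, inv_one, mul_one]
    exact hVc _ huv _ hv
  have hVK : ∀ x : G, f x ∈ V → ∀ k ∈ K, x * k * x⁻¹ = k := by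
    intro x hx
    have hm : (g * x * g⁻¹)⁻¹ * x⁻¹ ∈ K := hmemK.2 (by
      rw [map_mul, map_inv, map_inv, map_mul, map_mul, map_inv, hg, huV _ hx, inv_inv,
        mul_inv_cancel])
    have key : ∀ k ∈ K, x * (x * k * x⁻¹) * x⁻¹ = k := by
      intro k hk
      have hxk : x * k * x⁻¹ ∈ K := Subgroup.Normal.conj_mem inferInstance k hk x
      have hgi : g * k⁻¹ * g⁻¹ = k := by rw [hinvK _ (K.inv_mem hk), inv_inv]
      have h1 : x⁻¹ * k * x⁻¹⁻¹ = x * k * x⁻¹ := by
        rw [← conj_eq_of_diff_mem hKab hm hk]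
        calc g * x * g⁻¹ * k * (g * x * g⁻¹)⁻¹ = g * (x * (g⁻¹ * k * g) * x⁻¹) * g⁻¹ := by group
          _ = g * (x * (g⁻¹ * (g * k⁻¹ * g⁻¹) * g) * x⁻¹) * g⁻¹ := by rw [hgi]
          _ = g * (x * k * x⁻¹)⁻¹ * g⁻¹ := by group
          _ = _ := by rw [hinvK _ (K.inv_mem hxk), inv_inv]
      rw [← h1]
      group
    have hpow : ∀ (i : ℕ), ∀ k ∈ K, x ^ (2 * i) * k * (x ^ (2 * i))⁻¹ = k := by
      intro i
      induction i with
      | zero => intro k _; simp
      | succ i ih =>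
        intro k hk
        rw [show x ^ (2 * (i + 1)) * k * (x ^ (2 * (i + 1)))⁻¹ =
          x * (x * (x ^ (2 * i) * k * (x ^ (2 * i))⁻¹) * x⁻¹) * x⁻¹ by
            rw [show 2 * (i + 1) = 2 * i + 1 + 1 by omega, pow_succ', pow_succ']; group,
          ih k hk, key k hk]
    intro k hk
    have h121 : (1 : G)⁻¹ * x ^ 121 ∈ K := hmemK.2 (by
      rw [inv_one, one_mul, map_pow, ← hV121]
      exact congrArg Subtype.val (pow_card_eq_one' (x := (⟨f x, hx⟩ : V))))
    have h2 := (conj_eq_of_diff_mem hKab h121 hk).symm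
    rw [one_mul, inv_one, mul_one] at h2
    calc x * k * x⁻¹ = x * (x ^ (2 * 60) * k * (x ^ (2 * 60))⁻¹) * x⁻¹ := by
          rw [hpow 60 k hk]
      _ = x ^ 121 * k * (x ^ 121)⁻¹ := by
          rw [show 121 = 2 * 60 + 1 by norm_num, pow_succ' x (2 * 60)]; group
      _ = k := h2
  -- the centraliser of `n`
  have hCn : Subgroup.centralizer ({n} : Set G) = V.comap f := by
    refine le_antisymm (fun x hx => ?_) fun x hx => Subgroup.mem_centralizer_singleton_iff.2 ?_
    · rw [Subgroup.mem_comap]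
      obtain ⟨v, hv, h, hh, hvh⟩ := exists_decomp hVH (f x)
      by_contra hxV
      have hh1 : h ≠ 1 := fun h1 => hxV (by rw [← hvh, h1, mul_one]; exact hv)
      obtain ⟨a, ha⟩ := hf v
      have hca : a * n = n * a := by
        conv_rhs => rw [← hVK a (ha ▸ hv) n hnK]
        group
      obtain ⟨x', hx'⟩ : ∃ x', x' = a⁻¹ * x := ⟨_, rfl⟩
      have hfx' : f x' = (⟨h, hh⟩ : H) := by
        show f x' = h
        rw [hx', map_mul, map_inv, ha, ← hvh, inv_mul_cancel_left]
      have hcx : Commute x' n := by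
        rw [hx']
        exact (Commute.inv_left hca).mul_left (Subgroup.mem_centralizer_singleton_iff.1 hx)
      obtain ⟨o, ho⟩ : ∃ o, o = orderOf (⟨h, hh⟩ : H) := ⟨_, rfl⟩
      have ho1 : o ≠ 1 := fun h' => hh1 (by
        rw [ho, orderOf_eq_one_iff] at h'
        exact congrArg Subtype.val h')
      obtain ⟨r, hr, hrd⟩ := Nat.exists_prime_and_dvd ho1
      haveI := Fact.mk hr
      obtain ⟨h', hh'⟩ : ∃ h' : H, h' = (⟨h, hh⟩ : H) ^ (o / r) := ⟨_, rfl⟩
      have hh'o : orderOf h' = r := by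
        rw [hh', ho]
        exact orderOf_pow_orderOf_div (by rw [← ho]; intro h0; rw [h0] at ho; exact (orderOf_pos _).ne ho) (ho ▸ hrd)
      have hh'1 : h' ≠ 1 := fun h1 => by rw [h1, orderOf_one] at hh'o; exact hr.one_lt.ne hh'o
      obtain ⟨x'', hx''⟩ : ∃ x'', x'' = x' ^ (o / r) := ⟨_, rfl⟩
      have hfx'' : f x'' = h' := by rw [hx'', map_pow, hfx', hh', Subgroup.coe_pow]
      have hnm : n ∈ K ⊓ Subgroup.centralizer ({x''} : Set G) :=
        ⟨hnK, Subgroup.mem_centralizer_singleton_iff.2 (hx'' ▸ (hcx.pow_left (o / r)).symm.eq)⟩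
      have hEd := hE x'' h' hfx'' hh'1
      have hn2 : n ^ 2 = 1 → False := fun h2 => hn1 (hsq1 n hnK h2)
      have hr120 : r ∣ 120 := hh'o ▸ hH120 ▸ orderOf_dvd_natCard h'
      have hpow : h' ^ r = 1 := hh'o ▸ pow_orderOf_eq_one h'
      have hfin : ∀ m, Nat.card (Subgroup.centralizer ({e h'} : Set SL25)) = m → m = 2 * r →
          False := by
        intro m hm hm2
        rw [hm, hm2, hh'o] at hEd
        have hE2 : Nat.card ↥(K ⊓ Subgroup.centralizer ({x''} : Set G)) ∣ 2 :=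
          Nat.dvd_of_mul_dvd_mul_right hr.pos hEd
        refine hn2 ?_
        have := (orderOf_dvd_natCard (⟨n, hnm⟩ :
          ↥(K ⊓ Subgroup.centralizer ({x''} : Set G)))).trans hE2
        rw [Subgroup.orderOf_mk] at this
        exact orderOf_dvd_iff_pow_eq_one.1 this
      have hr5 : r = 2 ∨ r = 3 ∨ r = 5 := by
        rw [show (120 : ℕ) = 2 ^ 3 * (3 * 5) by norm_num, hr.dvd_mul, hr.dvd_mul] at hr120
        rcases hr120 with h | h | h
        · exact Or.inl ((Nat.prime_dvd_prime_iff_eq hr Nat.prime_two).1 (hr.dvd_of_dvd_pow h))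
        · exact Or.inr (Or.inl ((Nat.prime_dvd_prime_iff_eq hr Nat.prime_three).1 h))
        · exact Or.inr (Or.inr ((Nat.prime_dvd_prime_iff_eq hr Nat.prime_five).1 h))
      have he1 : e h' ≠ 1 := fun h1 => hh'1 (e.map_eq_one_iff.1 h1)
      rcases hr5 with rfl | rfl | rfl
      · have hu' := huniq h' hpow hh'1
        rw [hu'] at hfx''
        have hm : g⁻¹ * x'' ∈ K := hmemK.2 (by rw [map_mul, map_inv, hfx'', hg, inv_mul_cancel])
        refine hn1 (hD n hnK ?_)
        rw [conj_eq_of_diff_mem hKab hm hnK,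
          (Subgroup.mem_centralizer_singleton_iff.1 hnm.2).symm, mul_inv_cancel_right]
      · exact hfin _ (SL25Count.cube_centralizer (by rw [← map_pow, hpow, map_one]) he1) rfl
      · exact hfin _ (SL25Count.fifth_centralizer (by rw [← map_pow, hpow, map_one]) he1) rfl
    · conv_rhs => rw [← hVK x hx n hnK]
      group
  have hidx : (Subgroup.centralizer ({n} : Set G)).index = 120 := by
    rw [hCn, Subgroup.index_comap_of_surjective _ hf, ← hH120, ← hVH.symm.index_eq_card]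
  have hcl : Nat.card {z : G // IsConj n z} + 1 = Nat.card K := by
    haveI := Fintype.ofFinite G
    rw [Nat.card_eq_fintype_card, Nat.card_eq_fintype_card]
    have h1 : Fintype.card {z : K // z ≠ 1} + 1 = Fintype.card K := by
      rw [Fintype.card_subtype_compl, Fintype.card_subtype_eq]
      have := Fintype.card_pos (α := K)
      omega
    rw [← h1]
    congr 1
    refine Fintype.card_congr
      { toFun := fun z => ⟨⟨z.1, hmemK.2 (by
          have := f.map_isConj z.2
          rw [hn] at this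
          exact isConj_one_right.1 this)⟩, fun h1 => hn1 (by
            have h := z.2
            rw [show z.1 = 1 from congrArg Subtype.val h1] at h
            exact isConj_one_left.1 h)⟩
        invFun := fun z => ⟨z.1.1, (hKconj z.1.1 z.1.2 fun h => z.2 (Subtype.ext h)).symm⟩
        left_inv := fun _ => rfl
        right_inv := fun _ => rfl }
  rw [index_centralizer] at hidx
  rw [hidx] at hcl
  exact hcop (hcl ▸ (by norm_num))

section Reduced

variable {p : ℕ} [Fact p.Prime] {G : Type*} [Group G] [Finite G]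

theorem card_conjClasses_congr {A B : Type*} [Group A] [Group B] [Finite A] [Finite B]
    (e : A ≃* B) : Nat.card (ConjClasses A) = Nat.card (ConjClasses B) :=
  le_antisymm
    (Nat.card_le_card_of_surjective _ (ConjClasses.map_surjective (f := e.symm.toMonoidHom) e.symm.surjective))
    (Nat.card_le_card_of_surjective _ (ConjClasses.map_surjective (f := e.toMonoidHom) e.surjective))

/-- A Frobenius group of order `p (p - 1)` is affine. -/
theorem equiv_affine {V H : Subgroup G} [V.Normal] (hVH : Subgroup.IsComplement' V H)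
    (hVp : Nat.card V = p) (hHc : Nat.card H = p - 1)
    (hfaith : ∀ h ∈ H, (∀ v ∈ V, h * v * h⁻¹ = v) → h = 1) :
    Nonempty (G ≃* ↥(Cfsg.affineGroup (ZMod p))) := by
  classical
  haveI : Fact (1 < p) := ⟨(Fact.out : p.Prime).one_lt⟩
  haveI : IsCyclic V := isCyclic_of_prime_card hVp
  obtain ⟨e⟩ : Nonempty (Multiplicative (ZMod p) ≃* V) := ⟨hVp ▸ zmodCyclicMulEquiv ‹IsCyclic V›⟩
  have hVc : ∀ a ∈ V, ∀ b ∈ V, a * b = b * a := fun a ha b hb =>
    congrArg Subtype.val (IsMulCommutative.is_comm.comm (⟨a, ha⟩ : V) ⟨b, hb⟩)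
  let A : G → ZMod p → ZMod p := fun g x =>
    Multiplicative.toAdd (e.symm (MulAut.conjNormal g (e (Multiplicative.ofAdd x))))
  have hAadd : ∀ g x y, A g (x + y) = A g x + A g y := fun g x y => by
    simp only [A, ofAdd_add, map_mul, toAdd_mul]
  have hAlin : ∀ g x, A g x = A g 1 * x := by
    intro g x
    have hnat : ∀ m : ℕ, A g m = A g 1 * m := by
      intro m
      induction m with
      | zero =>
        have := hAadd g 0 0
        simp only [add_zero] at this
        rw [Nat.cast_zero, mul_zero]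
        exact left_eq_add.1 this
      | succ m ih => rw [Nat.cast_succ, hAadd, ih, mul_add, mul_one]
    rw [← ZMod.natCast_zmod_val x]
    exact hnat _
  have hA0 : ∀ g, A g 1 ≠ 0 := fun g h => by
    have hz : A g 1 = A g 0 := by rw [h, hAlin g 0, h, mul_zero]
    simp only [A, EmbeddingLike.apply_eq_iff_eq] at hz
    exact one_ne_zero hz
  let au : G → (ZMod p)ˣ := fun g => Units.mk0 _ (hA0 g)
  choose vp hvp hp' hhp' hdec using exists_decomp hVH
  have hconjV : ∀ g, ∀ w ∈ V, g * w * g⁻¹ = hp' g * w * (hp' g)⁻¹ := by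
    intro g w hw
    conv_lhs => rw [← hdec g]
    have hm : hp' g * w * (hp' g)⁻¹ ∈ V := Subgroup.Normal.conj_mem inferInstance w hw _
    calc vp g * hp' g * w * (vp g * hp' g)⁻¹ = vp g * (hp' g * w * (hp' g)⁻¹) * (vp g)⁻¹ := by group
      _ = _ := by rw [hVc _ (hvp g) _ hm, mul_inv_cancel_right]
  have huniq : ∀ {v v' h h' : G}, v ∈ V → v' ∈ V → h ∈ H → h' ∈ H → v * h = v' * h' →
      v = v' ∧ h = h' := by
    intro v v' h h' hv hv' hh hh' he
    have := @hVH.1 (⟨v, hv⟩, ⟨h, hh⟩) (⟨v', hv'⟩, ⟨h', hh'⟩) he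
    exact ⟨congrArg (fun x => (x.1 : G)) this, congrArg (fun x => (x.2 : G)) this⟩
  let b : G → ZMod p := fun g => Multiplicative.toAdd (e.symm ⟨vp g, hvp g⟩)
  let act : G → ZMod p → ZMod p := fun g x => A g x + b g
  have hmul : ∀ g g' x, act (g * g') x = act g (act g' x) := by
    intro g g' x
    have hg' : vp (g * g') = vp g * (g * vp g' * g⁻¹) := by
      refine (huniq (hvp _) (V.mul_mem (hvp g) (Subgroup.Normal.conj_mem inferInstance _ (hvp g') g))
        (hhp' (g * g')) (H.mul_mem (hhp' g) (hhp' g')) ?_).1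
      rw [hdec, hconjV g _ (hvp g')]
      conv_lhs => rw [← hdec g, ← hdec g']
      group
    have hb : b (g * g') = b g + A g (b g') := by
      simp only [b, A, ofAdd_toAdd, MulEquiv.apply_symm_apply, ← toAdd_mul, ← map_mul]
      congr 2
      exact Subtype.ext (by simp [hg'])
    have hA : A (g * g') x = A g (A g' x) := by
      simp only [A, ofAdd_toAdd, MulEquiv.apply_symm_apply, map_mul, MulAut.mul_apply]
    simp only [act, hb, hA, hAadd]
    abel
  have hone : ∀ x, act 1 x = x := by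
    intro x
    have h1 := hmul 1 1 x
    rw [mul_one] at h1
    have hinj : Function.Injective (act 1) := fun a c hac => by
      have h2 : A 1 a = A 1 c := add_right_cancel hac
      simpa [A] using h2
    exact (hinj h1).symm
  let ψ : G →* ↥(Cfsg.affineGroup (ZMod p)) :=
    { toFun := fun g => ⟨⟨act g, act g⁻¹, fun x => by rw [← hmul, inv_mul_cancel, hone],
          fun x => by rw [← hmul, mul_inv_cancel, hone]⟩, au g, b g, fun x => by
            show act g x = _
            simp only [act, au, Units.val_mk0]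
            rw [hAlin g x]⟩
      map_one' := Subtype.ext (Equiv.ext hone)
      map_mul' := fun g g' => Subtype.ext (Equiv.ext (hmul g g')) }
  have hψ : Function.Injective ψ := by
    rw [injective_iff_map_eq_one]
    intro g hg
    have hx : ∀ x, act g x = x := fun x => congrArg (fun s => (s.1 : ZMod p → ZMod p) x) hg
    have hb : b g = 0 := by
      have h0 := hx 0
      simp only [act] at h0
      rw [hAlin g 0, mul_zero, zero_add] at h0
      exact h0
    have hv1 : vp g = 1 := by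
      have h2 : e.symm ⟨vp g, hvp g⟩ = 1 := hb
      exact congrArg Subtype.val (e.symm.map_eq_one_iff.1 h2)
    have hh1 : hp' g = 1 := by
      refine hfaith _ (hhp' g) fun v hv => ?_
      rw [← hconjV g v hv]
      obtain ⟨x, hx'⟩ := e.surjective ⟨v, hv⟩
      have h3 := hx (Multiplicative.toAdd x)
      simp only [act, hb, add_zero, A, ofAdd_toAdd, hx'] at h3
      have h4 := congrArg (fun y => (e (Multiplicative.ofAdd y) : G)) h3
      simpa [hx'] using h4
    rw [← hdec g, hv1, hh1, mul_one]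
  have hcard : Nat.card ↥(Cfsg.affineGroup (ZMod p)) ≤ Nat.card G := by
    have hG : Nat.card G = p * (p - 1) := by rw [← hVH.card_mul, hVp, hHc]
    have hco : ∀ s : ↥(Cfsg.affineGroup (ZMod p)), ∃ ab : (ZMod p)ˣ × ZMod p,
        ∀ x, s.1 x = (ab.1 : ZMod p) * x + ab.2 := fun s => by
      obtain ⟨a, c, h⟩ := s.2
      exact ⟨(a, c), h⟩
    choose co hco using hco
    refine (Nat.card_le_card_of_injective co fun s t hst =>
      Subtype.ext (Equiv.ext fun x => by rw [hco, hco, hst])).trans (le_of_eq ?_)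
    rw [Nat.card_prod, Nat.card_units, Nat.card_zmod, hG, mul_comm]
  exact ⟨MulEquiv.ofBijective ψ ((Nat.bijective_iff_injective_and_card ψ).2
    ⟨hψ, le_antisymm (Nat.card_le_card_of_injective ψ hψ) hcard⟩)⟩

/-- The case `O_{p'}(G) = 1`. -/
theorem reduced (hsolv : Cfsg.IsPSolvable p G) (hdiv : p ∣ Nat.card G)
    (hconj : ∀ x y : G, x ≠ 1 → y ≠ 1 → (∃ k : ℕ, orderOf x = p ^ k) →
      (∃ k : ℕ, orderOf y = p ^ k) → IsConj x y) (hcore : Cfsg.pPrimeCore p G = ⊥) :
    p ≤ Nat.card (RC p G) ∨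
      (Nat.card (RC p G) = p - 1 ∧ Nonempty (G ≃* ↥(Cfsg.affineGroup (ZMod p)))) ∨
      (p = 11 ∧ Nat.card (RC p G) = 9 ∧ Exc G) := by
  classical
  have hp : p.Prime := Fact.out
  obtain ⟨x0, hx0⟩ := exists_prime_orderOf_dvd_card' (G := G) p hdiv
  have hx01 : x0 ≠ 1 := fun h => by rw [h, orderOf_one] at hx0; exact hp.one_lt.ne hx0
  haveI : Nontrivial G := ⟨x0, 1, hx01⟩
  obtain ⟨V, hVn, hV1, hV⟩ := Hall.PSolvable.exists_normal hsolv
  haveI := hVn
  have hVp : IsPGroup p V := hV.resolve_right fun h =>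
    hV1 (le_bot_iff.1 (hcore ▸ PSolvable.le_pPrimeCore hVn h))
  have hpel : ∀ v ∈ V, ∃ k : ℕ, orderOf v = p ^ k := fun v hv => by
    obtain ⟨k, hk⟩ := IsPGroup.iff_orderOf.1 hVp ⟨v, hv⟩
    exact ⟨k, by rwa [Subgroup.orderOf_mk] at hk⟩
  obtain ⟨v0, hv0, hv01⟩ := (Subgroup.bot_or_exists_ne_one V).resolve_left hV1
  have hmemV : ∀ x : G, (∃ k : ℕ, orderOf x = p ^ k) → x ∈ V := by
    intro x hx
    rcases eq_or_ne x 1 with rfl | hx1
    · exact V.one_mem
    obtain ⟨c, hc⟩ := isConj_iff.1 (hconj v0 x hv01 hx1 (hpel v0 hv0) hx)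
    rw [← hc]
    exact hVn.conj_mem v0 hv0 c
  have hexp : ∀ v ∈ V, v ^ p = 1 := by
    intro v hv
    rcases eq_or_ne v 1 with rfl | hv1
    · exact one_pow p
    obtain ⟨c, hc⟩ := isConj_iff.1 (hconj x0 v hx01 hv1 ⟨1, by rw [hx0, pow_one]⟩ (hpel v hv))
    rw [← hc, conj_pow, ← hx0, pow_orderOf_eq_one, mul_one, mul_inv_cancel]
  haveI : Nontrivial V := (Subgroup.nontrivial_iff_ne_bot V).2 hV1
  haveI := hVp.center_nontrivial
  obtain ⟨z, hz1⟩ := exists_ne (1 : Subgroup.center V)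
  have hz1' : (((z : V) : G)) ≠ 1 := fun h => hz1 (Subtype.ext (Subtype.ext h))
  have hVc : ∀ a ∈ V, ∀ b ∈ V, a * b = b * a := by
    intro a ha b hb
    rcases eq_or_ne a 1 with rfl | ha1
    · rw [one_mul, mul_one]
    obtain ⟨u, hu⟩ := isConj_iff.1 (hconj _ a hz1' ha1 (hpel _ (z : V).2) (hpel a ha))
    have hb' : u⁻¹ * b * u ∈ V := by
      have := hVn.conj_mem b hb u⁻¹
      rwa [inv_inv] at this
    have hcc : u⁻¹ * b * u * ((z : V) : G) = ((z : V) : G) * (u⁻¹ * b * u) :=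
      congrArg Subtype.val (Subgroup.mem_center_iff.1 z.2 ⟨_, hb'⟩)
    rw [← hu]
    calc u * ((z : V) : G) * u⁻¹ * b = u * (((z : V) : G) * (u⁻¹ * b * u)) * u⁻¹ := by group
      _ = u * (u⁻¹ * b * u * ((z : V) : G)) * u⁻¹ := by rw [hcc]
      _ = _ := by group
  have hidx : ¬ p ∣ V.index := fun h => by
    let S : Sylow p G := Classical.arbitrary _
    have hSV : (S : Subgroup G) ≤ V := fun x hx => hmemV x (by
      obtain ⟨k, hk⟩ := IsPGroup.iff_orderOf.1 S.isPGroup' ⟨x, hx⟩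
      exact ⟨k, by rwa [Subgroup.orderOf_mk] at hk⟩)
    exact S.not_dvd_index (h.trans (Subgroup.index_dvd_of_le hSV))
  have hcopVI : (Nat.card V).Coprime V.index := by
    obtain ⟨m, hm⟩ := hVp.exists_card_eq
    rw [hm]
    exact (hp.coprime_iff_not_dvd.2 hidx).pow_left m
  obtain ⟨H, hVH⟩ := Subgroup.exists_right_complement'_of_coprime hcopVI
  have hHp : ¬ p ∣ Nat.card H := by rwa [← hVH.symm.index_eq_card]
  have hconjV : ∀ v0 ∈ V, ∀ h ∈ H, ∀ w ∈ V, v0 * h * w * (v0 * h)⁻¹ = h * w * h⁻¹ := by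
    intro a ha h _ w hw
    calc a * h * w * (a * h)⁻¹ = a * (h * w * h⁻¹) * a⁻¹ := by group
      _ = _ := by rw [hVc a ha _ (hVn.conj_mem w hw h), mul_inv_cancel_right]
  have hfaith : ∀ h ∈ H, (∀ v ∈ V, h * v * h⁻¹ = v) → h = 1 := by
    intro h hh hc
    have hLn : (H ⊓ Subgroup.centralizer (V : Set G)).Normal := ⟨fun l hl g => by
      obtain ⟨a, ha, k, hk, rfl⟩ := exists_decomp hVH g
      have hl' : k * l * k⁻¹ ∈ H ⊓ Subgroup.centralizer (V : Set G) := by
        refine ⟨H.mul_mem (H.mul_mem hk hl.1) (H.inv_mem hk),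
          Subgroup.mem_centralizer_iff.2 fun w hw => ?_⟩
        have hw' : k⁻¹ * w * k ∈ V := by
          have := hVn.conj_mem w hw k⁻¹
          rwa [inv_inv] at this
        have h1 := Subgroup.mem_centralizer_iff.1 hl.2 _ hw'
        calc w * (k * l * k⁻¹) = k * (k⁻¹ * w * k * l) * k⁻¹ := by group
          _ = k * (l * (k⁻¹ * w * k)) * k⁻¹ := by rw [h1]
          _ = _ := by group
      have h2 := Subgroup.mem_centralizer_iff.1 hl'.2 a ha
      rw [show a * k * l * (a * k)⁻¹ = a * (k * l * k⁻¹) * a⁻¹ by group, h2,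
        mul_inv_cancel_right]
      exact hl'⟩
    have hle : H ⊓ Subgroup.centralizer (V : Set G) ≤ ⊥ := hcore ▸ PSolvable.le_pPrimeCore hLn
      ((hp.coprime_iff_not_dvd.2 fun hd =>
        hHp (hd.trans (Subgroup.card_dvd_of_le inf_le_left))).symm)
    exact Subgroup.mem_bot.1 (hle ⟨hh, Subgroup.mem_centralizer_iff.2 fun v hv => by
      conv_lhs => rw [← hc v hv]
      group⟩)
  -- the linear group
  letI : CommGroup V :=
    { (inferInstance : Group V) with
      mul_comm := fun a b => Subtype.ext (hVc a a.2 b b.2) }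
  have hexp' : ∀ w : Additive V, p • w = 0 := fun w =>
    Additive.toMul.injective (Subtype.ext (by simpa using hexp _ (Additive.toMul w).2))
  letI : Module (ZMod p) (Additive V) := AddCommGroup.zmodModule (n := p) hexp'
  let ρ : H →* (Additive V ≃ₗ[ZMod p] Additive V) :=
    { toFun := fun g => (MulEquiv.toAdditive (MulAut.conjNormal (g : G) : MulAut V)).toLinearEquiv
        (fun c x => ZMod.map_smul (MulEquiv.toAdditive (MulAut.conjNormal (g : G) : MulAut V)) c x)
      map_one' := LinearEquiv.ext fun w => Additive.toMul.injective (Subtype.ext (by simp))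
      map_mul' := fun a b => LinearEquiv.ext fun w => Additive.toMul.injective (Subtype.ext (by
        simp [mul_assoc])) }
  have hval : ∀ (g : H) (w : Additive V),
      ((Additive.toMul (ρ g w) : V) : G) = g * (Additive.toMul w : V) * (g : G)⁻¹ := by
    intro g w
    simp [ρ]
  have hρ : Function.Injective ρ := by
    rw [injective_iff_map_eq_one]
    intro g hg
    refine Subtype.ext (hfaith g g.2 fun v hv => ?_)
    have h := hval g (Additive.ofMul (⟨v, hv⟩ : V))
    rw [hg] at h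
    exact h.symm
  have htrans : ∀ u w : Additive V, u ≠ 0 → w ≠ 0 → ∃ g : H, ρ g u = w := by
    intro u w hu hw
    obtain ⟨c, hc⟩ := isConj_iff.1 (hconj ((Additive.toMul u : V) : G) ((Additive.toMul w : V) : G)
      (fun h => hu (Additive.toMul.injective (Subtype.ext h)))
      (fun h => hw (Additive.toMul.injective (Subtype.ext h)))
      (hpel _ (Additive.toMul u).2) (hpel _ (Additive.toMul w).2))
    obtain ⟨a, ha, k, hk, rfl⟩ := exists_decomp hVH c
    rw [hconjV a ha k hk _ (Additive.toMul u).2] at hc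
    exact ⟨⟨k, hk⟩, Additive.toMul.injective (Subtype.ext ((hval _ _).trans hc))⟩
  have hQall : ∀ x : G ⧸ V, ¬ p ∣ orderOf x := fun x h => hidx (h.trans (by
    rw [Subgroup.index]; exact orderOf_dvd_natCard x))
  have hkle : Nat.card (ConjClasses H) ≤ Nat.card (RC p G) := by
    rw [card_conjClasses_congr (hVH.symm.QuotientMulEquiv).symm]
    refine le_of_eq_of_le ?_ (card_le (p := p) (QuotientGroup.mk' V)
      (QuotientGroup.mk'_surjective V))
    exact Nat.card_congr (Equiv.subtypeUnivEquiv fun c => by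
      obtain ⟨x, rfl⟩ := ConjClasses.mk_surjective c
      exact ⟨x, rfl, hQall x⟩).symm
  -- in the fixed point free case the bound is exact
  have hkge : (∀ g : H, g ≠ 1 → ∀ w : Additive V, ρ g w = w → w = 0) →
      (∀ h ∈ H, h ≠ 1 → ∀ v ∈ V, h * v * h⁻¹ = v → v = 1) ∧
        Nat.card (RC p G) = Nat.card (ConjClasses H) := by
    intro hfree
    have hfpf : ∀ h ∈ H, h ≠ 1 → ∀ v ∈ V, h * v * h⁻¹ = v → v = 1 := by
      intro h hh hh1 v hv he
      have := hfree ⟨h, hh⟩ (fun e => hh1 (congrArg Subtype.val e))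
        (Additive.ofMul (⟨v, hv⟩ : V)) (Additive.toMul.injective (Subtype.ext ((hval _ _).trans he)))
      exact congrArg (fun w : Additive V => ((Additive.toMul w : V) : G)) this
    refine ⟨hfpf, le_antisymm ?_ hkle⟩
    refine Nat.card_le_card_of_surjective (fun c : ConjClasses H =>
      (⟨ConjClasses.map H.subtype c, by
        obtain ⟨h, rfl⟩ := ConjClasses.mk_surjective c
        exact ⟨h, rfl, fun hd => hHp (hd.trans (by
          rw [Subgroup.orderOf_coe]; exact orderOf_dvd_natCard h))⟩⟩ : RC p G)) ?_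
    rintro ⟨c, x, rfl, hx⟩
    obtain ⟨v, hv, h, hh, rfl⟩ := exists_decomp hVH x
    rcases eq_or_ne h 1 with rfl | hh1
    · have hv1 : v = 1 := by
        by_contra hne
        refine hx ?_
        rw [mul_one, orderOf_eq_prime (hexp v hv) hne]
      exact ⟨ConjClasses.mk 1, Subtype.ext (congrArg ConjClasses.mk
        (show (1 : G) = v * 1 by rw [hv1, mul_one]))⟩
    let φ : V → V := fun w => ⟨(w : G) * (h * (w : G)⁻¹ * h⁻¹),
      V.mul_mem w.2 (hVn.conj_mem _ (V.inv_mem w.2) h)⟩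
    have hφ : Function.Injective φ := by
      intro a b hab
      have h1 : (a : G) * (h * (a : G)⁻¹ * h⁻¹) = (b : G) * (h * (b : G)⁻¹ * h⁻¹) :=
        congrArg Subtype.val hab
      have h2 : h * ((b : G)⁻¹ * a) * h⁻¹ = (b : G)⁻¹ * a := by
        calc h * ((b : G)⁻¹ * a) * h⁻¹ = h * (b : G)⁻¹ * h⁻¹ * (h * (a : G)⁻¹ * h⁻¹)⁻¹ := by group
          _ = (b : G)⁻¹ * ((b : G) * (h * (b : G)⁻¹ * h⁻¹)) * (h * (a : G)⁻¹ * h⁻¹)⁻¹ := by group
          _ = (b : G)⁻¹ * ((a : G) * (h * (a : G)⁻¹ * h⁻¹)) * (h * (a : G)⁻¹ * h⁻¹)⁻¹ := by rw [h1]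
          _ = _ := by group
      have h3 := hfpf h hh hh1 _ (V.mul_mem (V.inv_mem b.2) a.2) h2
      exact Subtype.ext (inv_mul_eq_one.1 h3).symm
    obtain ⟨w, hw⟩ := Finite.injective_iff_surjective.1 hφ ⟨v, hv⟩
    refine ⟨ConjClasses.mk ⟨h, hh⟩, Subtype.ext ?_⟩
    show ConjClasses.mk h = ConjClasses.mk (v * h)
    rw [ConjClasses.mk_eq_mk_iff_isConj, isConj_iff]
    refine ⟨(w : G), ?_⟩
    have hw' : (w : G) * (h * (w : G)⁻¹ * h⁻¹) = v := congrArg Subtype.val hw
    rw [← hw']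
    group
  rcases KGV46.class_lower ρ hρ htrans hHp with hc | ⟨hcardV, hcom, hcH, hk⟩ |
      ⟨rfl, hcardV, hk, hcH, hfree, hiso⟩
  · exact Or.inl (hc.trans hkle)
  · have hfree : ∀ g : H, g ≠ 1 → ∀ w : Additive V, ρ g w = w → w = 0 := by
      intro g hg w hw
      by_contra hw0
      refine hg (hρ (LinearEquiv.ext fun a => ?_))
      rw [map_one]
      rcases eq_or_ne a 0 with rfl | ha
      · rw [map_zero, map_zero]
      obtain ⟨k, rfl⟩ := htrans w a hw0 ha
      show ρ g (ρ k w) = ρ k w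
      rw [← rho_mul_apply, hcom g k, rho_mul_apply, hw]
    have hcV : Nat.card V = p := by rw [← hcardV]; exact Nat.card_congr Additive.ofMul
    refine Or.inr (Or.inl ⟨(hkge hfree).2.trans hk, ?_⟩)
    exact equiv_affine hVH hcV hcH hfaith
  · refine Or.inr (Or.inr ⟨rfl, (hkge hfree).2.trans hk, V, H, hVn, hVH, ?_, hcH, hVc,
      (hkge hfree).1, hiso⟩)
    rw [← hcardV]
    exact Nat.card_congr Additive.ofMul

end Reduced

/-- The exceptional group is a Frobenius group. -/
theorem Exc.frobenius {G : Type*} [Group G] [Finite G] (h : Exc G) :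
    Nat.card G = 121 * 120 ∧ ∃ H : Subgroup G,
      Cfsg.IsFrobeniusComplement H ∧ Nonempty (↥H ≃* SL25) := by
  obtain ⟨V, H, hVn, hVH, hV, hH, hVc, hfpf, hiso⟩ := h
  haveI := hVn
  have hG : Nat.card G = 121 * 120 := by rw [← hVH.card_mul, hV, hH]
  refine ⟨hG, H, ⟨fun hb => ?_, fun ht => ?_, fun g hg => ?_⟩, hiso⟩
  · rw [hb, Subgroup.card_bot] at hH
    omega
  · rw [ht, Subgroup.card_top, hG] at hH
    omega
  rw [eq_bot_iff]
  intro x hx
  rw [Subgroup.mem_bot]
  by_contra hx1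
  obtain ⟨y, hy, rfl⟩ := (Subgroup.mem_smul_pointwise_iff_exists _ _ _).1 hx.2
  obtain ⟨v, hv, k, hk, rfl⟩ := exists_decomp hVH g
  have hxH : (MulAut.conj (v * k)) • y ∈ H := hx.1
  have hyk : k * y * k⁻¹ ∈ H := H.mul_mem (H.mul_mem hk hy) (H.inv_mem hk)
  obtain ⟨a, hadef⟩ : ∃ a, a = k * y * k⁻¹ := ⟨_, rfl⟩
  have hconj : (MulAut.conj (v * k)) • y = v * a * v⁻¹ := by
    show (MulAut.conj (v * k)) y = _
    rw [MulAut.conj_apply, hadef]
    group
  rw [hconj] at hxH hx1
  rw [← hadef] at hyk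
  have ha1 : a ≠ 1 := fun h1 => hx1 (by rw [h1, mul_one, mul_inv_cancel])
  have hm : v * (a * v⁻¹ * a⁻¹) ∈ V :=
    V.mul_mem hv (hVn.conj_mem _ (V.inv_mem hv) a)
  have h1 : v * (a * v⁻¹ * a⁻¹) = 1 := Subgroup.disjoint_def.1 hVH.disjoint hm (by
    rw [show v * (a * v⁻¹ * a⁻¹) = v * a * v⁻¹ * a⁻¹ by group]
    exact H.mul_mem hxH (H.inv_mem hyk))
  have h2 : a * v⁻¹ * a⁻¹ = v⁻¹ := eq_inv_of_mul_eq_one_right h1
  refine hg (H.mul_mem ?_ hk)
  rw [inv_eq_one.1 (hfpf a hyk ha1 v⁻¹ (V.inv_mem hv) h2)]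
  exact H.one_mem

end Cfsg.Agent.Lib.KGV46.OneClassP
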