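import Mathlib

/-!
# The orbit equation of a group with abelian centralisers outside the centre

`∑ (1 - 1/e) / ν = 1 - 1/g` with `ν ∈ {1, 2}` has the solutions of the finite subgroups of `PGL₂`.
-/

set_option autoImplicit false

namespace Cfsg.Agent.Lib.KGV46

theorem weight_ge {e ν : ℕ} (he : 2 ≤ e) (hν : ν = 1 ∨ ν = 2) :
    (1 / 4 : ℚ) ≤ (1 - 1 / (e : ℚ)) / ν := by
  have he' : (2 : ℚ) ≤ e := by exact_mod_cast he
  have h : 1 / (e : ℚ) ≤ 1 / 2 := one_div_le_one_div_of_le (by norm_num) he'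
  rcases hν with rfl | rfl <;> push_cast <;> linarith

/-- Two orbits, one of them its own normaliser. -/
theorem two_orbits {e f g : ℕ} (he : 2 ≤ e) (hf : 2 ≤ f) (hg : 0 < g)
    (h : (1 - 1 / (e : ℚ)) + (1 - 1 / (f : ℚ)) / 2 = 1 - 1 / (g : ℚ)) :
    (e = 2 ∧ g = 2 * f) ∨ (e = 3 ∧ f = 2 ∧ g = 12) := by
  have he' : (2 : ℚ) ≤ e := by exact_mod_cast he
  have hf' : (2 : ℚ) ≤ f := by exact_mod_cast hf
  have hg' : (0 : ℚ) < g := by exact_mod_cast hg
  have hgp : 0 < 1 / (g : ℚ) := by positivity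
  have hf2 : 1 / (f : ℚ) ≤ 1 / 2 := one_div_le_one_div_of_le (by norm_num) hf'
  have he4 : e < 4 := by
    by_contra hc
    have : 1 / (e : ℚ) ≤ 1 / 4 := one_div_le_one_div_of_le (by norm_num) (by exact_mod_cast not_lt.1 hc)
    linarith
  interval_cases e
  · left
    refine ⟨rfl, ?_⟩
    have : (g : ℚ) = 2 * f := by
      have h1 : 1 / (g : ℚ) = 1 / (2 * f) := by rw [← div_div]; push_cast at h ⊢; linarith [h, show 1 / (2:ℚ) / f = (1 / f) / 2 by ring]
      rw [one_div, one_div] at h1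
      exact inv_inj.1 h1
    exact_mod_cast this
  · right
    have hf3 : f < 3 := by
      by_contra hc
      have : 1 / (f : ℚ) ≤ 1 / 3 := one_div_le_one_div_of_le (by norm_num) (by exact_mod_cast not_lt.1 hc)
      push_cast at h
      linarith
    obtain rfl : f = 2 := by omega
    refine ⟨rfl, rfl, ?_⟩
    have h1 : 1 / (g : ℚ) = 1 / 12 := by push_cast at h; linarith
    have : (g : ℚ) = 12 := by simpa [one_div] using h1
    exact_mod_cast this

/-- Three orbits, one of them with `e = 2`. -/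
theorem three_orbits {b c g : ℕ} (hb : 2 ≤ b) (hc : 2 ≤ c) (hg : 0 < g)
    (h : 1 / (b : ℚ) + 1 / (c : ℚ) = 1 / 2 + 2 / (g : ℚ)) :
    (b = 2 ∧ g = 2 * c) ∨ (c = 2 ∧ g = 2 * b) ∨
      (b + c = 6 ∧ g = 12) ∨ (b + c = 7 ∧ g = 24) ∨ (b + c = 8 ∧ g = 60) := by
  have hb' : (2 : ℚ) ≤ b := by exact_mod_cast hb
  have hc' : (2 : ℚ) ≤ c := by exact_mod_cast hc
  have hg' : (0 : ℚ) < g := by exact_mod_cast hg
  have hgp : 0 < 2 / (g : ℚ) := by positivity
  have two : ∀ x : ℕ, 2 ≤ x → 1 / (2 : ℚ) + 1 / x = 1 / 2 + 2 / (g : ℚ) → g = 2 * x := by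
    intro x hx hxe
    have hx0 : (x : ℚ) ≠ 0 := by positivity
    have h1 : 1 / (x : ℚ) = 2 / g := by linarith
    rw [div_eq_div_iff hx0 hg'.ne', one_mul] at h1
    exact_mod_cast h1
  rcases Nat.lt_or_ge b 3 with hb2 | hb3
  · obtain rfl : b = 2 := by omega
    exact Or.inl ⟨rfl, two c hc (by exact_mod_cast h)⟩
  rcases Nat.lt_or_ge c 3 with hc2 | hc3
  · obtain rfl : c = 2 := by omega
    exact Or.inr (Or.inl ⟨rfl, two b hb (by push_cast at h ⊢; linarith)⟩)
  right; right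
  have key : ∀ x y : ℕ, 3 ≤ x → x ≤ y → 1 / (x : ℚ) + 1 / (y : ℚ) = 1 / 2 + 2 / (g : ℚ) →
      (x + y = 6 ∧ g = 12) ∨ (x + y = 7 ∧ g = 24) ∨ (x + y = 8 ∧ g = 60) := by
    intro x y hx hxy he
    have hx' : (3 : ℚ) ≤ x := by exact_mod_cast hx
    have hxy' : 1 / (y : ℚ) ≤ 1 / x :=
      one_div_le_one_div_of_le (by linarith) (by exact_mod_cast hxy)
    have hx4 : x < 4 := by
      by_contra hcon
      have : 1 / (x : ℚ) ≤ 1 / 4 := one_div_le_one_div_of_le (by norm_num) (by exact_mod_cast not_lt.1 hcon)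
      linarith
    obtain rfl : x = 3 := by omega
    have hy6 : y < 6 := by
      by_contra hcon
      have : 1 / (y : ℚ) ≤ 1 / 6 := one_div_le_one_div_of_le (by norm_num) (by exact_mod_cast not_lt.1 hcon)
      push_cast at he
      linarith
    have hg0 := hg'.ne'
    interval_cases y
    · refine Or.inl ⟨rfl, ?_⟩
      have : (g : ℚ) = 12 := by push_cast at he; field_simp at he; linarith
      exact_mod_cast this
    · refine Or.inr (Or.inl ⟨rfl, ?_⟩)
      have : (g : ℚ) = 24 := by push_cast at he; field_simp at he; linarith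
      exact_mod_cast this
    · refine Or.inr (Or.inr ⟨rfl, ?_⟩)
      have : (g : ℚ) = 60 := by push_cast at he; field_simp at he; linarith
      exact_mod_cast this
  rcases le_total b c with hbc | hbc
  · exact key b c hb3 hbc h
  · have := key c b hc3 hbc (by linarith)
    rwa [add_comm b c]

/-- The possible orbit data and the sum `∑ (e - 1) / ν`. -/
theorem orbit_equation {ι : Type*} (T : Finset ι) (e ν : ι → ℕ) (g : ℕ) (hg : 2 ≤ g)
    (he : ∀ i ∈ T, 2 ≤ e i) (hν : ∀ i ∈ T, ν i = 1 ∨ ν i = 2) (hle : ∀ i ∈ T, 2 * e i ≤ g)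
    (hsum : ∑ i ∈ T, (1 - 1 / (e i : ℚ)) / ν i = 1 - 1 / (g : ℚ)) :
    (∃ i ∈ T, g = 2 * e i ∧ ∑ i ∈ T, ((e i : ℚ) - 1) / ν i = ((e i : ℚ) + 1) / 2) ∨
    (g = 12 ∧ ∑ i ∈ T, ((e i : ℚ) - 1) / ν i = 5 / 2) ∨
    (g = 24 ∧ ∑ i ∈ T, ((e i : ℚ) - 1) / ν i = 3) ∨
    (g = 60 ∧ ∑ i ∈ T, ((e i : ℚ) - 1) / ν i = 7 / 2) := by
  classical
  have hg' : (2 : ℚ) ≤ g := by exact_mod_cast hg
  have hgp : 0 < 1 / (g : ℚ) := by positivity
  have hg2 : 1 / (g : ℚ) ≤ 1 / 2 := one_div_le_one_div_of_le (by norm_num) hg'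
  have hcard : T.card ≤ 3 := by
    have h1 : (T.card : ℚ) * (1 / 4) ≤ 1 - 1 / (g : ℚ) := by
      rw [← hsum]
      have := Finset.card_nsmul_le_sum T (fun i => (1 - 1 / (e i : ℚ)) / ν i) (1 / 4)
        fun i hi => weight_ge (he i hi) (hν i hi)
      simpa using this
    have h2 : (T.card : ℚ) < 4 := by linarith
    have : T.card < 4 := by exact_mod_cast h2
    omega
  have hlt1 : ∀ i ∈ T, 1 / (e i : ℚ) ≤ 1 / 2 := fun i hi =>
    one_div_le_one_div_of_le (by norm_num) (by exact_mod_cast he i hi)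
  have hepos : ∀ i ∈ T, 0 < 1 / (e i : ℚ) := fun i hi => by
    have : (0 : ℚ) < e i := by exact_mod_cast (by have := he i hi; omega)
    positivity
  interval_cases hc : T.card
  · rw [Finset.card_eq_zero.1 hc, Finset.sum_empty] at hsum
    linarith
  · obtain ⟨i, rfl⟩ := Finset.card_eq_one.1 hc
    rw [Finset.sum_singleton] at hsum
    have hi := Finset.mem_singleton_self i
    exfalso
    rcases hν i hi with h | h <;> rw [h] at hsum <;> push_cast at hsum
    · have h1 : 1 / (e i : ℚ) = 1 / g := by linarith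
      have h2 : (e i : ℚ) = g := by simpa [one_div] using h1
      have h3 : e i = g := by exact_mod_cast h2
      have := hle i hi
      omega
    · have := hepos i hi
      linarith
  · obtain ⟨i, j, hij, rfl⟩ := Finset.card_eq_two.1 hc
    rw [Finset.sum_pair hij] at hsum
    simp only [Finset.sum_pair hij]
    have hi : i ∈ ({i, j} : Finset ι) := by simp
    have hj : j ∈ ({i, j} : Finset ι) := by simp
    have one_two : ∀ a b, a ∈ ({i, j} : Finset ι) → b ∈ ({i, j} : Finset ι) → ν a = 1 → ν b = 2 →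
        (1 - 1 / (e a : ℚ)) / ν a + (1 - 1 / (e b : ℚ)) / ν b = 1 - 1 / (g : ℚ) →
        (∃ l ∈ ({i, j} : Finset ι), g = 2 * e l ∧
          ((e a : ℚ) - 1) / ν a + ((e b : ℚ) - 1) / ν b = ((e l : ℚ) + 1) / 2) ∨
        (g = 12 ∧ ((e a : ℚ) - 1) / ν a + ((e b : ℚ) - 1) / ν b = 5 / 2) := by
      intro a b ha hb h1 h2 hs
      rw [h1, h2] at hs ⊢
      push_cast at hs ⊢
      rcases two_orbits (g := g) (he a ha) (he b hb) (by omega) (by linarith) with ⟨ea, hgb⟩ | ⟨ea, eb, hg12⟩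
      · refine Or.inl ⟨b, hb, hgb, ?_⟩
        rw [ea]; push_cast; ring
      · refine Or.inr ⟨hg12, ?_⟩
        rw [ea, eb]; norm_num
    rcases hν i hi with h1 | h1 <;> rcases hν j hj with h2 | h2
    · exfalso
      rw [h1, h2] at hsum
      push_cast at hsum
      have := hlt1 i hi
      have := hlt1 j hj
      linarith
    · rcases one_two i j hi hj h1 h2 hsum with h | h
      · exact Or.inl h
      · exact Or.inr (Or.inl h)
    · rcases one_two j i hj hi h2 h1 (by linarith) with ⟨l, hl, hgl, hs⟩ | ⟨hg12, hs⟩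
      · exact Or.inl ⟨l, hl, hgl, by linarith⟩
      · exact Or.inr (Or.inl ⟨hg12, by linarith⟩)
    · exfalso
      rw [h1, h2] at hsum
      push_cast at hsum
      have hb : ∀ l ∈ ({i, j} : Finset ι), 2 / (g : ℚ) ≤ 1 / (e l : ℚ) := by
        intro l hl
        have hel : (0 : ℚ) < e l := by exact_mod_cast (by have := he l hl; omega)
        rw [div_le_div_iff₀ (by linarith) hel, one_mul]
        exact_mod_cast hle l hl
      have := hb i hi
      have := hb j hj
      have : 2 / (g : ℚ) = 2 * (1 / g) := by ring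
      linarith
  · obtain ⟨i, j, l, hij, hil, hjl, rfl⟩ := Finset.card_eq_three.1 hc
    rw [Finset.sum_insert (by simp [hij, hil]), Finset.sum_pair hjl] at hsum
    simp only [Finset.sum_insert (show i ∉ ({j, l} : Finset ι) by simp [hij, hil]),
      Finset.sum_pair hjl]
    have hi : i ∈ ({i, j, l} : Finset ι) := by simp
    have hj : j ∈ ({i, j, l} : Finset ι) := by simp
    have hl : l ∈ ({i, j, l} : Finset ι) := by simp
    have hw : ∀ a ∈ ({i, j, l} : Finset ι), ν a = 1 →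
        (1 / 2 : ℚ) ≤ (1 - 1 / (e a : ℚ)) / ν a := by
      intro a ha h
      rw [h]
      push_cast
      have := hlt1 a ha
      linarith
    have hwi := weight_ge (he i hi) (hν i hi)
    have hwj := weight_ge (he j hj) (hν j hj)
    have hwl := weight_ge (he l hl) (hν l hl)
    have hνi : ν i = 2 := (hν i hi).resolve_left fun h => by have := hw i hi h; linarith
    have hνj : ν j = 2 := (hν j hj).resolve_left fun h => by have := hw j hj h; linarith
    have hνl : ν l = 2 := (hν l hl).resolve_left fun h => by have := hw l hl h; linarith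
    rw [hνi, hνj, hνl] at hsum ⊢
    push_cast at hsum ⊢
    have hmain : ∀ a b c, a ∈ ({i, j, l} : Finset ι) → b ∈ ({i, j, l} : Finset ι) →
        c ∈ ({i, j, l} : Finset ι) → e a = 2 →
        1 / (e a : ℚ) + 1 / (e b : ℚ) + 1 / (e c : ℚ) = 1 + 2 / (g : ℚ) →
        (∃ u ∈ ({i, j, l} : Finset ι), g = 2 * e u ∧
          ((e a : ℚ) - 1) / 2 + ((e b : ℚ) - 1) / 2 + ((e c : ℚ) - 1) / 2 = ((e u : ℚ) + 1) / 2) ∨
        (g = 12 ∧ ((e a : ℚ) - 1) / 2 + ((e b : ℚ) - 1) / 2 + ((e c : ℚ) - 1) / 2 = 5 / 2) ∨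
        (g = 24 ∧ ((e a : ℚ) - 1) / 2 + ((e b : ℚ) - 1) / 2 + ((e c : ℚ) - 1) / 2 = 3) ∨
        (g = 60 ∧ ((e a : ℚ) - 1) / 2 + ((e b : ℚ) - 1) / 2 + ((e c : ℚ) - 1) / 2 = 7 / 2) := by
      intro a b c ha hb hc' ea hs
      rw [ea] at hs ⊢
      push_cast at hs ⊢
      rcases three_orbits (g := g) (he b hb) (he c hc') (by omega) (by linarith) with
        ⟨eb, hgc⟩ | ⟨ec, hgb⟩ | ⟨hbc, hg'⟩ | ⟨hbc, hg'⟩ | ⟨hbc, hg'⟩
      · exact Or.inl ⟨c, hc', hgc, by rw [eb]; push_cast; ring⟩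
      · exact Or.inl ⟨b, hb, hgb, by rw [ec]; push_cast; ring⟩
      · refine Or.inr (Or.inl ⟨hg', ?_⟩)
        have : (e b : ℚ) + e c = 6 := by exact_mod_cast hbc
        linarith
      · refine Or.inr (Or.inr (Or.inl ⟨hg', ?_⟩))
        have : (e b : ℚ) + e c = 7 := by exact_mod_cast hbc
        linarith
      · refine Or.inr (Or.inr (Or.inr ⟨hg', ?_⟩))
        have : (e b : ℚ) + e c = 8 := by exact_mod_cast hbc
        linarith
    have hs2 : 1 / (e i : ℚ) + 1 / (e j : ℚ) + 1 / (e l : ℚ) = 1 + 2 / (g : ℚ) := by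
      rw [show 2 / (g : ℚ) = 2 * (1 / g) by ring]
      linarith
    have h3 : e i = 2 ∨ e j = 2 ∨ e l = 2 := by
      by_contra hcon
      push Not at hcon
      have h13 : ∀ a ∈ ({i, j, l} : Finset ι), e a ≠ 2 → 1 / (e a : ℚ) ≤ 1 / 3 := fun a ha h =>
        one_div_le_one_div_of_le (by norm_num)
          (by exact_mod_cast (by have := he a ha; omega : 3 ≤ e a))
      have := h13 i hi hcon.1
      have := h13 j hj hcon.2.1
      have := h13 l hl hcon.2.2
      have : 0 < 2 / (g : ℚ) := by positivity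
      linarith
    rcases h3 with h | h | h
    · rcases hmain i j l hi hj hl h hs2 with ⟨u, hu, h1, h2⟩ | ⟨h1, h2⟩ | ⟨h1, h2⟩ | ⟨h1, h2⟩
      · exact Or.inl ⟨u, hu, h1, by linarith⟩
      · exact Or.inr (Or.inl ⟨h1, by linarith⟩)
      · exact Or.inr (Or.inr (Or.inl ⟨h1, by linarith⟩))
      · exact Or.inr (Or.inr (Or.inr ⟨h1, by linarith⟩))
    · rcases hmain j i l hj hi hl h (by linarith) with ⟨u, hu, h1, h2⟩ | ⟨h1, h2⟩ | ⟨h1, h2⟩ | ⟨h1, h2⟩
      · exact Or.inl ⟨u, hu, h1, by linarith⟩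
      · exact Or.inr (Or.inl ⟨h1, by linarith⟩)
      · exact Or.inr (Or.inr (Or.inl ⟨h1, by linarith⟩))
      · exact Or.inr (Or.inr (Or.inr ⟨h1, by linarith⟩))
    · rcases hmain l i j hl hi hj h (by linarith) with ⟨u, hu, h1, h2⟩ | ⟨h1, h2⟩ | ⟨h1, h2⟩ | ⟨h1, h2⟩
      · exact Or.inl ⟨u, hu, h1, by linarith⟩
      · exact Or.inr (Or.inl ⟨h1, by linarith⟩)
      · exact Or.inr (Or.inr (Or.inl ⟨h1, by linarith⟩))
      · exact Or.inr (Or.inr (Or.inr ⟨h1, by linarith⟩))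

end Cfsg.Agent.Lib.KGV46
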